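import Mathlib
import Cfsg.Agent.Lib.LAE.Sylow
import Cfsg.Agent.Lib.CFun.Alperin
import Cfsg.Agent.Lib.Dim4.TR
import Cfsg.Agent.Lib.BCor.Str
import Cfsg.Agent.S1169

/-!
Operator groups without fixed involutions: the last step.  If the normalizer of an abelian
subgroup `V` of the Sylow subgroup `S` controls fusion, the simple group has one class of
involutions.
-/

set_option autoImplicit false

open Subgroup Cfsg CfsgLib.LAE
open scoped commutatorElement

namespace CfsgLib.Cop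

variable {X : Type*} [Group X] [Finite X] {A G S V : Subgroup X}

/-- Alperin: if every automorphism of a subgroup of `S` is induced by `N(V)`, then `V` is
strongly closed. -/
theorem closed_of_good (hS : IsSylowIn 2 S G)
    (good : ∀ U ≤ S, ∀ g ∈ G, g ∈ normalizer (U : Set X) →
      ∃ c ∈ centralizer (U : Set X), ∃ m ∈ normalizer (V : Set X), g = c * m)
    {x g : X} (hx : x ∈ V) (hxS : x ∈ S) (hg : g ∈ G) (h : g * x * g⁻¹ ∈ S) :
    g * x * g⁻¹ ∈ V := by
  have : Fact (Nat.Prime 2) := ⟨Nat.prime_two⟩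
  have hS' : Tech.IsSylowIn 2 S G := ⟨hS.le, hS.isPGroup, hS.not_dvd_relIndex⟩
  have key := CFun.alperin_induction_extremal hS'
    (fun T g => ∀ a ∈ T, a ∈ V → g * a * g⁻¹ ∈ V)
    (fun T a b _ _ _ _ _ h1 h2 y hy hv => by
      have := h2 _ (Tech.conj_mem_cj.2 hy) (h1 y hy hv)
      convert this using 1
      group)
    (fun T U g h _ _ _ h1 y hy hv => h1 y (h hy) hv)
    (fun T hT _ _ y hy a ha hv => by
      obtain ⟨c, hc, m, hm, e⟩ := good T hT y⁻¹ (inv_mem hy.1) (inv_mem hy.2)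
      have e1 : y = m⁻¹ * c⁻¹ := by rw [← mul_inv_rev, ← e, inv_inv]
      have e2 : c⁻¹ * a * c = a := by rw [mul_assoc, hc a ha, inv_mul_cancel_left]
      have e3 : y * a * y⁻¹ = m⁻¹ * (c⁻¹ * a * c) * m := by rw [e1]; group
      rw [e3, e2]
      exact conj_inv_mem_of_mem_normalizer hm hv)
  refine key (zpowers x) (zpowers_le.2 hxS) g hg ?_ x (mem_zpowers x) hx
  rw [Tech.cj, MonoidHom.map_zpowers, zpowers_le]
  exact h

/-- A simple group with a non-trivial abelian strongly closed `2`-subgroup has one class of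
involutions. -/
theorem one_class {L : Type*} [Group L] [Finite L] [IsSimpleGroup L] (nc : ¬ IsMulCommutative L)
    (S : Sylow 2 L) {V : Subgroup L} (h1 : V ≠ ⊥) (hc : IsMulCommutative V)
    (hs : IsStronglyClosed V (S : Subgroup L)) {x y : L} (hx : orderOf x = 2)
    (hy : orderOf y = 2) : IsConj x y := by
  rcases Cfsg.Agent.S1169.result S V h1 hc hs with h | ⟨H, hH⟩
  · exact Dim4.isConj_of_ab2 nc S h hx hy
  · exact isConj_iff.2 (BCor.se_isConj hH hx hy)

/-- The last step. -/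
theorem end_false (simple : IsSimpleGroup G) (nc : ¬ IsMulCommutative G)
    (AG : A ≤ normalizer (G : Set X))
    (inv : ∀ t ∈ G, t * t = 1 → (∀ a ∈ A, ∃ g ∈ G, a * t * a⁻¹ = g * t * g⁻¹) → t = 1)
    (hS : IsSylowIn 2 S G) (VS : V ≤ S) (V1 : V ≠ ⊥) (Vc : V ≤ centralizer (V : Set X))
    (good : ∀ U ≤ S, ∀ g ∈ G, g ∈ normalizer (U : Set X) →
      ∃ c ∈ centralizer (U : Set X), ∃ m ∈ normalizer (V : Set X), g = c * m) : False := by
  have : Fact (Nat.Prime 2) := ⟨Nat.prime_two⟩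
  have VG : V ≤ G := VS.trans hS.le
  have pV : IsPGroup 2 V := hS.isPGroup.to_le VS
  have : Nontrivial V := (nontrivial_iff_ne_bot V).2 V1
  obtain ⟨z, hz⟩ := exists_prime_orderOf_dvd_card' (G := V) 2 (by
    obtain ⟨n, hn, e⟩ := pV.nontrivial_iff_card.1 this
    rw [e]
    exact dvd_pow_self 2 hn.ne')
  have oz : orderOf (z : X) = 2 := (orderOf_coe z).trans hz
  have zz : (z : X) * z = 1 := by rw [← pow_two, ← oz, pow_orderOf_eq_one]
  have z1 : (z : X) ≠ 1 := fun e => by simp [e] at oz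
  refine z1 (inv z (VG z.2) zz fun a ha => ?_)
  have hsc : IsStronglyClosed (V.subgroupOf G) (hS.toSylow : Subgroup G) :=
    ⟨fun x hx => VS hx, fun x hx c hc => closed_of_good hS good hx (VS hx) c.2 hc⟩
  have hcj := one_class nc hS.toSylow (V := V.subgroupOf G)
    (ne_bot_iff_exists_ne_one.2 ⟨⟨⟨z, VG z.2⟩, z.2⟩,
      fun e => z1 (congrArg (fun x => ((x.1 : G) : X)) e)⟩)
    ⟨⟨fun x y => Subtype.ext (Subtype.ext (Vc y.2 _ x.2))⟩⟩ hsc
    (x := ⟨z, VG z.2⟩) (y := ⟨a * z * a⁻¹, conj_mem_of_mem_normalizer (AG ha) (VG z.2)⟩)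
    ((orderOf_coe _).symm.trans oz)
    ((orderOf_coe _).symm.trans ((SemiconjBy.orderOf_eq a (by simp [SemiconjBy])).symm.trans oz))
  obtain ⟨c, hc⟩ := isConj_iff.1 hcj
  exact ⟨c, c.2, (congrArg Subtype.val hc).symm⟩

end CfsgLib.Cop
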