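import Mathlib
import Cfsg.Agent.Lib.OFP.Sec

/-! The local configuration for fields with more than two elements, and its transport. -/

set_option autoImplicit false
set_option linter.unusedSectionVars false

namespace CfsgLib.Cop

open Subgroup Cfsg CfsgLib.LAE CfsgLib.Push CfsgLib.Blocks CfsgLib.ZJ CfsgLib.OFP
open scoped commutatorElement

variable {Γ : Type*} [Group Γ]

/-- `K / Q C(Q)` is perfect, `u` is an involution of `Z(Q)` not centralized modulo `Q'` by the elements of `B \ Q`,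
and the torus element `f` acts on `Ω Z(B)` through the character `ψ` as the generator `l` of `Fˣ`. -/
structure BigM (F : Type) [Field F] (B Q K : Subgroup Γ) (u f z : Γ) (ψ : Γ → F) (l : Fˣ) : Prop where
  QB : Q ≤ B
  BK : B ≤ K
  KQ : K ≤ 𝒩[Q]
  perf : K ≤ ⁅K, K⁆ ⊔ (Q ⊔ 𝒞[Q])
  nBQ : ¬ B ≤ Q
  uQ : u ∈ Q
  uC : u ∈ 𝒞[Q]
  uu : u * u = 1
  key : ∀ v ∈ B, ∀ y ∈ Q, ∀ y' ∈ Q, ⁅v, u⁆ = ⁅y, y'⁆ → v ∈ Q
  fK : f ∈ K
  fB : f ∈ 𝒩[B]
  gen : ∀ μ : Fˣ, μ ∈ zpowers l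
  add : ∀ e ∈ omegaZ 2 B, ∀ e' ∈ omegaZ 2 B, ψ (e * e') = ψ e + ψ e'
  act : ∀ e ∈ omegaZ 2 B, ψ (f * e * f⁻¹) = l * ψ e
  fix : ∀ e ∈ omegaZ 2 B, ψ e = 0 → Commute f e
  nz : ψ z ≠ 0

/-- The existential form of `BigM`. -/
def BigE (B H Z : Subgroup Γ) : Prop :=
  ∃ (F : Type) (_ : Field F) (_ : Fintype F) (_ : CharP F 2) (Q K : Subgroup Γ) (u f z : Γ) (ψ : Γ → F) (l : Fˣ),
    2 < Fintype.card F ∧ K ≤ H ∧ z ∈ Z ∧ BigM F B Q K u f z ψ l

variable [Finite Γ] {B P M V V₀ Z Q K H : Subgroup Γ} {F : Type} [Field F]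

private theorem bigA_act_dg (a : Fˣ) (v : Fin 2 → F) :
    act (SL2.dg a) v 0 = a * v 0 ∧ act (SL2.dg a) v 1 = (a⁻¹ : Fˣ) * v 1 := by
  constructor <;> simp [act_apply, SL2.dg_00, SL2.dg_01, SL2.dg_10, SL2.dg_11]

theorem NS.bigM [Fintype F] [CharP F 2] (n : NS F B P V V₀) (h : PU 2 B P M) (hq : 2 < Fintype.card F)
    (hZ : Z ≤ omegaZ 2 B) (hnc : ¬ pResOf 2 P ≤ 𝒞[Z]) :
    ∃ (u f z : Γ) (ψ : Γ → F) (l : Fˣ), z ∈ Z ∧ BigM F B (pCoreOf 2 P) P u f z ψ l := by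
  classical
  obtain ⟨D, hDB, hDk⟩ := n.nat
  have hBP : B ≤ P := h.syl.le
  have hQB : D.ker ≤ B := hDk ▸ h.syl.pCoreOf_le
  have hPQ : P ≤ 𝒩[pCoreOf 2 P] := le_normalizer_pCoreOf P
  have hfix : ∀ e ∈ omegaZ 2 B, D.π e ∈ line0 F := by
    intro e he
    obtain ⟨t, ht, htB, hu, h1⟩ := D.exists_φ_ne_one (T := B) hDB.ge
    have h0 : ⁅t, e⁆ = 1 := by
      rw [commutatorElement_eq_one_iff_mul_comm]
      exact omegaZ_le_centralizer B he t htB
    exact (D.mem_fix.1 ((D.commutator_mem_iff ht hu h1 (n.ZV he)).1 (h0 ▸ V₀.one_mem))).2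
  obtain ⟨l₀, hl₀⟩ := IsCyclic.exists_generator (α := Fˣ)
  have ho₀ : orderOf l₀ = Fintype.card F - 1 := by
    rw [orderOf_eq_card_of_forall_mem_zpowers hl₀, Nat.card_eq_fintype_card, Fintype.card_units]
  obtain ⟨f₀, hf₀, hφ₀⟩ := D.φ_surj (SL2.dg l₀) (mem_top _)
  obtain ⟨k, hk⟩ := exists_odd_pow f₀
  set f := f₀ ^ 4 ^ k with hf
  have hfP : f ∈ P := P.pow_mem hf₀ _
  set l := l₀ ^ 4 ^ k with hl
  have hφ : D.φ f = SL2.dg l := by
    rw [hf, D.φ_pow hf₀, hφ₀, ← SL2.dgHom_apply, ← map_pow, SL2.dgHom_apply]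
  have gen : ∀ μ : Fˣ, μ ∈ zpowers l := fun μ => by
    refine zpowers_le.2 (mem_zpowers_pow_iff.2 ?_) (hl₀ μ)
    obtain ⟨m, -, hm⟩ := FiniteField.card F 2
    have h2 : Even (Fintype.card F) := by rw [hm]; exact (Nat.even_pow' m.ne_zero).2 even_two
    have h3 : Odd (orderOf l₀) := by rw [ho₀]; exact Nat.Even.sub_odd (by omega) h2 odd_one
    exact Nat.Coprime.pow_left k (Nat.Coprime.pow_left 2 (Nat.coprime_two_left.2 h3))
  have l1 : l ≠ 1 := fun e => by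
    have := gen l₀
    rw [e, zpowers_one_eq_bot, mem_bot] at this
    rw [this, orderOf_one] at ho₀
    omega
  have hμ : (l : F) ≠ 1 := fun e => l1 (Units.ext e)
  have hμ' : ((l⁻¹ : Fˣ) : F) ≠ 1 := fun e => l1 (inv_eq_one.1 (Units.ext e))
  have hfK : f ∈ pResOf 2 P := mem_pResOf hfP ((Nat.coprime_two_right).2 hk)
  have hf0 : f ∈ 𝒞[V₀] := n.K0 hfK
  obtain ⟨z, hz, hz0⟩ : ∃ z ∈ Z, z ∉ V₀ := by
    by_contra hc
    push Not at hc
    exact hnc (n.K0.trans (centralizer_le hc))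
  have zV : z ∈ V := n.ZV (hZ hz)
  have zC : z ∈ 𝒞[pCoreOf 2 P] := centralizer_le (hDk ▸ hQB) (omegaZ_le_centralizer B (hZ hz))
  obtain ⟨g, hg, hφg⟩ := D.φ_surj SL2.ww (mem_top _)
  have uV : g * z * g⁻¹ ∈ V := conj_mem_of_le_normalizer D.norm hg zV
  have hU : V₀ ⊔ V ⊓ 𝒞[pCoreOf 2 P] = V :=
    (D.irreducible D.img_self le_sup_left (sup_le D.le inf_le_left) (LAE.le_normalizer_sup D.norm₀
      (le_normalizer_inf D.norm (le_normalizer_centralizer hPQ)))).resolve_left fun e =>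
        hz0 (e.le (mem_sup_right ⟨zV, zC⟩))
  have hc : ∀ y ∈ pCoreOf 2 P, ⁅f, y⁆ ∈ 𝒞[pCoreOf 2 P] := fun y hy => by
    have h1 : ⁅f, y⁆ ∈ V := by
      rw [← commutatorElement_inv]
      exact inv_mem (n.QK (commutator_mem_commutator hy hfK))
    obtain ⟨s₀, hs₀, e₀⟩ := D.π_surj ![-D.π ⁅f, y⁆ 0 / (l - 1), -D.π ⁅f, y⁆ 1 / ((l⁻¹ : Fˣ) - 1)]
    obtain ⟨t, ht, s, hs, rfl⟩ := (mem_sup_iff_of_right_le_normalizer
      ((inf_le_left.trans (n.VQ.trans (pCoreOf_le P))).trans D.norm₀)).1 (hU.ge hs₀)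
    rw [D.π_mul _ (D.le ht) _ hs.1, D.π_of_mem ht, zero_add] at e₀
    have h2 : ⁅f, s⁆ ∈ 𝒞[pCoreOf 2 P] := mul_mem (bas1_conj (hPQ hfP) hs.2) (inv_mem hs.2)
    have h3 : ⁅f, y * s⁆ = ⁅f, y⁆ * ⁅f, s⁆ := by
      have := h2 _ (inv_mem hy)
      calc ⁅f, y * s⁆ = f * y * f⁻¹ * (⁅f, s⁆ * y⁻¹) := by simp only [commutatorElement_def]; group
        _ = _ := by rw [← this, commutatorElement_def f y]; group
    have h4 : ⁅f, y * s⁆ ∈ V₀ := by
      rw [h3, ← D.π_eq_zero _ (mul_mem h1 (D.commutator_mem_U hfP hs.1)),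
        D.π_mul _ h1 _ (D.commutator_mem_U hfP hs.1), D.π_commutator hfP hs.1, hφ, e₀]
      have a1 := sub_ne_zero.2 hμ
      have a2 := sub_ne_zero.2 hμ'
      refine vec2_ext ?_ ?_
      · rw [Pi.add_apply, Pi.sub_apply, (bigA_act_dg _ _).1]
        simp only [Matrix.cons_val_zero, Pi.zero_apply]
        field_simp
        ring
      · rw [Pi.add_apply, Pi.sub_apply, (bigA_act_dg _ _).2]
        simp only [Matrix.cons_val_one, Matrix.cons_val_zero, Pi.zero_apply]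
        generalize ((l⁻¹ : Fˣ) : F) = c at a2
        field_simp
        ring
    have h5 := commute_of_odd hk (two_of_mem (isPGroup_pCoreOf P) (n.VQ (D.le h4))) (hf0 _ h4).symm
    rw [commutatorElement_eq_one_iff_commute.2 h5] at h3
    rw [eq_inv_of_mul_eq_one_left h3.symm]
    exact inv_mem h2
  refine ⟨g * z * g⁻¹, f, z, fun e => D.π e 0, l, hz, hDk ▸ hQB, hBP, hPQ, ?_, h.nn, n.VQ uV,
    bas1_conj (hPQ hg) zC, ?_, fun v hv y hy y' hy' e => ?_, hfP,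
    D.mem_normalizer_of_borel hBP hQB hDB hfP (hφ ▸ dg_mem_borel _), gen, fun e he e' he' => ?_,
    fun e he => ?_, fun e he h0 => ?_, fun h0 => ?_⟩
  · refine D.le_of_img_le le_rfl (hDk.le.trans (le_sup_of_le_right le_sup_left)) ?_
    have hsq : (l : F) ^ 2 ≠ 1 := fun e => by
      have : Fact (Nat.Prime 2) := ⟨Nat.prime_two⟩
      have h1 : ((l : F) - 1) ^ 2 = 0 := by rw [sub_pow_char, e, one_pow, sub_self]
      exact hμ (sub_eq_zero.1 (pow_eq_zero_iff two_ne_zero |>.1 h1))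
    refine (le_top.trans (Matrix.SL2.commutator_eq_top l.ne_zero hsq).ge).trans
      (commutator_le.2 fun a _ b _ => ?_)
    obtain ⟨a, ha, rfl⟩ := D.φ_surj a (mem_top _)
    obtain ⟨b, hb, rfl⟩ := D.φ_surj b (mem_top _)
    have hab : ⁅a, b⁆ ∈ P := mul_mem (mul_mem (mul_mem ha hb) (inv_mem ha)) (inv_mem hb)
    refine D.mem_img.2 ⟨⁅a, b⁆, hab, mem_sup_left (commutator_mem_commutator ha hb), ?_⟩
    rw [commutatorElement_def, D.φ_mul (mul_mem (mul_mem ha hb) (inv_mem ha)) (inv_mem hb), D.φ_conj ha hb,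
      D.φ_inv hb, commutatorElement_def]
  · have := (mem_omegaZ.1 (hZ hz)).2.2
    rw [← sq, conj_pow, this, mul_one, mul_inv_cancel]
  · by_contra hvQ
    have v1 : D.φ v ≠ 1 := fun e1 => hvQ (hDk.le (D.mem_ker.2 ⟨hBP hv, e1⟩))
    have vu : D.φ v ∈ upU F := hDB.le (D.φ_mem_img (hBP hv) hv)
    have c1 := D.commutator_mem_fix (hBP hv) vu uV
    have c2 : Commute f ⁅y, y'⁆ := by
      have a1 := hc y hy
      have a2 := hc y' hy'
      have e1 : f * ⁅y, y'⁆ * f⁻¹ = ⁅⁅f, y⁆ * y, ⁅f, y'⁆ * y'⁆ := by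
        simp only [commutatorElement_def]; group
      have a3 : ⁅f, y'⁆ ∈ pCoreOf 2 P := mul_mem (LAE.conj_mem_of_mem_normalizer (hPQ hfP) hy') (inv_mem hy')
      generalize ⁅f, y⁆ = c at a1 e1
      generalize ⁅f, y'⁆ = c' at a2 e1 a3
      have b1 : Commute c y := (a1 y hy).symm
      have b2 : Commute c y' := (a1 y' hy').symm
      have b3 : Commute c c' := (a1 c' a3).symm
      have b4 : Commute c' y := (a2 y hy).symm
      have b5 : Commute c' y' := (a2 y' hy').symm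
      have e2 : ⁅c * y, c' * y'⁆ = ⁅y, y'⁆ := by
        have k1 : c * y * (c' * y') = c * c' * (y * y') := by
          rw [mul_assoc c y, ← mul_assoc y, ← b4.eq]; group
        have k2 : c' * y' * (c * y) = c * c' * (y' * y) := by
          rw [mul_assoc c' y', ← mul_assoc y', ← b2.eq, b3.eq]; group
        have k3 : Commute (c * c') ⁅y, y'⁆ :=
          ((((b1.mul_right b2).mul_right b1.inv_right).mul_right b2.inv_right).mul_left
            (((b4.mul_right b5).mul_right b4.inv_right).mul_right b5.inv_right))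
        calc ⁅c * y, c' * y'⁆ = c * y * (c' * y') * (c' * y' * (c * y))⁻¹ := by
              simp only [commutatorElement_def]; group
          _ = c * c' * ⁅y, y'⁆ * (c * c')⁻¹ := by rw [k1, k2, commutatorElement_def]; group
          _ = _ := by rw [k3.eq, mul_inv_cancel_right]
      exact mul_inv_eq_iff_eq_mul.1 (e1.trans e2)
    rw [← e] at c2
    have c3 := congrFun ((D.act_eq_iff hfP c1.1).2
      (commutatorElement_eq_one_iff_commute.2 c2 ▸ V₀.one_mem)) 0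
    rw [hφ, (bigA_act_dg _ _).1] at c3
    have c4 : D.π ⁅v, g * z * g⁻¹⁆ 0 = 0 := by
      by_contra c4
      exact hμ (mul_right_cancel₀ c4 (c3.trans (one_mul _).symm))
    have c5 := ((D.commutator_mem_iff (hBP hv) vu v1 uV).1
      ((D.π_eq_zero _ c1.1).1 (vec2_ext c4 (mem_line0.1 c1.2)))).2
    rw [D.π_conj g hg z zV, hφg] at c5
    exact hz0 ((D.π_eq_zero z zV).1 (line0_inf_of_not_mem_borel ww_not_mem_borel (hfix z (hZ hz)) c5))
  · simp only [D.π_mul e (n.ZV he) e' (n.ZV he'), Pi.add_apply]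
  · simp only [D.π_conj f hfP e (n.ZV he), hφ, (bigA_act_dg _ _).1]
  · exact (hf0 e ((D.π_eq_zero e (n.ZV he)).1 (vec2_ext h0 (mem_line0.1 (hfix e he))))).symm
  · exact hz0 ((D.π_eq_zero z zV).1 (vec2_ext h0 (mem_line0.1 (hfix z (hZ hz)))))

theorem NS.bigE [Fintype F] [CharP F 2] (n : NS F B P V V₀) (h : PU 2 B P M) (hq : 2 < Fintype.card F)
    (hZ : Z ≤ omegaZ 2 B) (hnc : ¬ pResOf 2 P ≤ 𝒞[Z]) : BigE B P Z := by
  obtain ⟨u, f, z, ψ, l, hz, hb⟩ := NS.bigM n h hq hZ hnc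
  exact ⟨F, _, _, ‹_›, _, _, u, f, z, ψ, l, hq, le_rfl, hz, hb⟩

theorem BigE.mono (h : BigE B H Z) {H' Z' : Subgroup Γ} (h1 : H ≤ H') (h2 : Z ≤ Z') : BigE B H' Z' := by
  obtain ⟨F, _, _, _, Q, K, u, f, z, ψ, l, hq, hK, hz, hb⟩ := h
  exact ⟨F, _, _, ‹_›, Q, K, u, f, z, ψ, l, hq, hK.trans h1, h2 hz, hb⟩

theorem lg3_bigM {Δ : Type*} [Group Δ] {j : Γ →* Δ} (hj : Function.Injective j) {u f z : Γ} {ψ : Γ → F}
    {l : Fˣ} (h : BigM F B Q K u f z ψ l) :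
    BigM F (B.map j) (Q.map j) (K.map j) (j u) (j f) (j z) (ψ ∘ Function.invFun j) l := by
  have hi : ∀ x, (ψ ∘ Function.invFun j) (j x) = ψ x := fun x => by
    rw [Function.comp_apply, Function.leftInverse_invFun hj x]
  refine ⟨map_mono h.QB, map_mono h.BK, map_le_normalizer_map j h.KQ, (map_mono h.perf).trans ?_,
    fun e => h.nBQ ((map_le_map_iff_of_injective hj).1 e), mem_map_of_mem j h.uQ,
    (bas1_cent_map hj).2 h.uC, by rw [← map_mul, h.uu, map_one], ?_, mem_map_of_mem j h.fK,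
    (bas1_norm_map hj).2 h.fB, h.gen, ?_, ?_, ?_, by rw [hi]; exact h.nz⟩
  · rw [Subgroup.map_sup, Subgroup.map_sup, Subgroup.map_commutator]
    exact sup_le_sup_left (sup_le_sup_left (map_le_centralizer_map j le_rfl) _) _
  · rintro _ ⟨v, hv, rfl⟩ _ ⟨y, hy, rfl⟩ _ ⟨y', hy', rfl⟩ e
    exact mem_map_of_mem j (h.key v hv y hy y' hy' (hj (by
      rw [map_commutatorElement, map_commutatorElement, e])))
  · rw [← map_omegaZ hj]
    rintro _ ⟨e, he, rfl⟩ _ ⟨e', he', rfl⟩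
    rw [← map_mul, hi, hi, hi, h.add e he e' he']
  · rw [← map_omegaZ hj]
    rintro _ ⟨e, he, rfl⟩
    rw [← map_inv, ← map_mul, ← map_mul, hi, hi, h.act e he]
  · rw [← map_omegaZ hj]
    rintro _ ⟨e, he, rfl⟩ h0
    rw [hi] at h0
    exact (h.fix e he h0).map j

theorem lg3_bigE {Δ : Type*} [Group Δ] {j : Γ →* Δ} (hj : Function.Injective j) (h : BigE B H Z) :
    BigE (B.map j) (H.map j) (Z.map j) := by
  obtain ⟨F, _, _, _, Q, K, u, f, z, ψ, l, hq, hK, hz, hb⟩ := h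
  exact ⟨F, _, _, ‹_›, _, _, _, _, _, _, l, hq, map_mono hK, mem_map_of_mem j hz, lg3_bigM hj hb⟩

section
variable {X : Type*} [Group X] [Finite X] {π : Γ →* X}

theorem sec_bigM (ho : Odd (Nat.card π.ker)) (hs : Function.Surjective π) (hB : IsPGroup 2 B)
    {Q' K' : Subgroup X} {u' f' : X} {z : Γ} {ψ : X → F} {l : Fˣ}
    (h : BigM F (B.map π) Q' K' u' f' (π z) ψ l) :
    ∃ (K : Subgroup Γ) (u f : Γ), BigM F B (B ⊓ Q'.comap π) K u f z (ψ ∘ π) l := by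
  obtain ⟨Q, hQ', hQB, hm, rfl⟩ : ∃ Q : Subgroup Γ, B ⊓ Q'.comap π = Q ∧ Q ≤ B ∧
      (∀ x ∈ B, π x ∈ Q' → x ∈ Q) ∧ Q.map π = Q' := by
    refine ⟨_, rfl, inf_le_left, fun x h1 h2 => ⟨h1, h2⟩, le_antisymm ?_ fun u hu => ?_⟩
    · rintro _ ⟨x, hx, rfl⟩
      exact hx.2
    · obtain ⟨x, hx, rfl⟩ := h.QB hu
      exact ⟨x, ⟨hx, hu⟩, rfl⟩
  rw [hQ']
  have hQ : IsPGroup 2 Q := hB.to_le hQB
  have hN : ∀ x ∈ 𝒩[B], π x ∈ K' → x ∈ 𝒩[Q] := fun x hx hk =>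
    mem_normalizer_of_conjS_le (conjS_le_iff_forall.2 fun y hy =>
      hm _ (LAE.conj_mem_of_mem_normalizer hx (hQB hy)) (by
        rw [map_mul, map_mul, map_inv]
        exact LAE.conj_mem_of_mem_normalizer (h.KQ hk) (mem_map_of_mem π hy)))
  obtain ⟨u, hu, rfl⟩ := h.uQ
  obtain ⟨f, hf, rfl⟩ := sec_norm ho hs hB h.fB
  have hz : ∀ e ∈ omegaZ 2 B, π e ∈ omegaZ 2 (B.map π) := fun e he => by
    rw [← sec_omegaZ ho hB]
    exact mem_map_of_mem π he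
  have hK : (K'.comap π ⊓ 𝒩[Q]).map π = K' := by
    refine le_antisymm (map_le_iff_le_comap.2 inf_le_left) fun k hk => ?_
    obtain ⟨x, hx, rfl⟩ := sec_norm ho hs hQ (h.KQ hk)
    exact ⟨x, ⟨hk, hx⟩, rfl⟩
  refine ⟨K'.comap π ⊓ 𝒩[Q], u, f, hQB, fun b hb => ⟨h.BK (mem_map_of_mem π hb),
    hN b (le_normalizer hb) (h.BK (mem_map_of_mem π hb))⟩, inf_le_right, fun x hx => ?_,
    fun e => h.nBQ (map_mono e), hu, sec_cent ho hQ (le_normalizer hu) h.uC,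
    sec_inj ho hQ (mul_mem hu hu) Q.one_mem (by rw [map_mul, h.uu, map_one]),
    fun v hv y hy y' hy' e => hm v hv (h.key _ (mem_map_of_mem π hv) _ (mem_map_of_mem π hy) _
      (mem_map_of_mem π hy') (by rw [← map_commutatorElement, e, map_commutatorElement])),
    ⟨h.fK, hN f hf h.fK⟩, hf, h.gen, fun e he e' he' => ?_, fun e he => ?_, fun e he h0 => ?_, h.nz⟩
  · set K := K'.comap π ⊓ 𝒩[Q]
    have h1 : ⁅K', K'⁆ ⊔ (Q.map π ⊔ 𝒞[Q.map π]) ≤ (⁅K, K⁆ ⊔ (Q ⊔ 𝒞[Q])).map π := by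
      rw [Subgroup.map_sup, Subgroup.map_sup, Subgroup.map_commutator, hK]
      refine sup_le_sup_left (sup_le_sup_left (fun c hc => ?_) _) _
      obtain ⟨y, hy, rfl⟩ := sec_norm ho hs hQ (centralizer_le_normalizer _ hc)
      exact mem_map_of_mem π (sec_cent ho hQ hy hc)
    obtain ⟨y, hy, e⟩ := h1 (h.perf hx.1)
    have h2 : ⁅K, K⁆ ⊔ (Q ⊔ 𝒞[Q]) ≤ 𝒩[Q] :=
      sup_le ((commutator_le_left_of_le_normalizer le_normalizer).trans inf_le_right)
        (sup_le le_normalizer (centralizer_le_normalizer _))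
    have h3 : y⁻¹ * x ∈ 𝒞[Q] := sec_cent ho hQ (mul_mem (inv_mem (h2 hy)) hx.2) (by
      rw [map_mul, map_inv, e, inv_mul_cancel]; exact one_mem _)
    simpa using mul_mem hy (mem_sup_right (mem_sup_right h3) : _ ∈ ⁅K, K⁆ ⊔ (Q ⊔ 𝒞[Q]))
  · simp only [Function.comp_apply, map_mul, h.add _ (hz e he) _ (hz e' he')]
  · simp only [Function.comp_apply, map_mul, map_inv, h.act _ (hz e he)]
  · have h1 := h.fix _ (hz e he) h0
    exact mul_inv_eq_iff_eq_mul.1 (sec_inj ho hB (LAE.conj_mem_of_mem_normalizer hf (omegaZ_le B he))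
      (omegaZ_le B he) (by rw [map_mul, map_mul, map_inv, h1.eq, mul_inv_cancel_right]))

theorem sec_bigE (ho : Odd (Nat.card π.ker)) (hs : Function.Surjective π) (hB : IsPGroup 2 B)
    {H' : Subgroup X} (h : BigE (B.map π) H' (Z.map π)) : BigE B ⊤ Z := by
  obtain ⟨F, _, _, _, Q, K, u, f, _, ψ, l, hq, -, ⟨z, hz, rfl⟩, hb⟩ := h
  obtain ⟨K, u, f, hb⟩ := sec_bigM ho hs hB hb
  exact ⟨F, _, _, ‹_›, _, K, u, f, z, _, l, hq, le_top, hz, hb⟩

end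

end CfsgLib.Cop
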