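import Mathlib
import Cfsg.Agent.Lib.Cop.BigA
import Cfsg.Agent.Lib.OFP.T2Defs

/-! The lifted local configuration for fields with more than two elements. -/

set_option autoImplicit false
set_option linter.unusedSectionVars false

namespace CfsgLib.Cop

open Subgroup Cfsg CfsgLib.LAE CfsgLib.Push CfsgLib.Blocks CfsgLib.ZJ CfsgLib.OFP
open scoped commutatorElement

variable {Γ : Type*} [Group Γ] [Finite Γ] {G M S B P V V₀ Z Q : Subgroup Γ} {F : Type} [Field F]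

private theorem bigL_act_dg (a : Fˣ) (v : Fin 2 → F) :
    act (SL2.dg a) v 0 = a * v 0 ∧ act (SL2.dg a) v 1 = (a⁻¹ : Fˣ) * v 1 := by
  constructor <;> simp [act_apply, SL2.dg_00, SL2.dg_01, SL2.dg_10, SL2.dg_11]

theorem NL.bigM [Fintype F] [CharP F 2] (n : NL F B Q P V V₀)
    (hT : ∀ T : Subgroup Γ, IsPGroup 2 T → B ≤ T → T ≤ P → T ⊓ 𝒞[Q] ≤ B) (hq : 2 < Fintype.card F)
    (hZ : Z ≤ omegaZ 2 B) (hnc : ¬ pResOf 2 P ≤ 𝒞[Z]) :
    ∃ (u f z : Γ) (ψ : Γ → F) (l : Fˣ), z ∈ Z ∧ BigM F B Q P u f z ψ l := by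
  classical
  have : Fact (Nat.Prime 2) := ⟨Nat.prime_two⟩
  obtain ⟨D, hDB, hDk, hDc⟩ := n.nat
  have hBP : B ≤ P := n.BP
  have hQB : Q ≤ B := hDk ▸ inf_le_left
  have hPQ : P ≤ 𝒩[Q] := n.PQ
  have pQ : IsPGroup 2 Q := n.pB.to_le hQB
  have hHP : B ⊔ D.ker ≤ P := sup_le hBP D.ker_le
  have hsyl : IsSylowIn 2 B (B ⊔ D.ker) := ⟨le_sup_left, n.pB, fun T pT BT TH => le_antisymm (fun t ht => by
    obtain ⟨b, hb, x, hx, rfl⟩ :=
      (mem_sup_iff_of_left_le_normalizer (hBP.trans D.le_normalizer_ker)).1 (TH ht)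
    obtain ⟨q, hq, c, hc, rfl⟩ := (mem_sup_iff_of_left_le_normalizer
      (le_normalizer_inf ((hQB.trans hBP).trans le_normalizer) (le_normalizer_centralizer le_normalizer))).1
        (hDc hx)
    have cT : c ∈ T := by simpa using mul_mem (inv_mem (BT (hQB hq))) (mul_mem (inv_mem (BT hb)) ht)
    exact mul_mem hb (mul_mem (hQB hq) (hT T pT BT (TH.trans hHP) ⟨cT, hc.2⟩))) BT⟩
  have hlift : ∀ a : Fˣ, ∃ f ∈ P, f ∈ 𝒩[B] ∧ D.φ f = SL2.dg a := fun a => by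
    obtain ⟨f, hf, hφ⟩ := D.φ_surj (SL2.dg a) (mem_top _)
    have hH : D.img (B ⊔ D.ker) = upU F := by
      refine le_antisymm (fun g hg => ?_) (hDB ▸ D.img_mono le_sup_left)
      obtain ⟨y, hy, hy', rfl⟩ := D.mem_img.1 hg
      obtain ⟨b, hb, x, hx, rfl⟩ :=
        (mem_sup_iff_of_left_le_normalizer (hBP.trans D.le_normalizer_ker)).1 hy'
      rw [D.φ_mul (hBP hb) (D.ker_le hx), (D.mem_ker.1 hx).2, mul_one]
      exact hDB.le (D.φ_mem_img (hBP hb) hb)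
    have fN := D.mem_normalizer_of_borel hHP le_sup_right hH hf (hφ ▸ dg_mem_borel _)
    obtain ⟨y, hy, e⟩ := (hsyl.conj_of_mem_normalizer fN).exists_conj hsyl
    obtain ⟨b, -, hb, eb⟩ := D.mem_img.1 (hDB.ge (inv_mem (hH.le (D.φ_mem_img (hHP hy) hy))))
    refine ⟨b * (y * f), mul_mem (hBP hb) (mul_mem (hHP hy) hf), mul_mem (le_normalizer hb) ?_, ?_⟩
    · rw [mem_normalizer_iff_conjS, conjS_mul, e]
    · rw [D.φ_mul (hBP hb) (mul_mem (hHP hy) hf), D.φ_mul (hHP hy) hf, eb, inv_mul_cancel_left, hφ]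
  have hfix : ∀ e ∈ omegaZ 2 B, D.π e ∈ line0 F := by
    intro e he
    obtain ⟨t, ht, htB, hu, h1⟩ := D.exists_φ_ne_one (T := B) hDB.ge
    have h0 : ⁅t, e⁆ = 1 := by
      rw [commutatorElement_eq_one_iff_mul_comm]
      exact omegaZ_le_centralizer B he t htB
    exact (D.mem_fix.1 ((D.commutator_mem_iff ht hu h1 (n.ZV he)).1 (h0 ▸ V₀.one_mem))).2
  obtain ⟨l₀, hl₀⟩ := IsCyclic.exists_generator (α := Fˣ)
  have ho₀ : orderOf l₀ = Fintype.card F - 1 := by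
    rw [orderOf_eq_card_of_forall_mem_zpowers hl₀, Nat.card_eq_fintype_card, Fintype.card_units]
  obtain ⟨f₀, hf₀, hf₀B, hφ₀⟩ := hlift l₀
  obtain ⟨k, hk⟩ := exists_odd_pow f₀
  set f := f₀ ^ 4 ^ k with hf
  have hfP : f ∈ P := P.pow_mem hf₀ _
  set l := l₀ ^ 4 ^ k with hl
  have hφ : D.φ f = SL2.dg l := by
    rw [hf, D.φ_pow hf₀, hφ₀, ← SL2.dgHom_apply, ← map_pow, SL2.dgHom_apply]
  have gen : ∀ μ : Fˣ, μ ∈ zpowers l := fun μ => by
    refine zpowers_le.2 (mem_zpowers_pow_iff.2 ?_) (hl₀ μ)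
    obtain ⟨m, -, hm⟩ := FiniteField.card F 2
    have h2 : Even (Fintype.card F) := by rw [hm]; exact (Nat.even_pow' m.ne_zero).2 even_two
    have h3 : Odd (orderOf l₀) := by rw [ho₀]; exact Nat.Even.sub_odd (by omega) h2 odd_one
    exact Nat.Coprime.pow_left k (Nat.Coprime.pow_left 2 (Nat.coprime_two_left.2 h3))
  have l1 : l ≠ 1 := fun e => by
    have := gen l₀
    rw [e, zpowers_one_eq_bot, mem_bot] at this
    rw [this, orderOf_one] at ho₀
    omega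
  have hμ : (l : F) ≠ 1 := fun e => l1 (Units.ext e)
  have hμ' : ((l⁻¹ : Fˣ) : F) ≠ 1 := fun e => l1 (inv_eq_one.1 (Units.ext e))
  have hfK : f ∈ pResOf 2 P := mem_pResOf hfP ((Nat.coprime_two_right).2 hk)
  have hf0 : f ∈ 𝒞[V₀] := n.K0 hfK
  obtain ⟨z, hz, hz0⟩ : ∃ z ∈ Z, z ∉ V₀ := by
    by_contra hc
    push Not at hc
    exact hnc (n.K0.trans (centralizer_le hc))
  have zV : z ∈ V := n.ZV (hZ hz)
  have zC : z ∈ 𝒞[Q] := centralizer_le hQB (omegaZ_le_centralizer B (hZ hz))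
  obtain ⟨g, hg, hφg⟩ := D.φ_surj SL2.ww (mem_top _)
  have uV : g * z * g⁻¹ ∈ V := conj_mem_of_le_normalizer D.norm hg zV
  have hU : V₀ ⊔ V ⊓ 𝒞[Q] = V :=
    (D.irreducible D.img_self le_sup_left (sup_le D.le inf_le_left) (LAE.le_normalizer_sup D.norm₀
      (le_normalizer_inf D.norm (le_normalizer_centralizer hPQ)))).resolve_left fun e =>
        hz0 (e.le (mem_sup_right ⟨zV, zC⟩))
  have hc : ∀ y ∈ Q, ⁅f, y⁆ ∈ 𝒞[Q] := fun y hy => by
    have h1 : ⁅f, y⁆ ∈ V := by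
      rw [← commutatorElement_inv]
      exact inv_mem (n.QK (commutator_mem_commutator hy hfK))
    obtain ⟨s₀, hs₀, e₀⟩ := D.π_surj ![-D.π ⁅f, y⁆ 0 / (l - 1), -D.π ⁅f, y⁆ 1 / ((l⁻¹ : Fˣ) - 1)]
    obtain ⟨t, ht, s, hs, rfl⟩ := (mem_sup_iff_of_right_le_normalizer
      ((inf_le_left.trans (n.VQ.trans (hQB.trans hBP))).trans D.norm₀)).1 (hU.ge hs₀)
    rw [D.π_mul _ (D.le ht) _ hs.1, D.π_of_mem ht, zero_add] at e₀
    have h2 : ⁅f, s⁆ ∈ 𝒞[Q] := mul_mem (bas1_conj (hPQ hfP) hs.2) (inv_mem hs.2)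
    have h3 : ⁅f, y * s⁆ = ⁅f, y⁆ * ⁅f, s⁆ := by
      have := h2 _ (inv_mem hy)
      calc ⁅f, y * s⁆ = f * y * f⁻¹ * (⁅f, s⁆ * y⁻¹) := by simp only [commutatorElement_def]; group
        _ = _ := by rw [← this, commutatorElement_def f y]; group
    have h4 : ⁅f, y * s⁆ ∈ V₀ := by
      rw [h3, ← D.π_eq_zero _ (mul_mem h1 (D.commutator_mem_U hfP hs.1)),
        D.π_mul _ h1 _ (D.commutator_mem_U hfP hs.1), D.π_commutator hfP hs.1, hφ, e₀]
      have a1 := sub_ne_zero.2 hμ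
      have a2 := sub_ne_zero.2 hμ'
      refine vec2_ext ?_ ?_
      · rw [Pi.add_apply, Pi.sub_apply, (bigL_act_dg _ _).1]
        simp only [Matrix.cons_val_zero, Pi.zero_apply]
        field_simp
        ring
      · rw [Pi.add_apply, Pi.sub_apply, (bigL_act_dg _ _).2]
        simp only [Matrix.cons_val_one, Matrix.cons_val_zero, Pi.zero_apply]
        generalize ((l⁻¹ : Fˣ) : F) = c at a2
        field_simp
        ring
    have h5 := commute_of_odd hk (two_of_mem pQ (n.VQ (D.le h4))) (hf0 _ h4).symm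
    rw [commutatorElement_eq_one_iff_commute.2 h5] at h3
    rw [eq_inv_of_mul_eq_one_left h3.symm]
    exact inv_mem h2
  have hnn : ¬ B ≤ Q := fun e => by
    obtain ⟨t, -, htB, -, h1⟩ := D.exists_φ_ne_one (T := B) hDB.ge
    exact h1 (D.mem_ker.1 (hDk.ge (e htB)).2).2
  refine ⟨g * z * g⁻¹, f, z, fun e => D.π e 0, l, hz, hQB, hBP, hPQ, ?_, hnn, n.VQ uV,
    bas1_conj (hPQ hg) zC, ?_, fun v hv y hy y' hy' e => ?_, hfP,
    pow_mem hf₀B _, gen, fun e he e' he' => ?_,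
    fun e he => ?_, fun e he h0 => ?_, fun h0 => ?_⟩
  · refine D.le_of_img_le le_rfl (hDc.trans (le_sup_of_le_right (sup_le_sup_left inf_le_right _))) ?_
    have hsq : (l : F) ^ 2 ≠ 1 := fun e => by
      have h1 : ((l : F) - 1) ^ 2 = 0 := by rw [sub_pow_char, e, one_pow, sub_self]
      exact hμ (sub_eq_zero.1 (pow_eq_zero_iff two_ne_zero |>.1 h1))
    refine (le_top.trans (Matrix.SL2.commutator_eq_top l.ne_zero hsq).ge).trans
      (commutator_le.2 fun a _ b _ => ?_)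
    obtain ⟨a, ha, rfl⟩ := D.φ_surj a (mem_top _)
    obtain ⟨b, hb, rfl⟩ := D.φ_surj b (mem_top _)
    have hab : ⁅a, b⁆ ∈ P := mul_mem (mul_mem (mul_mem ha hb) (inv_mem ha)) (inv_mem hb)
    refine D.mem_img.2 ⟨⁅a, b⁆, hab, mem_sup_left (commutator_mem_commutator ha hb), ?_⟩
    rw [commutatorElement_def, D.φ_mul (mul_mem (mul_mem ha hb) (inv_mem ha)) (inv_mem hb), D.φ_conj ha hb,
      D.φ_inv hb, commutatorElement_def]
  · have := (mem_omegaZ.1 (hZ hz)).2.2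
    rw [← sq, conj_pow, this, mul_one, mul_inv_cancel]
  · by_contra hvQ
    have v1 : D.φ v ≠ 1 := fun e1 => hvQ (hDk.le ⟨hv, D.mem_ker.2 ⟨hBP hv, e1⟩⟩)
    have vu : D.φ v ∈ upU F := hDB.le (D.φ_mem_img (hBP hv) hv)
    have c1 := D.commutator_mem_fix (hBP hv) vu uV
    have c2 : Commute f ⁅y, y'⁆ := by
      have a1 := hc y hy
      have a2 := hc y' hy'
      have e1 : f * ⁅y, y'⁆ * f⁻¹ = ⁅⁅f, y⁆ * y, ⁅f, y'⁆ * y'⁆ := by
        simp only [commutatorElement_def]; group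
      have a3 : ⁅f, y'⁆ ∈ Q := mul_mem (LAE.conj_mem_of_mem_normalizer (hPQ hfP) hy') (inv_mem hy')
      generalize ⁅f, y⁆ = c at a1 e1
      generalize ⁅f, y'⁆ = c' at a2 e1 a3
      have b1 : Commute c y := (a1 y hy).symm
      have b2 : Commute c y' := (a1 y' hy').symm
      have b3 : Commute c c' := (a1 c' a3).symm
      have b4 : Commute c' y := (a2 y hy).symm
      have b5 : Commute c' y' := (a2 y' hy').symm
      have e2 : ⁅c * y, c' * y'⁆ = ⁅y, y'⁆ := by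
        have k1 : c * y * (c' * y') = c * c' * (y * y') := by
          rw [mul_assoc c y, ← mul_assoc y, ← b4.eq]; group
        have k2 : c' * y' * (c * y) = c * c' * (y' * y) := by
          rw [mul_assoc c' y', ← mul_assoc y', ← b2.eq, b3.eq]; group
        have k3 : Commute (c * c') ⁅y, y'⁆ :=
          ((((b1.mul_right b2).mul_right b1.inv_right).mul_right b2.inv_right).mul_left
            (((b4.mul_right b5).mul_right b4.inv_right).mul_right b5.inv_right))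
        calc ⁅c * y, c' * y'⁆ = c * y * (c' * y') * (c' * y' * (c * y))⁻¹ := by
              simp only [commutatorElement_def]; group
          _ = c * c' * ⁅y, y'⁆ * (c * c')⁻¹ := by rw [k1, k2, commutatorElement_def]; group
          _ = _ := by rw [k3.eq, mul_inv_cancel_right]
      exact mul_inv_eq_iff_eq_mul.1 (e1.trans e2)
    rw [← e] at c2
    have c3 := congrFun ((D.act_eq_iff hfP c1.1).2
      (commutatorElement_eq_one_iff_commute.2 c2 ▸ V₀.one_mem)) 0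
    rw [hφ, (bigL_act_dg _ _).1] at c3
    have c4 : D.π ⁅v, g * z * g⁻¹⁆ 0 = 0 := by
      by_contra c4
      exact hμ (mul_right_cancel₀ c4 (c3.trans (one_mul _).symm))
    have c5 := ((D.commutator_mem_iff (hBP hv) vu v1 uV).1
      ((D.π_eq_zero _ c1.1).1 (vec2_ext c4 (mem_line0.1 c1.2)))).2
    rw [D.π_conj g hg z zV, hφg] at c5
    exact hz0 ((D.π_eq_zero z zV).1 (line0_inf_of_not_mem_borel ww_not_mem_borel (hfix z (hZ hz)) c5))
  · simp only [D.π_mul e (n.ZV he) e' (n.ZV he'), Pi.add_apply]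
  · simp only [D.π_conj f hfP e (n.ZV he), hφ, (bigL_act_dg _ _).1]
  · exact (hf0 e ((D.π_eq_zero e (n.ZV he)).1 (vec2_ext h0 (mem_line0.1 (hfix e he))))).symm
  · exact hz0 ((D.π_eq_zero z zV).1 (vec2_ext h0 (mem_line0.1 (hfix z (hZ hz)))))

theorem nl_QB (n : NL F B Q P V V₀) : Q ≤ B := by
  obtain ⟨D, -, hDk, -⟩ := n.nat
  exact hDk ▸ inf_le_left

theorem nl_cQ (n : NL F B Q P V V₀) : B ⊓ 𝒞[Q] ≤ Q := by
  obtain ⟨D, -, hDk, -⟩ := n.nat
  intro b hb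
  refine hDk.le ⟨hb.1, D.mem_ker.2 ⟨n.BP hb.1, (D.φ_eq_one_iff (n.BP hb.1)).2 fun x hx => ?_⟩⟩
  rw [commutatorElement_eq_one_iff_mul_comm.2 (hb.2 x (n.VQ hx)).symm]
  exact one_mem _

theorem lf_hQ (l : Lf F G M S B Q P V V₀) {T : Subgroup Γ} (pT : IsPGroup 2 T) (BT : B ≤ T) (TG : T ≤ G)
    (TQ : T ≤ 𝒩[Q]) : bau 2 T = B :=
  l.hm Q T (l.pB.to_le (nl_QB l.toNL)) ((nl_QB l.toNL).trans (l.BS.trans l.SM))
    (fun e => l.bad ((le_inf l.PG l.PQ).trans e)) pT BT TG TQ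

theorem lf_bigE [Fintype F] [CharP F 2] (l : Lf F G M S B Q P V V₀) (hq : 2 < Fintype.card F) :
    BigE B G (omegaZ 2 S) := by
  obtain ⟨u, f, z, ψ, a, hz, hb⟩ := NL.bigM l.toNL (fun T pT BT TP x hx => by
    have e := lf_hQ l pT BT (TP.trans l.PG) (TP.trans l.PQ)
    have h1 : zj 2 T ≤ Q := fun y hy => nl_cQ l.toNL ⟨e ▸ zj_le_bau T hy, fun q hq =>
      ((bau_le_centralizer T) (e.ge (nl_QB l.toNL hq)) y hy).symm⟩
    exact e.le ⟨hx.1, centralizer_le h1 hx.2⟩) hq l.ZB l.nc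
  exact ⟨F, _, _, ‹_›, Q, P, u, f, z, ψ, a, hq, l.PG, hz, hb⟩

end CfsgLib.Cop
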