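import Cfsg.Agent.Lib.Cop.S1Defs

/-!
Operator groups without fixed involutions: the frame (the minimal counterexample).
-/

set_option autoImplicit false

open Subgroup Cfsg CfsgLib.LAE

universe u

namespace CfsgLib.Cop

variable {X : Type u} [Group X]

/-- The minimal counterexample: `X = G A`, `G` simple, `S` an `A`-invariant Sylow `2`-subgroup of `G`. -/
structure Fr (A G S : Subgroup X) : Prop where
  nrm : G.Normal
  top : G ⊔ A = ⊤
  simple : IsSimpleGroup G
  nc : ¬ IsMulCommutative G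
  syl : IsSylowIn 2 S G
  AS : A ≤ normalizer (S : Set X)
  fix : NoFix A G
  om : NoOm A G
  solv : ∀ H ≤ G, H ≠ G → A ≤ normalizer (H : Set X) → Group.IsSolvable H
  inv : ∀ t ∈ G, t * t = 1 → (∀ a ∈ A, ∃ g ∈ G, a * t * a⁻¹ = g * t * g⁻¹) → t = 1

namespace Fr

variable {A G S : Subgroup X}

theorem AG (h : Fr A G S) : A ≤ normalizer (G : Set X) := by
  have := h.nrm
  rw [normalizer_eq_top]
  exact le_top

theorem dec (h : Fr A G S) (x : X) : ∃ g ∈ G, ∃ a ∈ A, x = g * a := by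
  have := h.nrm
  have hx : x ∈ G ⊔ A := by rw [h.top]; exact mem_top x
  obtain ⟨g, hg, a, ha, e⟩ := mem_sup_of_normal_left.1 hx
  exact ⟨g, hg, a, ha, e.symm⟩

/-- No supplement centralizes an involution of `G`. -/
theorem inv_sup (h : Fr A G S) {Y : Subgroup X} (hY : Y ⊔ G = ⊤) {t : X} (ht : t ∈ G) (h2 : t * t = 1)
    (hc : ∀ y ∈ Y, y * t * y⁻¹ = t) : t = 1 := by
  have := h.nrm
  refine h.inv t ht h2 fun a _ => ?_
  have ha : a ∈ G ⊔ Y := by rw [sup_comm, hY]; exact mem_top a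
  obtain ⟨g, hg, y, hy, rfl⟩ := mem_sup_of_normal_left.1 ha
  refine ⟨g, hg, ?_⟩
  calc g * y * t * (g * y)⁻¹ = g * (y * t * y⁻¹) * g⁻¹ := by group
    _ = g * t * g⁻¹ := by rw [hc y hy]

/-- `A` centralizes no involution of `G`. -/
theorem eq_one (h : Fr A G S) {t : X} (ht : t ∈ G) (h2 : t * t = 1)
    (hc : ∀ a ∈ A, a * t * a⁻¹ = t) : t = 1 :=
  h.inv t ht h2 fun a ha => ⟨1, one_mem _, by rw [hc a ha]; simp⟩

/-- The normalizer in `G` of a non-trivial `2`-subgroup is proper. -/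
theorem norm_ne [Finite X] (h : Fr A G S) {C : Subgroup X} (hC : C ≤ G) (pC : IsPGroup 2 C)
    (C1 : C ≠ ⊥) : G ⊓ normalizer (C : Set X) ≠ G := by
  intro e
  have := h.simple
  have hn : (C.subgroupOf G).Normal :=
    (normal_subgroupOf_iff_le_normalizer hC).2 (e ▸ inf_le_right)
  rcases hn.eq_bot_or_eq_top with h1 | h1
  · exact C1 (by rwa [subgroupOf_eq_bot, disjoint_iff, inf_eq_left.2 hC] at h1)
  · have hG : IsPGroup 2 G := pC.to_le (subgroupOf_eq_top.1 h1)
    have : Fact (Nat.Prime 2) := ⟨Nat.prime_two⟩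
    have := hG.isNilpotent
    exact h.nc ⟨⟨IsSimpleGroup.comm_iff_isSolvable.2 inferInstance⟩⟩

/-- The normalizer in `G` of a non-trivial invariant `2`-subgroup is solvable. -/
theorem solv_norm [Finite X] (h : Fr A G S) {C : Subgroup X} (hC : C ≤ G) (pC : IsPGroup 2 C)
    (C1 : C ≠ ⊥) (hA : A ≤ normalizer (C : Set X)) :
    Group.IsSolvable (G ⊓ normalizer (C : Set X) : Subgroup X) := by
  have := h.nrm
  refine h.solv _ inf_le_left (h.norm_ne hC pC C1) fun a ha => ?_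
  refine mem_normalizer_fintype fun x hx => ⟨this.conj_mem _ hx.1 a, ?_⟩
  exact Subgroup.mul_mem _ (Subgroup.mul_mem _ (hA ha) hx.2) (Subgroup.inv_mem _ (hA ha))

end Fr

end CfsgLib.Cop
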