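import Mathlib
import Cfsg.Agent.Lib.OFP.CfA
import Cfsg.Agent.Lib.OFP.EndA
import Cfsg.Agent.Lib.OFP.Sec
import Cfsg.Agent.Lib.Cop.Frame

/-!
Operator groups without fixed involutions: the end of the case of the field with two elements.
-/

set_option autoImplicit false
set_option linter.unusedSectionVars false

namespace CfsgLib.Cop

open Subgroup Cfsg CfsgLib.LAE CfsgLib.Push CfsgLib.Blocks CfsgLib.ZJ CfsgLib.OFP
open scoped commutatorElement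

universe u

section map

variable {Γ Δ : Type*} [Group Γ] [Group Δ] [Finite Γ] [Finite Δ] {f : Γ →* Δ} {S B Q D U : Subgroup Γ}
  {a w k b t x : Γ}

theorem cf2_comm (hf : Function.Injective f) {x y : Γ} (h : Commute (f x) (f y)) : Commute x y :=
  hf (by rw [map_mul, map_mul]; exact h.eq)

theorem cf2_WW (a w : Γ) : (WW a w).map f = WW (f a) (f w) := by
  rw [WW, WW, MonoidHom.map_closure, Set.image_pair]

theorem cf2_norm (hf : Function.Injective f) (h : f x ∈ 𝒩[U.map f]) : x ∈ 𝒩[U] :=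
  mem_normalizer_fintype fun y hy => (mem_map_iff_mem hf).1 (by
    rw [map_mul, map_mul, map_inv]
    exact LAE.conj_mem_of_mem_normalizer h (mem_map_of_mem f hy))

theorem cf2_cent (hf : Function.Injective f) (h : f x ∈ 𝒞[U.map f]) : x ∈ 𝒞[U] :=
  mem_centralizer_iff.2 fun y hy => hf (by
    rw [map_mul, map_mul]
    exact mem_centralizer_iff.1 h _ (mem_map_of_mem f hy))

theorem cf2_cent' (h : x ∈ 𝒞[U]) : f x ∈ 𝒞[U.map f] := mem_centralizer_iff.2 (by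
  rintro _ ⟨y, hy, rfl⟩
  rw [← map_mul, ← map_mul, mem_centralizer_iff.1 h y hy])

theorem cf2_sm (hf : Function.Injective f) (h : Sm (B.map f) (Q.map f) (f a) (f w) (f k) (f b)) :
    Sm B Q a w k b := by
  have m : ∀ {K : Subgroup Γ} {x : Γ}, f x ∈ K.map f ↔ x ∈ K := fun {K x} => mem_map_iff_mem hf
  refine ⟨⟨m.1 h.aQ, m.1 h.wQ, cf2_cent hf h.ac, cf2_cent hf h.wc, hf (by rw [map_mul, h.aa, map_one]),
    hf (by rw [map_mul, h.ww, map_one]), fun e => h.w1 (by rw [e, map_one]), fun e => h.aw (by rw [e]),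
    cf2_norm hf h.kN, hf (by rw [map_mul, map_mul, map_inv, h.kw]),
    hf (by rw [map_mul, map_mul, map_inv, h.ka, map_mul]), fun x hx => ?_⟩,
    h.pB.of_injective (f.subgroupMap B) fun x y e => Subtype.ext (hf (congrArg Subtype.val e)),
    (map_le_map_iff_of_injective hf).1 h.QB, m.1 h.bB, fun e => h.bQ (m.2 e), fun x hx => ?_,
    hf (by rw [map_mul, map_mul, map_inv, h.ba, map_mul]), fun d hd hc => cf2_comm hf ?_⟩
  · refine m.1 ?_
    rw [cf2_WW, map_commutatorElement]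
    exact h.kQ _ (m.2 hx)
  · exact (h.idx _ (m.2 hx)).imp m.1 fun e => m.1 (by rwa [map_mul])
  · rw [map_mul, map_mul, map_inv]
    exact h.Db _ (m.2 hd) (hc.map f)

theorem cf2_ed (hf : Function.Injective f) (h : Ed S D a b w t) :
    Ed (S.map f) (D.map f) (f a) (f b) (f w) (f t) := by
  have m : ∀ {K : Subgroup Γ} {x : Γ}, f x ∈ K.map f ↔ x ∈ K := fun {K x} => mem_map_iff_mem hf
  refine ⟨h.pS.map f, m.2 h.aS, m.2 h.bS, m.2 h.tS, map_mono h.DS, by rw [← map_mul, h.aa, map_one],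
    by rw [← map_mul, h.ww, map_one], fun e => h.w1 (hf (by rw [e, map_one])), h.aw.map f, h.bw.map f,
    by rw [← map_inv, ← map_mul, ← map_mul, h.ba, map_mul], ?_, ?_, fun e => h.wD (m.1 e), ?_, ?_,
    by rw [← map_inv, ← map_mul, ← map_mul, h.ta], by rw [← map_inv, ← map_mul, ← map_mul, h.tw], ?_⟩
  · rintro _ ⟨d, hd, rfl⟩
    exact (h.Da d hd).map f
  · rintro _ ⟨d, hd, rfl⟩
    exact (h.Db d hd).map f
  · rintro _ ⟨x, hx, rfl⟩ h1 h2
    obtain ⟨u, hu, d, hd, rfl⟩ := h.cQ x hx (cf2_comm hf h1) (cf2_comm hf h2)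
    exact ⟨f u, cf2_WW (f := f) a w ▸ m.2 hu, f d, m.2 hd, map_mul f u d⟩
  · rintro _ ⟨y, hy, rfl⟩ h1
    have e : (S ⊓ 𝒞[WW a w]).map f = S.map f ⊓ 𝒞[WW (f a) (f w)] := by
      refine le_antisymm (le_inf (map_mono inf_le_left) ?_) ?_
      · rintro _ ⟨x, hx, rfl⟩
        rw [← cf2_WW]
        exact cf2_cent' hx.2
      · rintro _ ⟨⟨x, hx, rfl⟩, h2⟩
        rw [← cf2_WW] at h2
        exact m.2 ⟨hx, cf2_cent hf h2⟩
    rw [← e] at h1
    rw [← map_inv, ← map_mul, ← map_mul, ← map_mul]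
    exact (h.nQ y hy (cf2_norm hf h1)).imp (congrArg f) (congrArg f)
  · rw [← map_inv, ← map_mul, ← map_mul, ← map_mul]
    exact h.tb.imp (congrArg f) (congrArg f)

end map

variable {X : Type u} [Group X] [Finite X] {A G S B Q N L : Subgroup X} {a w k b σ : X}

theorem cf2_key (h : Sm B Q a w k b) (hσ : σ ∈ 𝒩[B]) {y v : X} (hy : y ∈ B) (hv : v ∈ WW a w) :
    y * (σ * v * σ⁻¹) * y⁻¹ = σ * v * σ⁻¹ ∨ y * (σ * v * σ⁻¹) * y⁻¹ = σ * v * σ⁻¹ * (σ * w * σ⁻¹) := by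
  have hy' : σ⁻¹ * y * σ ∈ B := conj_inv_mem_of_mem_normalizer hσ hy
  have e0 : y * (σ * v * σ⁻¹) * y⁻¹ = σ * (σ⁻¹ * y * σ * v * (σ⁻¹ * y * σ)⁻¹) * σ⁻¹ := by group
  rcases h.bk_W hy' hv with e | e
  · left; rw [e0, e]
  · right; rw [e0, e, conj_mul]

theorem cf2_tw (h : Sm B Q a w k b) (hσ : σ ∈ 𝒩[B]) {u : X} (hu : u ∈ WW a w) (hx : σ * u * σ⁻¹ ∉ Q) :
    σ * w * σ⁻¹ = w := by
  have hxB := LAE.conj_mem_of_mem_normalizer hσ (h.QB (h.toBlk.WQ hu))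
  have ia : a⁻¹ = a := inv_eq_of_mul_eq_one_right h.aa
  have e1 := h.conj_a hxB hx
  have e2 := h.cw hxB
  have e3 := cf2_key h hσ (h.QB h.aQ) hu
  generalize σ * u * σ⁻¹ = x at e1 e2 e3
  have e4 : a * x * a⁻¹ = x * w := by
    rw [ia, e2.eq]
    calc a * x * a = a * (x * a * x⁻¹) * x := by group
      _ = w * x := by rw [e1, ← mul_assoc, h.aa, one_mul]
  rw [e4] at e3
  rcases e3 with e | e
  · exact absurd (mul_eq_left.1 e) h.w1
  · exact (mul_left_cancel e).symm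

/-- An element of `N(B)` that moves `W` out of `Q`. -/
theorem cf2_swap (h : Sm B Q a w k b) (hσ : σ ∈ 𝒩[B]) (hC : ¬ conjS σ (WW a w) ≤ Q) :
    σ * w * σ⁻¹ = w ∧ σ * a * σ⁻¹ ∈ B ∧ σ * a * σ⁻¹ ∉ Q ∧
      ∀ d ∈ Q, Commute k d → Commute (σ * a * σ⁻¹) d := by
  rw [conjS_le_iff_forall] at hC
  push Not at hC
  obtain ⟨u, hu, hx⟩ := hC
  have tw := cf2_tw h hσ hu hx
  have hbB := LAE.conj_mem_of_mem_normalizer hσ (h.QB h.aQ)
  refine ⟨tw, hbB, fun hb => hx ?_, fun d hd hc => ?_⟩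
  · rcases h.toBlk.mem.1 hu with rfl | rfl | rfl | rfl
    · simp
    · exact hb
    · rw [tw]; exact h.wQ
    · rw [← conj_mul, tw]; exact mul_mem hb h.wQ
  have e1 := cf2_key h hσ (h.QB hd) (left_mem_WW a w)
  have e2 := h.conj_D (inv_mem hbB) hd hc
  rw [tw] at e1
  generalize σ * a * σ⁻¹ = c at e1 e2
  rcases e1 with e | e
  · exact (mul_inv_eq_iff_eq_mul.1 e).symm
  · have e3 : c⁻¹ * d * c⁻¹⁻¹ * d⁻¹ = w := by
      calc _ = c⁻¹ * (d * c * d⁻¹) := by group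
        _ = w := by rw [e]; group
    have e4 := e2.mul_right hc.inv_right
    rw [e3] at e4
    exact absurd (h.toBlk.eq_one (right_mem_WW _ _) e4) h.w1

/-- If the conjugates of `W` under `N ≤ N(B)` lie in `Q`, there is an `N`-invariant `B`-centric subgroup between
`W` and `Q`. -/
theorem cf2_core (h : Sm B Q a w k b) (hN : N ≤ 𝒩[B]) (hC : ∀ σ ∈ N, conjS σ (WW a w) ≤ Q) :
    ∃ C : Subgroup X, WW a w ≤ C ∧ C ≤ Q ∧ B ⊓ 𝒞[C] ≤ C ∧ N ≤ 𝒩[C] := by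
  have hV : nclIn (WW a w) N ≤ Q := nclIn_le_iff.2 hC
  have h1 : WW a w ≤ 𝒞[nclIn (WW a w) N] := h.toBlk.Wc.trans (centralizer_le hV)
  have h2 : nclIn (WW a w) N ≤ 𝒞[nclIn (WW a w) N] := nclIn_le_centralizer h1 (le_normalizer_nclIn _ _)
  refine ⟨B ⊓ 𝒞[nclIn (WW a w) N], le_inf (h.toBlk.WQ.trans h.QB) h1, fun x hx => h.mem_Q hx.1 ?_,
    inf_le_inf_left B (centralizer_le (le_inf (hV.trans h.QB) h2)),
    le_normalizer_inf hN (le_normalizer_centralizer (le_normalizer_nclIn _ _))⟩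
  exact (mem_centralizer_iff.1 hx.2 a (le_nclIn _ _ (left_mem_WW a w))).symm

/-- If `b` centralizes `D`, a conjugate of `w` under `N(B)` is `w` or lies in `D`. -/
theorem cf2_orb (h : Sm B Q a w k b) (bD : ∀ d ∈ Q, Commute k d → Commute b d) (hσ : σ ∈ 𝒩[B])
    (hne : σ * w * σ⁻¹ ≠ w) : Commute k (σ * w * σ⁻¹) := by
  have hQ : σ * a * σ⁻¹ ∈ Q := by
    by_contra hx
    exact hne (cf2_tw h hσ (left_mem_WW a w) hx)
  obtain ⟨u, hu, d, hd, kd, e⟩ := h.toBlk.split hQ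
  have wd : Commute w d := (mem_centralizer_iff.1 h.wc d hd).symm
  have hb := cf2_key h hσ h.bB (left_mem_WW a w)
  have hy : σ * b * σ⁻¹ ∈ B := LAE.conj_mem_of_mem_normalizer hσ h.bB
  have e1 : σ * b * σ⁻¹ * (σ * a * σ⁻¹) * (σ * b * σ⁻¹)⁻¹ = σ * a * σ⁻¹ * (σ * w * σ⁻¹) := by
    rw [conj_mul, conj_mul, ← h.ba]; group
  have e2 := h.conj_D hy hd kd
  have e3 := h.cw hy
  rw [e] at hb e1
  generalize σ * w * σ⁻¹ = z at *
  generalize σ * b * σ⁻¹ = y at *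
  have c1 : Commute y u → Commute k z := fun c => by
    have : z = d⁻¹ * (y * d * y⁻¹) := by
      calc z = d⁻¹ * u⁻¹ * (u * d * z) := by group
        _ = d⁻¹ * u⁻¹ * (y * u * d * y⁻¹) := by rw [← e1]; group
        _ = _ := by rw [c.eq]; group
    rw [this]
    exact kd.inv_right.mul_right e2
  have c2 : b * u * b⁻¹ = u * w → Commute k z := fun c => by
    have e4 : b * (u * d) * b⁻¹ = u * d * w := by
      calc b * (u * d) * b⁻¹ = b * u * b⁻¹ * (b * d * b⁻¹) := by group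
        _ = u * w * d := by rw [c, (bD d hd kd).eq, mul_inv_cancel_right]
        _ = _ := by rw [mul_assoc, wd.eq, mul_assoc]
    rw [e4] at hb
    rcases hb with e5 | e5
    · exact absurd (mul_eq_left.1 e5) h.w1
    · exact absurd (mul_left_cancel e5).symm hne
  rcases h.toBlk.mem.1 hu with rfl | rfl | rfl | rfl
  · exact c1 (Commute.one_right y)
  · exact c2 h.ba
  · exact c1 e3
  · exact c2 (by rw [← conj_mul, h.ba, h.bw.eq, mul_inv_cancel_right])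

/-- The case `L ≤ N(B)`, some element of `L` moves `W` out of `Q`. -/
theorem cf2_inv (h : Sm B Q a w k b) (hL : L ≤ 𝒩[B]) (hσ : σ ∈ 𝒩[B]) (hC : ¬ conjS σ (WW a w) ≤ Q) :
    ∃ x ∈ B, x ≠ 1 ∧ ∀ g ∈ L, Commute g x := by
  obtain ⟨-, h2, h3, h4⟩ := cf2_swap h hσ hC
  have wB : ∀ g ∈ L, g * w * g⁻¹ ∈ B := fun g hg => LAE.conj_mem_of_mem_normalizer (hL hg) (h.QB h.wQ)
  have wc : ∀ g ∈ L, ∀ y ∈ B, Commute y (g * w * g⁻¹) := fun g hg y hy => by
    have := (h.cw (conj_inv_mem_of_mem_normalizer (hL hg) hy)).conj g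
    rwa [show g * (g⁻¹ * y * g) * g⁻¹ = y by group] at this
  refine EndA.exists_prod (D := 𝒞[zpowers k]) (w := w) (fun e => h.w1 (h.toBlk.eq_one (right_mem_WW a w) ?_))
    (fun g hg g' hg' => wc g' hg' _ (wB g hg)) wB fun g hg hne => ?_
  · exact mem_centralizer_iff.1 e k (mem_zpowers k)
  · have := cf2_orb (h.change h2 h3) h4 (hL hg) hne
    rw [mem_centralizer_iff]
    rintro _ ⟨n, rfl⟩
    exact this.zpow_left n

/-- The case that an element of `N_S(B)` moves `W` out of `Q`. -/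
theorem cf2_syl (hS : IsSylowIn 2 S G) (SL : S ≤ L) (LN : L ≤ 𝒩[S]) (h : Sm B Q a w k b) (BS : B ≤ S)
    (kG : k ∈ G)
    (hm : ∀ (U T : Subgroup X) (k' : X), Q ≤ U → U ≤ S → k' ∈ G → k' ∈ 𝒩[U] → k'⁻¹ * k ∈ 𝒞[Q] → IsPGroup 2 T →
      T ≤ G → B ≤ T → T ≤ 𝒩[U] → bau 2 T = B)
    (σS : σ ∈ S) (hσ : σ ∈ 𝒩[B]) (hC : ¬ conjS σ (WW a w) ≤ Q) :
    ∃ x ∈ S, x ≠ 1 ∧ ∀ g ∈ L, Commute g x := by
  obtain ⟨h1, h2, h3, h4⟩ := cf2_swap h hσ hC
  have h' := h.change h2 h3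
  have BG : B ≤ G := BS.trans hS.le
  have QG : Q ≤ G := h.QB.trans BG
  have hf := G.subtype_injective
  have eS : (S.subgroupOf G).map G.subtype = S := map_subgroupOf_eq_of_le hS.le
  have eB : (B.subgroupOf G).map G.subtype = B := map_subgroupOf_eq_of_le BG
  have eQ : (Q.subgroupOf G).map G.subtype = Q := map_subgroupOf_eq_of_le QG
  have ho : Odd (Nat.card G.subtype.ker) := by rw [ker_subtype, card_bot]; exact odd_one
  have c : CfA (S.subgroupOf G) (B.subgroupOf G) (Q.subgroupOf G) ⟨a, QG h.aQ⟩ ⟨w, QG h.wQ⟩ ⟨k, kG⟩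
      ⟨σ * a * σ⁻¹, BG h2⟩ ⟨σ, hS.le σS⟩ := by
    refine ⟨cf2_sm hf (by rw [eB, eQ]; exact h'), subgroupOf_self G ▸ hS.subgroupOf le_rfl, comap_mono BS, ?_,
      fun d hd hc => cf2_comm hf (h4 _ hd (hc.map G.subtype)), σS, cf2_norm hf (by rw [eB]; exact hσ),
      Subtype.ext h1, rfl⟩
    intro U T k' u1 u2 u3 u4 pT t1 t2
    refine map_injective hf ?_
    rw [sec_bau ho pT, eB]
    refine hm (U.map G.subtype) _ k' (eQ ▸ map_mono u1) (eS ▸ map_mono u2) k'.2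
      (le_normalizer_map G.subtype (mem_map_of_mem _ u3)) ?_ (pT.map _) (map_subtype_le T) (eB ▸ map_mono t1)
      ((map_mono t2).trans (le_normalizer_map G.subtype))
    have := cf2_cent' (f := G.subtype) u4
    rwa [eQ] at this
  obtain ⟨D, hD⟩ := c.exists_ed
  have := cf2_ed hf hD
  rw [eS] at this
  exact this.exists_fixed SL LN

/-- The configuration over the field with two elements yields a fixed point of `L ≤ N(S)` in `S`. -/
theorem cf2_fixed (hS : IsSylowIn 2 S G) (SL : S ≤ L) (LN : L ≤ 𝒩[S]) (h : Sm B Q a w k b) (BS : B ≤ S)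
    (kG : k ∈ G)
    (hm : ∀ (U T : Subgroup X) (k' : X), Q ≤ U → U ≤ S → k' ∈ G → k' ∈ 𝒩[U] → k'⁻¹ * k ∈ 𝒞[Q] → IsPGroup 2 T →
      T ≤ G → B ≤ T → T ≤ 𝒩[U] → bau 2 T = B)
    (hc : ∀ C T : Subgroup X, WW a w ≤ C → C ≤ Q → B ⊓ 𝒞[C] ≤ C → T ≤ S → B ≤ T → T ≤ 𝒩[C] → bau 2 T = B)
    (hinv : ∀ C : Subgroup X, WW a w ≤ C → C ≤ Q → B ⊓ 𝒞[C] ≤ C → ¬ L ≤ 𝒩[C]) :
    ∃ x ∈ S, x ≠ 1 ∧ ∀ g ∈ L, Commute g x := by
  by_cases h1 : ∀ σ ∈ S ⊓ 𝒩[B], conjS σ (WW a w) ≤ Q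
  swap
  · push Not at h1
    obtain ⟨σ, hσ, hC⟩ := h1
    exact cf2_syl hS SL LN h BS kG hm hσ.1 hσ.2 hC
  obtain ⟨C, c1, c2, c3, c4⟩ := cf2_core h inf_le_right h1
  have e := hc C _ c1 c2 c3 inf_le_left (le_inf BS le_normalizer) c4
  have hSB : S ≤ S ⊓ 𝒩[B] := by
    by_contra hn
    obtain ⟨y, y1, y2, y3, -⟩ := end1_exists_norm hS.isPGroup inf_le_left hn
    have := normalizer_le_normalizer_bau (p := 2) _ y2
    rw [e] at this
    exact y3 ⟨y1, this⟩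
  rw [le_antisymm inf_le_left hSB] at e
  have hL : L ≤ 𝒩[B] := by
    rw [← e]
    exact LN.trans (normalizer_le_normalizer_bau S)
  by_cases h2 : ∀ σ ∈ L, conjS σ (WW a w) ≤ Q
  · obtain ⟨C', c1', c2', c3', c4'⟩ := cf2_core h hL h2
    exact absurd c4' (hinv C' c1' c2' c3')
  · push Not at h2
    obtain ⟨σ, hσ, hC⟩ := h2
    obtain ⟨x, hx, h3⟩ := cf2_inv h hL (hL hσ) hC
    exact ⟨x, BS hx, h3⟩

/-- `A` centralizes no non-trivial element of `S`. -/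
theorem Fr.eq_one_of_mem (h : Fr A G S) {x : X} (hx : x ∈ S) (hc : ∀ g ∈ A, Commute g x) : x = 1 := by
  obtain ⟨n, hn⟩ := two_of_mem h.syl.isPGroup hx
  induction n generalizing x with
  | zero => simpa using hn
  | succ n ih =>
    have e : x * x = 1 := ih (mul_mem hx hx) (fun g hg => (hc g hg).mul_right (hc g hg))
      (by rw [← sq, ← pow_mul, ← pow_succ', hn])
    exact h.eq_one (h.syl.le hx) e fun g hg => by rw [(hc g hg).eq, mul_inv_cancel_right]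

/-- The configuration over the field with two elements does not occur. -/
theorem Fr.cf2 (h : Fr A G S) (s : Sm B Q a w k b) (BS : B ≤ S) (kG : k ∈ G)
    (hm : ∀ (U T : Subgroup X) (k' : X), Q ≤ U → U ≤ S → k' ∈ G → k' ∈ 𝒩[U] → k'⁻¹ * k ∈ 𝒞[Q] → IsPGroup 2 T →
      T ≤ G → B ≤ T → T ≤ 𝒩[U] → bau 2 T = B)
    (hc : ∀ C T : Subgroup X, WW a w ≤ C → C ≤ Q → B ⊓ 𝒞[C] ≤ C → T ≤ S → B ≤ T → T ≤ 𝒩[C] → bau 2 T = B)
    (hinv : ∀ C : Subgroup X, WW a w ≤ C → C ≤ Q → B ⊓ 𝒞[C] ≤ C → ¬ S ⊔ A ≤ 𝒩[C]) : False := by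
  obtain ⟨x, hx, h1, h2⟩ := cf2_fixed h.syl le_sup_left (sup_le le_normalizer h.AS) s BS kG hm hc hinv
  exact h1 (h.eq_one_of_mem hx fun g hg => h2 g (mem_sup_right hg))

end CfsgLib.Cop
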