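import Cfsg.Agent.Lib.Cop.Big2
import Cfsg.Agent.Lib.OFP.T2Main

/-!
Operator groups without fixed involutions: there is no minimal counterexample.
-/

set_option autoImplicit false

open Subgroup Cfsg CfsgLib.LAE CfsgLib.OFP

universe u

namespace CfsgLib.Cop

variable {X : Type u} [Group X] [Finite X] {A G S : Subgroup X}

theorem Fr.false (h : Fr A G S) : False :=
  h.false_of_good (step2 h.syl h.SM inf_le_left h.AS (fun _ h1 h2 h3 h4 => h.loc_inv h1 h2 h3 h4)
    (fun _ h1 => h.loc_cz h1) (fun _ h1 h2 => h.loc_fix h1 h2) fun _ _ _ _ _ _ _ _ _ l _ e => h.bigE l e)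

end CfsgLib.Cop
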