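import Cfsg.Agent.Lib.LAE.Sylow
import Cfsg.Agent.Lib.Coprime.Glauberman
import Cfsg.Agent.Lib.KMS.Cover
import Cfsg.Agent.Lib.Core.Fitting
import Cfsg.Agent.Lib.Core.MinNormal
import Cfsg.Agent.Lib.Frob.Nilpotent

/-!
A fixed point lemma for nilpotent fixed-point-free operator groups (no coprimeness): supplements
contain a conjugate of the operator group.
-/

set_option autoImplicit false

namespace CfsgLib.Cop

open Subgroup CfsgLib.LAE

universe u

variable {X : Type u} [Group X]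

/-- Splitting of a nilpotent subgroup into its `r`-part and its `r'`-part. -/
theorem sup_split [Finite X] (A : Subgroup X) (hA : Group.IsNilpotent A) {r : ℕ} (hr : r.Prime) :
    ∃ E B : Subgroup X, E ≤ A ∧ B ≤ A ∧ A ≤ normalizer (E : Set X) ∧ A ≤ normalizer (B : Set X) ∧
      IsPGroup r E ∧ (Nat.card B).Coprime r ∧ ∀ a ∈ A, ∃ x ∈ E, ∃ y ∈ B, a = x * y := by
  have : Group.IsNilpotent (⊤ : Subgroup A) := inferInstance
  obtain ⟨E, B, _, _, -, -, h3, h4, hs⟩ := KMS.exists_split (⊤ : Subgroup A) this hr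
  refine ⟨E.map A.subtype, B.map A.subtype, map_subtype_le _, map_subtype_le _,
    le_normalizer_map_subtype E, le_normalizer_map_subtype B, h3.map _, ?_, fun a ha => ?_⟩
  · rwa [card_map_of_injective A.subtype_injective]
  · obtain ⟨x, hx, y, hy, e⟩ := hs ⟨a, ha⟩ (mem_top _)
    exact ⟨x, mem_map_of_mem _ hx, y, mem_map_of_mem _ hy, congrArg Subtype.val e⟩

theorem sup_inf_eq_bot {A K : Subgroup X} (hA : Group.IsNilpotent A)
    (hAK : A ≤ normalizer (K : Set X)) (hfix : K ⊓ centralizer (A : Set X) = ⊥) : A ⊓ K = ⊥ := by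
  by_contra h
  refine Core.inf_centralizer_ne_bot_of_isNilpotent (N := A ⊓ K) (K := A) inf_le_left
    (le_normalizer_inf le_normalizer hAK) h ?_
  rw [eq_bot_iff, ← hfix]
  exact inf_le_inf_right _ inf_le_right

/-- The case of an `r`-group. -/
theorem sup_pgroup [Finite X] {A N W : Subgroup X} (hA : Group.IsNilpotent A) {r : ℕ}
    (hr : r.Prime) (hN : IsPGroup r N) (hAN : A ≤ normalizer (N : Set X))
    (hfix : N ⊓ centralizer (A : Set X) = ⊥) (h : ∀ a ∈ A, ∃ n ∈ N, ∃ w ∈ W, a = n * w) :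
    ∃ n ∈ N, ∀ a ∈ A, n * a * n⁻¹ ∈ W := by
  have := Fact.mk hr
  obtain ⟨E, B, hE, hB, -, hAB, hEp, hBc, hs⟩ := sup_split A hA hr
  have hb : N ⊓ centralizer (B : Set X) = ⊥ := by
    by_contra hne
    refine Core.inf_centralizer_ne_bot_of_isPGroup (N := N ⊓ centralizer (B : Set X)) (P := E)
      (hN.to_le inf_le_left) hEp
      (hE.trans (le_normalizer_inf hAN (le_normalizer_centralizer hAB))) hne ?_
    rw [eq_bot_iff, ← hfix]
    rintro x ⟨⟨h1, h2⟩, h3⟩
    refine ⟨h1, fun a ha => ?_⟩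
    obtain ⟨e, he, b, hb, rfl⟩ := hs a ha
    rw [mul_assoc, h2 b hb, ← mul_assoc, h3 e he, mul_assoc]
  have hcop : (Nat.card B).Coprime (Nat.card N) := by
    obtain ⟨k, hk⟩ := hN.exists_card_eq
    rw [hk]; exact hBc.pow_right k
  have hsN : Group.IsSolvable N := by have := hN.isNilpotent; infer_instance
  have hx : ∀ a ∈ A, ∃ k ∈ N, a • ((1 : X) : X ⧸ W) = k • ((1 : X) : X ⧸ W) := by
    intro a ha
    obtain ⟨n, hn, w, hw, rfl⟩ := h a ha
    refine ⟨n, hn, ?_⟩
    simp only [MulAction.Quotient.smul_coe, smul_eq_mul, mul_one]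
    exact QuotientGroup.eq.2 (by simpa using W.inv_mem hw)
  obtain ⟨n, hn, hfx⟩ := Coprime.exists_fixed_in_orbit (hB.trans hAN) hcop (Or.inr hsN)
    ((1 : X) : X ⧸ W) (fun a ha => hx a (hB ha))
  refine ⟨n⁻¹, N.inv_mem hn, fun a ha => ?_⟩
  obtain ⟨k, hk, e⟩ := hx a ha
  have hm : a * n * a⁻¹ * k * n⁻¹ ∈ N :=
    N.mul_mem (N.mul_mem (conj_mem_of_mem_normalizer (hAN ha) hn) hk) (N.inv_mem hn)
  have e1 : (a * n * a⁻¹ * k * n⁻¹) • n • ((1 : X) : X ⧸ W) = a • n • ((1 : X) : X ⧸ W) := by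
    rw [smul_smul, show a * n * a⁻¹ * k * n⁻¹ * n = a * n * a⁻¹ * k by group, mul_smul, ← e,
      smul_smul, smul_smul]
    congr 1
    group
  obtain ⟨c, hc, e2⟩ := Coprime.exists_centralizer_smul_eq (hB.trans hAN) hcop (Or.inr hsN)
    (n • ((1 : X) : X ⧸ W)) hm hfx (fun b hb => by
      rw [e1, smul_smul, show b * a = a * (a⁻¹ * b * a) by group, mul_smul,
        hfx _ (conj_inv_mem_of_mem_normalizer (hAB ha) hb)])
  rw [hb, mem_bot] at hc
  rw [hc, one_smul, e1] at e2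
  simp only [MulAction.Quotient.smul_coe, smul_eq_mul, mul_one] at e2
  have := QuotientGroup.eq.1 e2
  simpa [mul_assoc] using this

theorem sup_aux (n : ℕ) : ∀ (X : Type u) [Group X] [Finite X], Nat.card X = n →
    ∀ (A K W : Subgroup X) [K.Normal], Group.IsNilpotent A → Group.IsSolvable K →
      K ⊓ centralizer (A : Set X) = ⊥ → (∀ a ∈ A, ∃ k ∈ K, ∃ w ∈ W, a = k * w) →
      ∃ k ∈ K, ∀ a ∈ A, k * a * k⁻¹ ∈ W := by
  induction n using Nat.strong_induction_on with
  | _ n ih =>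
  intro X _ _ hn A K W _ hA hs hfix h
  by_cases h1 : K = ⊥
  · subst h1
    refine ⟨1, one_mem _, fun a ha => ?_⟩
    obtain ⟨k, hk, w, hw, rfl⟩ := h a ha
    rw [mem_bot.1 hk]; simpa using hw
  have := (nontrivial_iff_ne_bot K).2 h1
  obtain ⟨p, V, hp, hc, hV, -, hexp⟩ := Frob.exists_characteristic_elementary (G := K)
  set N := V.map K.subtype with hN
  have hNn : N.Normal := inferInstance
  have hNK : N ≤ K := map_subtype_le _
  have hN1 : N ≠ ⊥ := by rwa [Ne, map_eq_bot_iff_of_injective _ K.subtype_injective]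
  have hNp : IsPGroup p N := Core.isPGroup_of_forall_pow_eq_one (by
    rintro _ ⟨x, hx, rfl⟩
    rw [← map_pow, hexp x hx, map_one])
  have hfN : N ⊓ centralizer (A : Set X) = ⊥ := by
    rw [eq_bot_iff, ← hfix]; exact inf_le_inf_right _ hNK
  have hAK := sup_inf_eq_bot hA (le_normalizer_of_normal (H := K)) hfix
  have hlt : Nat.card (X ⧸ N) < n := by
    rw [← hn, card_eq_card_quotient_mul_card_subgroup N]
    have h1 : 1 < Nat.card N := (one_lt_card_iff_ne_bot N).2 hN1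
    have h0 : 0 < Nat.card (X ⧸ N) := Nat.card_pos
    nlinarith
  let π := QuotientGroup.mk' N
  have hπ : Function.Surjective π := QuotientGroup.mk'_surjective N
  have : (K.map π).Normal := Normal.map inferInstance π hπ
  have hA' : Group.IsNilpotent (A.map π) :=
    Group.nilpotent_of_surjective _ (π.subgroupMap_surjective A)
  have hs' : Group.IsSolvable (K.map π) :=
    Group.isSolvable_of_surjective (π.subgroupMap_surjective K)
  have hfix' : K.map π ⊓ centralizer ((A.map π : Subgroup _) : Set (X ⧸ N)) = ⊥ := by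
    rw [eq_bot_iff]
    rintro _ ⟨⟨k, hk, rfl⟩, hc⟩
    have hk' : ∀ a ∈ A, a * k * a⁻¹ * k⁻¹ ∈ N := by
      intro a ha
      have e := hc (π a) (mem_map_of_mem π ha)
      rw [← QuotientGroup.eq_one_iff]
      change π _ = 1
      rw [map_mul, map_mul, map_mul, e, map_inv, map_inv]
      all_goals group
    obtain ⟨m, hm, hma⟩ := sup_pgroup (W := conjS k A) hA hp hNp le_normalizer_of_normal hfN
      (fun a ha => ⟨a * k * a⁻¹ * k⁻¹, hk' a ha, k * a * k⁻¹, conj_mem_conjS.2 ha, by group⟩)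
    · have hy : k⁻¹ * m ∈ K ⊓ centralizer (A : Set X) := by
        refine ⟨K.mul_mem (K.inv_mem hk) (hNK hm), fun a ha => ?_⟩
        have h1 : k⁻¹ * m * a * (k⁻¹ * m)⁻¹ * a⁻¹ ∈ A ⊓ K := by
          refine ⟨A.mul_mem ?_ (A.inv_mem ha), ?_⟩
          · have := mem_conjS.1 (hma a ha)
            convert this using 1
            group
          · rw [show k⁻¹ * m * a * (k⁻¹ * m)⁻¹ * a⁻¹ = k⁻¹ * m * (a * (k⁻¹ * m)⁻¹ * a⁻¹) by group]
            have hkm := K.mul_mem (K.inv_mem hk) (hNK hm)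
            exact K.mul_mem hkm (Normal.conj_mem inferInstance _ (K.inv_mem hkm) a)
        rw [hAK, mem_bot] at h1
        calc a * (k⁻¹ * m) = 1 * a * (k⁻¹ * m) := by group
          _ = k⁻¹ * m * a := by rw [← h1]; group
      rw [hfix, mem_bot, inv_mul_eq_one] at hy
      rw [mem_bot, hy]
      exact (QuotientGroup.eq_one_iff _).2 hm
  obtain ⟨_, ⟨k, hk, rfl⟩, hka⟩ := ih _ hlt (X ⧸ N) rfl (A.map π) (K.map π) (W.map π) hA' hs' hfix'
    (by
      rintro _ ⟨a, ha, rfl⟩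
      obtain ⟨k, hk, w, hw, rfl⟩ := h a ha
      exact ⟨π k, mem_map_of_mem π hk, π w, mem_map_of_mem π hw, map_mul π k w⟩)
  obtain ⟨m, hm, hma⟩ := sup_pgroup (W := conjS k⁻¹ W) hA hp hNp le_normalizer_of_normal hfN
    (fun a ha => by
      obtain ⟨w, hw, e⟩ := hka (π a) (mem_map_of_mem π ha)
      refine ⟨a * (k⁻¹ * w * k)⁻¹, ?_, k⁻¹ * w * k, by simpa [mem_conjS, mul_assoc] using hw,
        by group⟩
      rw [← QuotientGroup.eq_one_iff]
      change π _ = 1
      rw [map_mul, map_inv, map_mul, map_mul, e, map_inv]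
      group)
  refine ⟨k * m, K.mul_mem hk (hNK hm), fun a ha => ?_⟩
  have := mem_conjS.1 (hma a ha)
  convert this using 1
  group

/-- **Supplement lemma, solvable case.** `A` nilpotent and fixed-point-free on the solvable group
`K`; if `A ⊆ K W` then a `K`-conjugate of `A` lies in `W`. -/
theorem sup_solv [Finite X] {A K W : Subgroup X} (hA : Group.IsNilpotent A)
    (hAK : A ≤ normalizer (K : Set X)) (hs : Group.IsSolvable K)
    (hfix : K ⊓ centralizer (A : Set X) = ⊥) (h : ∀ a ∈ A, ∃ k ∈ K, ∃ w ∈ W, a = k * w) :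
    ∃ k ∈ K, ∀ a ∈ A, k * a * k⁻¹ ∈ W := by
  set Y := normalizer (K : Set X) with hY
  have hKY : K ≤ Y := le_normalizer
  have : (K.subgroupOf Y).Normal := normal_subgroupOf_of_le le_rfl
  obtain ⟨k, hk, hka⟩ := sup_aux _ Y rfl (A.subgroupOf Y) (K.subgroupOf Y) (W.subgroupOf Y)
    (Group.nilpotent_of_mulEquiv (subgroupOfEquivOfLe hAK).symm)
    (Group.isSolvable_of_surjective (f := (subgroupOfEquivOfLe hKY).symm.toMonoidHom)
      (subgroupOfEquivOfLe hKY).symm.surjective)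
    (by
      rw [centralizer_subgroupOf hAK, eq_bot_iff]
      intro x hx
      have : (x : X) ∈ K ⊓ centralizer (A : Set X) := hx
      rw [hfix, mem_bot] at this
      exact mem_bot.2 (Subtype.ext this))
    (fun a ha => by
      obtain ⟨k, hk, w, hw, e⟩ := h a ha
      have hwY : w ∈ Y := by
        rw [show w = k⁻¹ * a by rw [e]; group]
        exact Y.mul_mem (Y.inv_mem (hKY hk)) a.2
      exact ⟨⟨k, hKY hk⟩, hk, ⟨w, hwY⟩, hw, Subtype.ext e⟩)
  exact ⟨k, hk, fun a ha => hka ⟨a, hAK ha⟩ ha⟩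

/-- The hypotheses of a minimal counterexample: `X = G A`. -/
structure SupHy (A G : Subgroup X) : Prop where
  nil : Group.IsNilpotent A
  top : G ⊔ A = ⊤
  fix : G ⊓ centralizer (A : Set X) = ⊥
  cent : centralizer (G : Set X) = ⊥
  nop : ∀ (p : ℕ) (R : Subgroup X), p.Prime → IsPGroup p R → R ≤ G →
    G ≤ normalizer (R : Set X) → R = ⊥
  solv : ∀ H ≤ G, H ≠ G → A ≤ normalizer (H : Set X) → Group.IsSolvable H

/-- `Y` contains a `G`-conjugate of `A`. -/
def Good (A G Y : Subgroup X) : Prop := ∃ g ∈ G, ∀ a ∈ A, g * a * g⁻¹ ∈ Y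

theorem Good.mono {A G Y Y' : Subgroup X} (h : Good A G Y) (hY : Y ≤ Y') : Good A G Y' :=
  let ⟨g, hg, h⟩ := h
  ⟨g, hg, fun a ha => hY (h a ha)⟩

namespace SupHy

variable {A G : Subgroup X} [hGn : G.Normal]

theorem exists_mul {W : Subgroup X} (h : W ⊔ G = ⊤) (x : X) : ∃ g ∈ G, ∃ w ∈ W, x = g * w :=
  (mem_sup_iff_of_right_le_normalizer le_normalizer_of_normal).1
    (by rw [sup_comm, h]; exact mem_top x)

omit hGn in
theorem sup_of_exists {W : Subgroup X} (h : ∀ x : X, ∃ g ∈ G, ∃ w ∈ W, x = g * w) :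
    W ⊔ G = ⊤ := by
  rw [eq_top_iff]
  intro x _
  obtain ⟨g, hg, w, hw, rfl⟩ := h x
  exact mul_mem (mem_sup_right hg) (mem_sup_left hw)

theorem good_conj (H : SupHy A G) {Y : Subgroup X} (h : Good A G Y) (x : X) :
    Good A G (conjS x Y) := by
  obtain ⟨g, hg, h⟩ := h
  obtain ⟨g', hg', b, hb, rfl⟩ := exists_mul (W := A) (by rw [sup_comm, H.top]) x
  refine ⟨g' * (b * g * b⁻¹), G.mul_mem hg' (hGn.conj_mem _ hg b), fun a ha => ?_⟩
  rw [mem_conjS]
  have := h (b⁻¹ * a * b) (A.mul_mem (A.mul_mem (A.inv_mem hb) ha) hb)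
  convert this using 1
  group

theorem down0 [Finite X] (H : SupHy A G) {Y W : Subgroup X} (hA : A ≤ Y) (hY : ¬ G ≤ Y)
    (hW : W ≤ Y) (hs : W ⊔ G = ⊤) : Good A G W := by
  have hn : A ≤ normalizer ((Y ⊓ G : Subgroup X) : Set X) :=
    le_normalizer_inf (hA.trans le_normalizer) le_normalizer_of_normal
  obtain ⟨k, hk, h⟩ := sup_solv (W := W) H.nil hn
    (H.solv _ inf_le_right (fun e => hY (e ▸ inf_le_left)) hn)
    (by rw [eq_bot_iff, ← H.fix]; exact inf_le_inf_right _ inf_le_right)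
    (fun a ha => by
      obtain ⟨g, hg, w, hw, e⟩ := exists_mul hs a
      refine ⟨g, ⟨?_, hg⟩, w, hw, e⟩
      rw [show g = a * w⁻¹ by rw [e]; group]
      exact Y.mul_mem (hA ha) (Y.inv_mem (hW hw)))
  exact ⟨k, hk.2, h⟩

theorem down [Finite X] (H : SupHy A G) {Y W : Subgroup X} (h : Good A G Y) (hY : ¬ G ≤ Y)
    (hW : W ≤ Y) (hs : W ⊔ G = ⊤) : Good A G W := by
  obtain ⟨g, hg, h⟩ := h
  have := H.down0 (Y := conjS g⁻¹ Y) (W := conjS g⁻¹ W)
    (fun a ha => by simpa [mem_conjS] using h a ha)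
    (fun e => hY (by
      have := conjS_mono (g := g) e
      rwa [conjS_conjS_inv, conjS_eq_of_normal] at this))
    (conjS_mono hW)
    (by rw [← conjS_eq_of_normal g⁻¹ G, ← conjS_sup, hs, conjS_top])
  simpa [conjS_conjS_inv] using H.good_conj this g

theorem not_le_normalizer (H : SupHy A G) {p : ℕ} (hp : p.Prime) {R : Subgroup X}
    (hR : IsPGroup p R) (h1 : R ≠ ⊥) : ¬ G ≤ normalizer (R : Set X) := by
  intro h
  have h0 := H.nop p (R ⊓ G) hp (hR.to_le inf_le_left) inf_le_right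
    (le_normalizer_inf h le_normalizer)
  apply h1
  rw [eq_bot_iff, ← H.cent, ← commutator_eq_bot_iff_le_centralizer, eq_bot_iff, ← h0]
  exact le_inf (commutator_le_left_of_le_normalizer h) (commutator_le_right _ _)

section climb

variable [Finite X] {p : ℕ} [hp : Fact p.Prime] {E : Subgroup X}

theorem frat (hE : IsPGroup p E) [(G ⊔ E).Normal] {Y R : Subgroup X} (hY : Y ⊔ G = ⊤)
    (hR : IsSylowIn p R (Y ⊓ (G ⊔ E))) :
    (∀ y ∈ Y ⊓ (G ⊔ E), ∃ g ∈ G, ∃ r ∈ R, y = g * r) ∧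
      (Y ⊓ normalizer (R : Set X)) ⊔ G = ⊤ := by
  let π := QuotientGroup.mk' G
  have h1 : ∀ y ∈ Y ⊓ (G ⊔ E), ∃ g ∈ G, ∃ r ∈ R, y = g * r := by
    have hp' : IsPGroup p ((Y ⊓ (G ⊔ E)).map π) := by
      refine (hE.map π).to_le ((map_mono inf_le_right).trans ?_)
      rw [Subgroup.map_sup, (map_eq_bot_iff G).2 (by rw [QuotientGroup.ker_mk']), bot_sup_eq]
    have e := (hR.map π).eq_of_le _ hp' (map_mono hR.le) le_rfl
    intro y hy
    obtain ⟨r, hr, e'⟩ : π y ∈ R.map π := e ▸ mem_map_of_mem π hy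
    refine ⟨y * r⁻¹, ?_, r, hr, by group⟩
    rw [← QuotientGroup.eq_one_iff]
    change π _ = 1
    rw [map_mul, map_inv, e', mul_inv_cancel]
  refine ⟨h1, sup_of_exists fun x => ?_⟩
  obtain ⟨g, hg, y, hy, rfl⟩ := exists_mul hY x
  obtain ⟨n, hn, w, hw, e⟩ := hR.frattini (x := y)
    (le_normalizer_inf le_normalizer le_normalizer_of_normal hy)
  obtain ⟨g', hg', r, hr, e'⟩ := h1 n hn
  have hwY : w ∈ Y := by
    rw [show w = n⁻¹ * y by rw [e]; group]
    exact Y.mul_mem (Y.inv_mem hn.1) hy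
  refine ⟨g * g', G.mul_mem hg hg', r * w, ⟨Y.mul_mem (hR.le hr).1 hwY,
    mul_mem (le_normalizer hr) hw⟩, ?_⟩
  rw [e, e']; group

theorem climb (H : SupHy A G) (hE : IsPGroup p E) [(G ⊔ E).Normal] {P : Subgroup X}
    (hP : IsSylowIn p P (G ⊔ E)) (n : ℕ) : ∀ R : Subgroup X, Nat.card X - Nat.card R = n →
      IsPGroup p R → R ≤ G ⊔ E → R ≠ ⊥ → normalizer (R : Set X) ⊔ G = ⊤ →
      (Good A G (normalizer (R : Set X)) ↔ Good A G (normalizer (P : Set X))) := by
  induction n using Nat.strong_induction_on with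
  | _ n ih =>
  intro R hn hR hRN h1 hs
  obtain ⟨T, hT, hRT⟩ := exists_isSylowIn_ge (H := normalizer (R : Set X) ⊓ (G ⊔ E)) hR
    (le_inf le_normalizer hRN)
  by_cases e : T = R
  · subst e
    obtain ⟨U, hU, hTU⟩ := exists_isSylowIn_ge (H := G ⊔ E) hR hRN
    have hUT : U = T := by
      by_contra hne
      have hlt := Core.lt_inf_normalizer_of_isPGroup hU.isPGroup
        (lt_of_le_of_ne hTU (Ne.symm hne))
      exact hlt.ne' (hT.eq_of_le _ (hU.isPGroup.to_le inf_le_left) hlt.le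
        (le_inf inf_le_right (inf_le_left.trans hU.le)))
    subst hUT
    obtain ⟨g, -, e⟩ := hU.exists_conj hP
    constructor
    · intro h
      have := H.good_conj h g
      rwa [conjS_normalizer, e] at this
    · intro h
      have := H.good_conj h g⁻¹
      rwa [conjS_normalizer, ← e, conjS_inv_conjS] at this
  · have hlt : Nat.card R < Nat.card T := lt_of_le_of_ne (card_le_of_le hRT)
      (fun h => e (eq_of_le_of_card_ge hRT h.ge).symm)
    have hle : Nat.card T ≤ Nat.card X := T.card_le_card_group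
    have hT1 : T ≠ ⊥ := fun h => h1 (le_bot_iff.1 (h ▸ hRT))
    obtain ⟨-, hW⟩ := frat hE hs hT
    rw [← ih _ (by omega) T rfl hT.isPGroup (hT.le.trans inf_le_right) hT1
      (top_le_iff.1 (hW ▸ sup_le_sup_right inf_le_right G))]
    exact ⟨fun h => (H.down h (H.not_le_normalizer hp.out hR h1) inf_le_left hW).mono inf_le_right,
      fun h => (H.down h (H.not_le_normalizer hp.out hT.isPGroup hT1) inf_le_right hW).mono
        inf_le_left⟩

theorem good_iff (H : SupHy A G) (hE : IsPGroup p E) (hEG : ¬ E ≤ G) [(G ⊔ E).Normal]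
    {P : Subgroup X} (hP : IsSylowIn p P (G ⊔ E)) {Y : Subgroup X} (hY : Y ⊔ G = ⊤)
    (hG : ¬ G ≤ Y) : Good A G Y ↔ Good A G (normalizer (P : Set X)) := by
  obtain ⟨R, hR⟩ := exists_isSylowIn p (Y ⊓ (G ⊔ E))
  obtain ⟨h1, hW⟩ := frat hE hY hR
  have hR1 : R ≠ ⊥ := by
    rintro rfl
    refine hEG fun e he => ?_
    obtain ⟨g, hg, y, hy, e'⟩ := exists_mul hY e
    obtain ⟨g', hg', r, hr, e''⟩ := h1 y ⟨hy, by
      rw [show y = g⁻¹ * e by rw [e']; group]
      exact mul_mem (mem_sup_left (G.inv_mem hg)) (mem_sup_right he)⟩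
    rw [e', e'', mem_bot.1 hr, mul_one]
    exact G.mul_mem hg hg'
  rw [← H.climb hE hP _ R rfl hR.isPGroup (hR.le.trans inf_le_right) hR1
    (top_le_iff.1 (hW ▸ sup_le_sup_right inf_le_right G))]
  exact ⟨fun h => (H.down h hG inf_le_left hW).mono inf_le_right,
    fun h => (H.down h (H.not_le_normalizer hp.out hR.isPGroup hR1) inf_le_right hW).mono
      inf_le_left⟩

end climb

/-- **Supplement lemma.** Every supplement to `G` that does not contain `G` contains a
`G`-conjugate of `A`. -/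
theorem good [Finite X] (H : SupHy A G) {Y : Subgroup X} (hY : Y ⊔ G = ⊤) (hG : ¬ G ≤ Y) :
    Good A G Y := by
  by_cases hA : A = ⊥
  · exact ⟨1, one_mem _, fun a ha => by rw [hA, mem_bot] at ha; simp [ha]⟩
  have hAG := sup_inf_eq_bot H.nil (le_normalizer_of_normal (H := G)) H.fix
  obtain ⟨p, hp, hd⟩ := Nat.exists_prime_and_dvd ((one_lt_card_iff_ne_bot A).2 hA).ne'
  have := Fact.mk hp
  obtain ⟨E, B, hE, hB, hAE, -, hEp, hBc, hs⟩ := sup_split A H.nil hp
  have hEG : ¬ E ≤ G := by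
    intro h
    have hE0 : E = ⊥ := by rw [eq_bot_iff, ← hAG]; exact le_inf hE h
    have : A = B := le_antisymm (fun a ha => by
      obtain ⟨x, hx, y, hy, rfl⟩ := hs a ha
      rw [hE0, mem_bot] at hx
      simpa [hx] using hy) hB
    rw [this] at hd
    exact (hp.coprime_iff_not_dvd.1 hBc.symm) hd
  have : (G ⊔ E).Normal := by
    rw [← normalizer_eq_top_iff, eq_top_iff, ← H.top]
    exact sup_le (le_sup_left.trans le_normalizer)
      (le_normalizer_sup le_normalizer_of_normal hAE)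
  obtain ⟨P, hP⟩ := exists_isSylowIn p (G ⊔ E)
  have hGA : ¬ G ≤ A := fun h => hG (by
    rw [← inf_eq_right.2 h, hAG]; exact bot_le)
  rw [H.good_iff hEp hEG hP hY hG, ← H.good_iff hEp hEG hP (by rw [sup_comm, H.top]) hGA]
  exact ⟨1, one_mem _, fun a ha => by simpa using ha⟩

/-- Fixed point form: if `G` is transitive on an orbit of `X` and does not fix it pointwise, then
`A` has a fixed point there. -/
theorem exists_fixed [Finite X] (H : SupHy A G) {Ω : Type*} [MulAction X Ω] (x : Ω)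
    (hx : ∀ a ∈ A, ∃ g ∈ G, a • x = g • x) (hG : ∃ g ∈ G, g • x ≠ x) :
    ∃ g ∈ G, ∀ a ∈ A, a • g • x = g • x := by
  obtain ⟨g, hg, h⟩ := H.good (Y := MulAction.stabilizer X x) (sup_of_exists fun y => by
    obtain ⟨g, hg, a, ha, rfl⟩ := exists_mul (W := A) (by rw [sup_comm, H.top]) y
    obtain ⟨k, hk, e⟩ := hx a ha
    refine ⟨g * k, G.mul_mem hg hk, k⁻¹ * a, ?_, by group⟩
    rw [MulAction.mem_stabilizer_iff, mul_smul, e, inv_smul_smul])
    (fun h => let ⟨g, hg, e⟩ := hG; e (h hg))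
  refine ⟨g⁻¹, G.inv_mem hg, fun a ha => ?_⟩
  have := MulAction.mem_stabilizer_iff.1 (h a ha)
  rw [mul_smul, mul_smul] at this
  rw [eq_inv_smul_iff, this]

/-- No non-trivial `G`-class of elements of `G` is `A`-invariant. -/
theorem eq_one_of_class [Finite X] (H : SupHy A G) {t : X} (ht : t ∈ G)
    (hx : ∀ a ∈ A, ∃ g ∈ G, a * t * a⁻¹ = g * t * g⁻¹) : t = 1 := by
  by_cases hG : G ≤ centralizer ({t} : Set X)
  · rw [← mem_bot, ← H.cent]
    exact fun g hg => (hG hg t rfl).symm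
  obtain ⟨g, hg, h⟩ := H.good (Y := centralizer ({t} : Set X)) (sup_of_exists fun y => by
    obtain ⟨g, hg, a, ha, rfl⟩ := exists_mul (W := A) (by rw [sup_comm, H.top]) y
    obtain ⟨k, hk, e⟩ := hx a ha
    refine ⟨g * k, G.mul_mem hg hk, k⁻¹ * a, ?_, by group⟩
    rw [mem_centralizer_singleton_iff]
    calc k⁻¹ * a * t = k⁻¹ * (a * t * a⁻¹) * a := by group
      _ = t * (k⁻¹ * a) := by rw [e]; group) hG
  have : g⁻¹ * t * g ∈ G ⊓ centralizer (A : Set X) := by
    refine ⟨by simpa using hGn.conj_mem _ ht g⁻¹, fun a ha => ?_⟩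
    have e := mem_centralizer_singleton_iff.1 (h a ha)
    calc a * (g⁻¹ * t * g) = g⁻¹ * (g * a * g⁻¹ * t) * g := by group
      _ = g⁻¹ * t * g * a := by rw [e]; group
  rw [H.fix, mem_bot] at this
  calc t = g * (g⁻¹ * t * g) * g⁻¹ := by group
    _ = 1 := by rw [this]; group

/-- Every Sylow subgroup of `G` has an `A`-invariant conjugate. -/
theorem exists_sylow [Finite X] (H : SupHy A G) (r : ℕ) [hr : Fact r.Prime] :
    ∃ S : Subgroup X, IsSylowIn r S G ∧ A ≤ normalizer (S : Set X) := by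
  obtain ⟨S, hS⟩ := exists_isSylowIn r G
  by_cases h1 : S = ⊥
  · exact ⟨S, hS, by rw [h1]; exact le_normalizer_of_normal⟩
  obtain ⟨g, hg, h⟩ := H.good (Y := normalizer (S : Set X)) (sup_of_exists fun y =>
    hS.frattini (le_normalizer_of_normal (mem_top y))) (H.not_le_normalizer hr.out hS.isPGroup h1)
  refine ⟨conjS g⁻¹ S, hS.conj_of_mem (G.inv_mem hg), fun a ha => ?_⟩
  rw [← conjS_normalizer, mem_conjS]
  simpa using h a ha

end SupHy

end CfsgLib.Cop
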