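import Cfsg.Agent.Lib.Cop.S1Defs
import Cfsg.Agent.Lib.Cop.Sup

/-! COP step 1: the hypotheses `NoFix`, `NoOm` from the abstract Glauberman lemma. -/

set_option autoImplicit false

open Subgroup Cfsg CfsgLib.LAE CfsgLib.ZN CfsgLib.MinS Module
open scoped commutatorElement

universe u

namespace CfsgLib.Cop

section Lin

variable {V : Type*} [AddCommGroup V] [Module (ZMod 2) V] [Finite V] {F : Subgroup (GLv V)}

/-- `F` is transitive on a normalizer-invariant set of nonzero vectors. -/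
theorem om_orbit (hodd : Odd (Nat.card F)) (hn : Group.IsNilpotent F) {y : GLv V} (hy : Om F y) :
    ∃ u : V, u ≠ 0 ∧ ∀ g ∈ normalizer (F : Set (GLv V)), ∃ f ∈ F, f u = g u := by
  classical
  obtain ⟨n, x, h1, h2, h3, -, -, -, h4⟩ := Om.exists_decomp hodd hn
  let U : Set V := {v | v ∈ ⨆ i, cm ⊤ (x i) ∧ ∀ i, x i v ≠ v}
  have hU : ∀ g ∈ normalizer (F : Set (GLv V)), ∀ v ∈ U, g v ∈ U := fun g hg v hv => by
    refine ⟨?_, fun i e => ?_⟩
    · have : (⨆ i, cm ⊤ (x i)).map (g : V →ₗ[ZMod 2] V) ≤ ⨆ i, cm ⊤ (x i) := by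
        rw [Submodule.map_iSup]
        refine iSup_le fun i => ?_
        obtain ⟨a, b⟩ := Om.conj (X := normalizer (F : Set (GLv V))) le_rfl (h1 i) hg
        obtain ⟨j, e | e⟩ := h2 _ a
        · rw [← b, e]; exact le_iSup (fun i => cm ⊤ (x i)) j
        · rw [← b, e, cm_top_inv]; exact le_iSup (fun i => cm ⊤ (x i)) j
      exact this ⟨v, hv.1, rfl⟩
    · obtain ⟨a, -⟩ := Om.conj (X := normalizer (F : Set (GLv V))) le_rfl (h1 i) (inv_mem hg)
      have e' : v ∈ fx (g⁻¹ * x i * g⁻¹⁻¹) := mem_fx.2 (by rw [inv_inv, gmul, gmul, e, ginv])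
      obtain ⟨j, e2 | e2⟩ := h2 _ a
      · exact hv.2 j (mem_fx.1 (e2 ▸ e'))
      · rw [e2, fx_inv] at e'; exact hv.2 j (mem_fx.1 e')
  have tr : ∀ v ∈ U, ∀ v' ∈ U, ∃ f ∈ F, f v = v' := fun v hv v' hv' => by
    have key : ∀ s : Finset (Fin n), ∃ f ∈ F, ∀ i ∈ s,
        x i (f v) + x i (x i (f v)) = x i v' + x i (x i v') := fun s => by
      induction s using Finset.induction_on with
      | empty => exact ⟨1, one_mem _, by simp⟩
      | insert j s hj ih =>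
        obtain ⟨f, hf, e⟩ := ih
        obtain ⟨a1, -, a3⟩ := (h1 j).comp (f v)
        obtain ⟨b1, -, b3⟩ := (h1 j).comp v'
        have a4 := mt a3.1 ((hU f (le_normalizer hf) v hv).2 j)
        have b4 := mt b3.1 (hv'.2 j)
        set w := x j (f v) + x j (x j (f v)) with hw
        have a5 : x j w ≠ w := fun e => a4 ((Submodule.mem_bot _).1
          ((h1 j).fpf.le ⟨a1, mem_fx.2 e⟩))
        have a6 : x j w ∈ cm ⊤ (x j) := (Inv.top _).cm_self w a1
        obtain ⟨m, hm⟩ : ∃ m : ℕ, (x j ^ m) w = x j v' + x j (x j v') := by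
          rcases two_dim (h1 j).rk a1 a6 a4 (fun e => a4 ((x j).map_eq_zero_iff.1 e)) a5 b1
            with e | e | e | e
          · exact absurd e b4
          · exact ⟨0, by rw [e]; rfl⟩
          · exact ⟨1, by rw [e, pow_one]⟩
          · exact ⟨2, by rw [e, sq, gmul, (h1 j).sq a1]⟩
        have c : ∀ i, x i * x j ^ m = x j ^ m * x i := fun i => by
          refine (Commute.pow_right ?_ m).eq
          by_cases e : i = j
          · rw [e]
          · exact (h3 i j e).2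
        refine ⟨x j ^ m * f, mul_mem (pow_mem (h1 j).mem m) hf, fun i hi => ?_⟩
        rw [gmul, gcomm (c i), gcomm (c i), ← map_add]
        rcases Finset.mem_insert.1 hi with rfl | hi
        · exact hm
        · rw [← e i hi]
          exact mem_fx.1 (fx_le_pow _ m ((h3 i j fun e => hj (e ▸ hi)).1 ((h1 i).comp (f v)).1))
    obtain ⟨f, hf, e⟩ := key Finset.univ
    refine ⟨f, hf, add_eq_zero_v.1 ((Submodule.mem_bot _).1 (h4.le ⟨?_, ?_⟩))⟩
    · exact add_mem (hU f (le_normalizer hf) v hv).1 hv'.1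
    · refine (Submodule.mem_iInf _).2 fun i => mem_fx.2 (((h1 i).comp _).2.2.1 ?_)
      have := e i (Finset.mem_univ i)
      simp only [map_add]
      rw [add_add_add_comm, this, add_self_v]
  have hw : ∀ i, ∃ w ∈ cm ⊤ (x i), x i w ≠ w := fun i => by
    by_contra hcon
    push Not at hcon
    exact (h1 i).not_le fun w hw => mem_fx.2 (hcon w hw)
  choose w w1 w2 using hw
  have hu : ∑ i, w i ∈ U := by
    refine ⟨sum_mem fun i _ => Submodule.mem_iSup_of_mem i (w1 i), fun i e => w2 i ?_⟩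
    rw [← Finset.add_sum_erase _ _ (Finset.mem_univ i), map_add, map_sum,
      Finset.sum_congr rfl fun j hj => mem_fx.1 ((h3 j i (Finset.ne_of_mem_erase hj)).1 (w1 j))] at e
    exact add_right_cancel e
  refine ⟨_, fun e => ?_, fun g hg => tr _ hu _ (hU g hg _ hu)⟩
  obtain ⟨i, -⟩ := h2 y hy
  exact hu.2 i (by rw [e, map_zero])

end Lin

variable {X : Type u} [Group X] [Finite X] {A G : Subgroup X}

/-- The Glauberman lemma for the solvable invariant subgroups of `G`. -/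
def GLs (A G : Subgroup X) : Prop :=
  ∀ K W : Subgroup X, K ≤ G → A ≤ normalizer (K : Set X) → Group.IsSolvable K →
    (∀ a ∈ A, ∃ k ∈ K, ∃ w ∈ W, a = k * w) → ∃ k ∈ K, ∀ a ∈ A, k * a * k⁻¹ ∈ W

theorem gls_of_nilp (hA : Group.IsNilpotent A) (hfix : G ⊓ centralizer (A : Set X) = ⊥) :
    GLs A G := fun _ _ hK hn hs h =>
  sup_solv hA hn hs (eq_bot_iff.2 ((inf_le_inf_right _ hK).trans hfix.le)) h

omit [Finite X] in
theorem noFix_of_gl (gl : GLs A G) (hG : A ≤ normalizer (G : Set X)) (hd : A ⊓ G = ⊥)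
    (ho : Odd (Nat.card (G ⊓ centralizer (A : Set X) : Subgroup X)))
    (sol : ∀ H ≤ G, H ≠ G → A ≤ normalizer (H : Set X) → Group.IsSolvable H) : NoFix A G := by
  intro K hK hA h hh hn h2 hc
  by_cases e : K = G
  · exact e ▸ hh
  obtain ⟨k, hk, hk'⟩ := gl K (conjS h A) hK hA (sol K hK e hA) fun a ha =>
    ⟨⁅h, a⁆⁻¹, inv_mem (hc a ha), _, conj_mem_conjS.2 ha, by
      simp only [commutatorElement_def]; group⟩
  have hy : h⁻¹ * k ∈ G := mul_mem (inv_mem hh) (hK hk)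
  have h3 : h⁻¹ * k ∈ G ⊓ centralizer (A : Set X) := ⟨hy, fun a ha => by
    have m1 : h⁻¹ * k * a * (h⁻¹ * k)⁻¹ * a⁻¹ ∈ A := by
      refine mul_mem ?_ (inv_mem ha)
      have := mem_conjS.1 (hk' a ha)
      rwa [show h⁻¹ * (k * a * k⁻¹) * h = h⁻¹ * k * a * (h⁻¹ * k)⁻¹ by group] at this
    have m2 : h⁻¹ * k * a * (h⁻¹ * k)⁻¹ * a⁻¹ ∈ G := by
      rw [mul_assoc, mul_assoc, ← mul_assoc a]
      exact mul_mem hy (conj_mem_of_mem_normalizer (hG ha) (inv_mem hy))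
    have m3 : h⁻¹ * k * a * (h⁻¹ * k)⁻¹ * a⁻¹ = 1 := mem_bot.1 (hd ▸ ⟨m1, m2⟩)
    rw [mul_inv_eq_one, mul_inv_eq_iff_eq_mul] at m3
    exact m3.symm⟩
  have h4 : h⁻¹ * k ∈ K := mem_of_pow_mem_of_coprime (n := 2)
    (Nat.coprime_two_right.2 (M1.odd_orderOf_of_mem ho h3)) (by
      rw [show (h⁻¹ * k) ^ 2 = (h * h)⁻¹ * (h * k * h⁻¹) * k by rw [sq]; group]
      exact mul_mem (mul_mem (inv_mem h2) (conj_mem_of_mem_normalizer hn hk)) hk)
  simpa using mul_mem hk (inv_mem h4)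

theorem noOm_of_gl (hf : NoFix A G) (gl : GLs A G)
    (sol : ∀ H ≤ G, H ≠ G → A ≤ normalizer (H : Set X) → Group.IsSolvable H)
    (sim : ∀ N ≤ G, G ≤ normalizer (N : Set X) → N = ⊥ ∨ N = G) : NoOm A G := by
  intro H E Z V _ _ _ s F hH hE hA hF hn hodd hnil x hx
  have nZ : ∀ g ∈ H ⊔ A, g ∈ normalizer (Z : Set X) := fun g hg =>
    mem_normalizer_of_conjS_le (conjS_le_iff_forall.2 fun z hz =>
      (s.π_eq_zero _ (s.conj_mem hg (s.Z_le hz))).1 (by
        rw [s.conj g hg z (s.Z_le hz), (s.π_eq_zero z (s.Z_le hz)).2 hz, map_zero]))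
  have sq : ∀ e ∈ E, e * e ∈ Z := fun e he =>
    (s.π_eq_zero _ (mul_mem he he)).1 (by rw [s.π_mul e he e he, add_self_v])
  have cE : ∀ a ∈ E, ∀ e ∈ E, s.π (a * e * a⁻¹) = s.π e := fun a ha e he => by
    rw [s.π_mul _ (mul_mem ha he) _ (inv_mem ha), s.π_mul a ha e he, s.π_inv ha, add_right_comm,
      add_self_v, zero_add]
  obtain ⟨u, u0, hu⟩ := om_orbit hodd hnil hx
  have hs : Group.IsSolvable H := by
    refine sol H hH (fun e => ?_) hA
    rcases sim E hE (e ▸ le_sup_left.trans s.normE) with e1 | e1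
    · obtain ⟨a, ha, rfl⟩ := s.surj u
      rw [e1, mem_bot] at ha
      exact u0 (ha ▸ s.π_one)
    · obtain ⟨g, hg, hL, rfl⟩ := s.mem_im.1 (hF hx.mem)
      refine hx.ne_one (LinearEquiv.ext fun v => ?_)
      obtain ⟨a, ha, rfl⟩ := s.surj v
      rw [← s.conj g hL a ha, cE g (e1 ▸ hH hg) a ha]; rfl
  obtain ⟨k, hk, hk'⟩ := gl H (s.pre (MulAction.stabilizer (GLv V) u)) hH hA hs fun a ha => by
    obtain ⟨f, hf, e⟩ := hu _ (hn (s.ρ_mem_im ha (mem_sup_right ha)))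
    obtain ⟨k, hk, hL, rfl⟩ := s.mem_im.1 (hF hf)
    refine ⟨k, hk, k⁻¹ * a, s.mem_pre.2 ⟨mul_mem (inv_mem hL) (mem_sup_right ha), ?_⟩, by group⟩
    change s.ρ (k⁻¹ * a) u = u
    rw [s.ρ_mul _ (inv_mem hL) _ (mem_sup_right ha), s.ρ_inv hL, gmul, ← e, ginv]
  have hL : k ∈ H ⊔ A := mem_sup_left hk
  obtain ⟨e, he, he'⟩ := s.surj ((s.ρ k)⁻¹ u)
  have := hf Z (s.Z_le.trans hE) (fun a ha => nZ a (mem_sup_right ha)) e (hE he)
    (mem_normalizer_of_conjS_le (conjS_le_iff_forall.2 fun z hz =>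
      (s.π_eq_zero _ (mul_mem (mul_mem he (s.Z_le hz)) (inv_mem he))).1 (by
        rw [cE e he z (s.Z_le hz)]; exact (s.π_eq_zero z (s.Z_le hz)).2 hz)))
    (sq e he) fun a ha => by
      rw [← commutatorElement_inv]
      refine inv_mem ((s.ρ_π_eq_iff (mem_sup_right ha) he).1 ?_)
      have h1 : s.ρ (k * a * k⁻¹) u = u := (s.mem_pre.1 (hk' a ha)).2
      rw [s.ρ_conj hL (mem_sup_right ha), gmul, gmul] at h1
      rw [he']
      conv_rhs => rw [← h1, ginv]
  rw [← s.π_eq_zero e he, he'] at this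
  exact u0 ((s.ρ k)⁻¹.map_eq_zero_iff.1 this)

end CfsgLib.Cop
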