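import Cfsg.Agent.Lib.Cop.Frame
import Cfsg.Agent.Lib.Cop.S1GL
import Cfsg.Agent.Lib.FPD.Red

/-!
Operator groups without fixed involutions: normal subgroups `G` of `X` such that no supplement fixes
an involution in a section of `G`.  Reduction to the frame `Fr`.
-/

set_option autoImplicit false

open Subgroup Cfsg CfsgLib.LAE CfsgLib.ZN CfsgLib.MinS CfsgLib.FPD
open scoped commutatorElement

universe u

namespace CfsgLib.Cop

section

variable {X : Type u} [Group X]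

/-- The stabilizer of `K` and of the coset `h K`. -/
def fixS (K : Subgroup X) (h : X) : Subgroup X where
  carrier := {y | y ∈ normalizer (K : Set X) ∧ ⁅h, y⁆ ∈ K}
  one_mem' := ⟨one_mem _, by simp⟩
  mul_mem' := fun {a b} ha hb => ⟨mul_mem ha.1 hb.1, by
    rw [show ⁅h, a * b⁆ = ⁅h, a⁆ * (a * ⁅h, b⁆ * a⁻¹) by
      simp only [commutatorElement_def]; group]
    exact mul_mem ha.2 (conj_mem_of_mem_normalizer ha.1 hb.2)⟩
  inv_mem' := fun {a} ha => ⟨inv_mem ha.1, by
    rw [show ⁅h, a⁻¹⁆ = a⁻¹ * ⁅h, a⁆⁻¹ * a by simp only [commutatorElement_def]; group]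
    exact conj_inv_mem_of_mem_normalizer ha.1 (inv_mem ha.2)⟩

theorem mem_fixS {K : Subgroup X} {h y : X} :
    y ∈ fixS K h ↔ y ∈ normalizer (K : Set X) ∧ ⁅h, y⁆ ∈ K := Iff.rfl

/-- No `G`-class of involutions in sections of `G` is invariant under `A`. -/
def InvA (A G : Subgroup X) : Prop :=
  ∀ K : Subgroup X, K ≤ G → ∀ h ∈ G, h ∈ normalizer (K : Set X) → h * h ∈ K →
    (∀ a ∈ A, ∃ g ∈ G, g⁻¹ * a ∈ fixS K h) → h ∈ K

variable {A B G H : Subgroup X}

theorem InvA.change (h : InvA A G) (hH : H ≤ G) (hB : ∀ a ∈ A, ∃ g ∈ G, g⁻¹ * a ∈ B) :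
    InvA B H := fun K hK x hx hn h2 hc => h K (hK.trans hH) x (hH hx) hn h2 fun a ha => by
  obtain ⟨g, hg, hb⟩ := hB a ha
  obtain ⟨k, hk, e⟩ := hc _ hb
  exact ⟨g * k, mul_mem hg (hH hk), by rwa [mul_inv_rev, mul_assoc]⟩

theorem InvA.noFix (h : InvA A G) : NoFix A G := fun K hK hA x hx hn h2 hc =>
  h K hK x hx hn h2 fun a ha => ⟨1, one_mem _, by
    rw [inv_one, one_mul]; exact ⟨hA ha, hc a ha⟩⟩

theorem invA_of_sup [G.Normal] (h : ∀ Y : Subgroup X, Y ⊔ G = ⊤ → NoFix Y G) : InvA ⊤ G :=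
  fun K hK x hx hn h2 hc => h (fixS K x) (eq_top_iff.2 fun a _ => by
    obtain ⟨g, hg, e⟩ := hc a (mem_top a)
    rw [show a = g * (g⁻¹ * a) by group]
    exact mul_mem (mem_sup_right hg) (mem_sup_left e)) K hK (fun _ hy => hy.1) x hx hn h2
    fun _ hy => hy.2

theorem InvA.eq_one (h : InvA A G) {t : X} (ht : t ∈ G) (h2 : t * t = 1)
    (hc : ∀ a ∈ A, ∃ g ∈ G, a * t * a⁻¹ = g * t * g⁻¹) : t = 1 := by
  refine mem_bot.1 (h ⊥ bot_le t ht (by simp) (mem_bot.2 h2) fun a ha => ?_)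
  obtain ⟨g, hg, e⟩ := hc a ha
  refine ⟨g, hg, by simp, mem_bot.2 ?_⟩
  calc ⁅t, g⁻¹ * a⁆ = t * (g⁻¹ * (a * t * a⁻¹)⁻¹ * g) := by
        simp only [commutatorElement_def]; group
    _ = 1 := by rw [e]; group

theorem InvA.noOm [Finite X] (h : InvA A G) : NoOm A G := by
  intro H E Z V _ _ _ s F hH hE hA hF hn hodd hnil x hx
  have nZ : ∀ g ∈ H ⊔ A, g ∈ normalizer (Z : Set X) := fun g hg =>
    mem_normalizer_of_conjS_le (conjS_le_iff_forall.2 fun z hz =>
      (s.π_eq_zero _ (s.conj_mem hg (s.Z_le hz))).1 (by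
        rw [s.conj g hg z (s.Z_le hz), (s.π_eq_zero z (s.Z_le hz)).2 hz, map_zero]))
  have cE : ∀ a ∈ E, ∀ e ∈ E, s.π (a * e * a⁻¹) = s.π e := fun a ha e he => by
    rw [s.π_mul _ (mul_mem ha he) _ (inv_mem ha), s.π_mul a ha e he, s.π_inv ha, add_right_comm,
      add_self_v, zero_add]
  obtain ⟨u, u0, hu⟩ := om_orbit hodd hnil hx
  obtain ⟨e, he, rfl⟩ := s.surj u
  refine u0 ((s.π_eq_zero e he).2 (h Z (s.Z_le.trans hE) e (hE he)
    (mem_normalizer_of_conjS_le (conjS_le_iff_forall.2 fun z hz =>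
      (s.π_eq_zero _ (mul_mem (mul_mem he (s.Z_le hz)) (inv_mem he))).1 (by
        rw [cE e he z (s.Z_le hz)]; exact (s.π_eq_zero z (s.Z_le hz)).2 hz)))
    ((s.π_eq_zero _ (mul_mem he he)).1 (by rw [s.π_mul e he e he, add_self_v])) fun a ha => ?_))
  obtain ⟨f, hf, e1⟩ := hu _ (hn (s.ρ_mem_im ha (mem_sup_right ha)))
  obtain ⟨k, hk, hL, rfl⟩ := s.mem_im.1 (hF hf)
  have hm : k⁻¹ * a ∈ H ⊔ A := mul_mem (inv_mem hL) (mem_sup_right ha)
  refine ⟨k, hH hk, nZ _ hm, ?_⟩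
  rw [← commutatorElement_inv]
  refine inv_mem ((s.ρ_π_eq_iff hm he).1 ?_)
  rw [s.ρ_mul _ (inv_mem hL) _ (mem_sup_right ha), s.ρ_inv hL, gmul, ← e1, ginv]

theorem InvA.map [Finite X] (h : InvA A G) (hA : A ≤ normalizer (G : Set X)) {Y : Type*} [Group Y]
    (f : X →* Y) : InvA (A.map f) (G.map f) := by
  rintro K hK _ ⟨x, hx, rfl⟩ hn h2 hc
  have nr : ∀ y ∈ normalizer (G : Set X), f y ∈ normalizer (K : Set Y) →
      y ∈ normalizer ((G ⊓ K.comap f : Subgroup X) : Set X) := fun y h1 h2 =>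
    mem_normalizer_of_conjS_le (conjS_le_iff_forall.2 fun k hk =>
      ⟨conj_mem_of_mem_normalizer h1 hk.1, by
        change f (y * k * y⁻¹) ∈ K
        rw [map_mul, map_mul, map_inv]
        exact conj_mem_of_mem_normalizer h2 hk.2⟩)
  refine (h (G ⊓ K.comap f) inf_le_left x hx (nr x (le_normalizer hx) hn)
    ⟨mul_mem hx hx, by change f (x * x) ∈ K; rwa [map_mul]⟩ fun a ha => ?_).2
  obtain ⟨_, ⟨g, hg, rfl⟩, e⟩ := hc _ (mem_map_of_mem f ha)
  rw [← map_inv, ← map_mul] at e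
  have hy : g⁻¹ * a ∈ normalizer (G : Set X) := mul_mem (inv_mem (le_normalizer hg)) (hA ha)
  refine ⟨g, hg, nr _ hy e.1, ?_, ?_⟩
  · rw [commutatorElement_def, mul_assoc, mul_assoc, ← mul_assoc (g⁻¹ * a)]
    exact mul_mem hx (conj_mem_of_mem_normalizer hy (inv_mem hx))
  · change f ⁅x, g⁻¹ * a⁆ ∈ K
    rw [map_commutatorElement]; exact e.2

theorem InvA.sub [Finite X] (h : InvA A G) {M : Subgroup X} (hA : A ≤ M) :
    InvA (A.subgroupOf M) (G.subgroupOf M) := by
  intro K hK x hx hn h2 hc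
  have nr : ∀ y : M, y ∈ normalizer (K : Set M) →
      (y : X) ∈ normalizer ((K.map M.subtype : Subgroup X) : Set X) := fun y hy =>
    le_normalizer_map M.subtype (mem_map_of_mem M.subtype hy)
  obtain ⟨y, hy, e⟩ := h (K.map M.subtype) (by rintro _ ⟨k, hk, rfl⟩; exact hK hk) x hx (nr x hn)
    ⟨_, h2, rfl⟩ fun a ha => by
      obtain ⟨g, hg, e⟩ := hc ⟨a, hA ha⟩ ha
      exact ⟨g, hg, nr _ e.1, ⟨_, e.2, rfl⟩⟩
  exact Subtype.ext e ▸ hy

/-- Prescribing the components of an element. -/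
theorem crt {ι : Type*} [Finite ι] [G.Normal] {L : Subgroup X} (hL : L ≤ G) (r : ι → X)
    (hr : ∀ i j, i ≠ j → ∀ l ∈ L, (r i)⁻¹ * (r j * l * (r j)⁻¹) * r i ∈ centralizer (L : Set X))
    (l : ι → X) (hl : ∀ i, l i ∈ L) :
    ∃ g ∈ G, ∀ i, (l i)⁻¹ * ((r i)⁻¹ * g * r i) ∈ G ⊓ centralizer (L : Set X) := by
  classical
  have := Fintype.ofFinite ι
  have key : ∀ s : Finset ι, ∃ g ∈ G,
      (∀ i ∈ s, (l i)⁻¹ * ((r i)⁻¹ * g * r i) ∈ centralizer (L : Set X)) ∧
      ∀ i ∉ s, (r i)⁻¹ * g * r i ∈ centralizer (L : Set X) := fun s => by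
    induction s using Finset.induction_on with
    | empty => exact ⟨1, one_mem _, by simp, fun i _ => by simp⟩
    | insert j s hj ih =>
      obtain ⟨g, hg, h1, h2⟩ := ih
      refine ⟨g * (r j * l j * (r j)⁻¹), mul_mem hg (Normal.conj_mem ‹_› _ (hL (hl j)) _),
        fun i hi => ?_, fun i hi => ?_⟩
      · rcases Finset.mem_insert.1 hi with rfl | hi
        · have := conj_inv_mem_of_mem_normalizer
            (le_normalizer_centralizer le_normalizer (hl i)) (h2 i hj)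
          convert this using 1; group
        · have := mul_mem (h1 i hi) (hr i j (fun e => hj (e ▸ hi)) _ (hl j))
          convert this using 1; group
      · rw [Finset.mem_insert, not_or] at hi
        have := mul_mem (h2 i hi.2) (hr i j hi.1 _ (hl j))
        convert this using 1; group
  obtain ⟨g, hg, h1, -⟩ := key Finset.univ
  exact ⟨g, hg, fun i => ⟨G.mul_mem (G.inv_mem (hL (hl i))) (Normal.conj_mem' ‹_› _ hg _),
    h1 i (Finset.mem_univ i)⟩⟩

theorem InvA.comp [Finite X] [G.Normal] (h : InvA A G) {L : Subgroup X} (hL : L ≤ G)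
    (hc : ∀ x, x ∉ normalizer (L : Set X) → conjS x L ≤ centralizer (L : Set X))
    (hz : L ⊓ centralizer (L : Set X) = ⊥) : InvA (A ⊓ normalizer (L : Set X)) L := by
  intro K₁ hK₁ x hx hn h2 hf
  set C := G ⊓ centralizer (L : Set X) with hC
  have nC : normalizer (L : Set X) ≤ normalizer (C : Set X) :=
    le_normalizer_inf le_normalizer_of_normal (le_normalizer_centralizer le_rfl)
  have CK : C ≤ normalizer (K₁ : Set X) :=
    (inf_le_right.trans (centralizer_anti hK₁)).trans (centralizer_le_normalizer _)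
  set P := K₁ ⊔ C with hP
  have nP : ∀ y ∈ normalizer (L : Set X), y ∈ normalizer (K₁ : Set X) →
      y ∈ normalizer (P : Set X) := fun y h1 h2 =>
    le_normalizer_sup (zpowers_le.2 h2) (zpowers_le.2 (nC h1)) (mem_zpowers y)
  have xP := nP x (le_normalizer hx) hn
  have PW : P ≤ fixS P x := fun p hp => ⟨le_normalizer hp, by
    rw [commutatorElement_def]
    exact mul_mem (conj_mem_of_mem_normalizer xP hp) (inv_mem hp)⟩
  let ι := A ⧸ (normalizer (L : Set X)).subgroupOf A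
  let r : ι → X := fun i => (i.out : A)
  have hr : ∀ i j : ι, i ≠ j → ∀ l ∈ L,
      (r i)⁻¹ * (r j * l * (r j)⁻¹) * r i ∈ centralizer (L : Set X) := fun i j e l hl => by
    have := hc ((r i)⁻¹ * r j) (fun k => e (by
      rw [← i.out_eq, ← j.out_eq]; exact QuotientGroup.eq.2 k)) (conj_mem_conjS.2 hl)
    convert this using 1; group
  let T : Set X := {t | ∃ i, (r i)⁻¹ * t ∈ fixS P x}
  let K : Subgroup X := ⨅ t ∈ T, conjS t P
  have mK : ∀ g, g ∈ K ↔ ∀ t ∈ T, t⁻¹ * g * t ∈ P := fun g => by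
    simp only [K, mem_iInf, mem_conjS]
  have t0 : r (QuotientGroup.mk 1) ∈ T := ⟨_, by rw [inv_mul_cancel]; exact one_mem _⟩
  obtain ⟨y, hy, hy'⟩ := crt hL r hr (fun _ => x) fun _ => hx
  have yT : ∀ t ∈ T, x⁻¹ * (t⁻¹ * y * t) ∈ P := by
    rintro t ⟨i, hi⟩
    have h3 := conj_inv_mem_of_mem_normalizer xP (inv_mem (inv_mem hi).2)
    have := mul_mem h3 (conj_inv_mem_of_mem_normalizer hi.1 (mem_sup_right (hy' i) : _ ∈ P))
    convert this using 1
    simp only [commutatorElement_def]; group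
  have nK : ∀ w, (∀ t ∈ T, ∃ s ∈ T, t⁻¹ * w * s ∈ normalizer (P : Set X)) →
      w ∈ normalizer (K : Set X) := fun w hw =>
    mem_normalizer_of_conjS_le (conjS_le_iff_forall.2 fun k hk => (mK _).2 fun t ht => by
      obtain ⟨s, hs, e⟩ := hw t ht
      have := conj_mem_of_mem_normalizer e ((mK k).1 hk s hs)
      convert this using 1; group)
  have key := h K (fun k hk => by
      have := Normal.conj_mem ‹G.Normal› _ (sup_le (hK₁.trans hL) inf_le_left ((mK k).1 hk _ t0))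
        (r (QuotientGroup.mk 1))
      convert this using 1; group) y hy
    (nK y fun t ht => ⟨t, ht, by
      have := mul_mem xP (le_normalizer (yT t ht))
      convert this using 1; group⟩)
    ((mK _).2 fun t ht => by
      have := mul_mem (mul_mem (mem_sup_left h2 : _ ∈ P)
        (conj_inv_mem_of_mem_normalizer xP (yT t ht))) (yT t ht)
      convert this using 1; group) fun a ha => by
      have h5 : ∀ i : ι, (r i)⁻¹ * a * r ((⟨a, ha⟩ : A)⁻¹ • i) ∈ A ⊓ normalizer (L : Set X) :=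
        fun i => ⟨A.mul_mem (A.mul_mem (A.inv_mem i.out.2) ha) (Quotient.out _ : A).2, by
          have e : (QuotientGroup.mk (i.out) : ι) =
              QuotientGroup.mk (⟨a, ha⟩ * ((⟨a, ha⟩ : A)⁻¹ • i).out) := by
            rw [← smul_eq_mul, ← MulAction.Quotient.smul_mk, QuotientGroup.out_eq',
              QuotientGroup.out_eq', smul_inv_smul]
          have := QuotientGroup.eq.1 e
          rwa [mem_subgroupOf, ← mul_assoc] at this⟩
      choose l hl hl' using fun i => hf _ (h5 i)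
      obtain ⟨g, hg, hg'⟩ := crt hL r hr l hl
      have h6 : ∀ t ∈ T, (g⁻¹ * a)⁻¹ * t ∈ T := by
        rintro t ⟨i, hi⟩
        have h7 : (l i)⁻¹ * ((r i)⁻¹ * a * r ((⟨a, ha⟩ : A)⁻¹ • i)) ∈ fixS P x :=
          ⟨nP _ (mul_mem (inv_mem (le_normalizer (hl i))) (h5 i).2) (hl' i).1,
            mem_sup_left (hl' i).2⟩
        have := mul_mem (mul_mem (inv_mem h7) (PW (mem_sup_right (hg' i)))) hi
        exact ⟨(⟨a, ha⟩ : A)⁻¹ • i, by convert this using 1; group⟩
      refine ⟨g, hg, nK _ fun t ht => ⟨_, h6 t ht, ?_⟩, (mK _).2 fun t ht => ?_⟩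
      · convert (normalizer (P : Set X)).one_mem using 1; group
      · have := conj_mem_of_mem_normalizer xP (mul_mem (yT t ht) (inv_mem (yT _ (h6 t ht))))
        convert this using 1
        simp only [commutatorElement_def]; group
  have h8 : x ∈ P := by
    have := mul_mem ((mK y).1 key _ t0) (inv_mem (yT _ t0))
    convert this using 1; group
  obtain ⟨k, hk, c, hc', e⟩ := (mem_sup_iff_of_right_le_normalizer CK).1 h8
  have h9 : c ∈ L ⊓ centralizer (L : Set X) := ⟨by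
    rw [show c = k⁻¹ * x by rw [e]; group]; exact L.mul_mem (L.inv_mem (hK₁ hk)) hx, hc'.2⟩
  rw [hz, mem_bot] at h9
  rw [e, h9, mul_one]; exact hk

end

/-- The class of the reduction. -/
def PI (n : ℕ) (X : Type u) [Group X] (A G : Subgroup X) : Prop :=
  A ≤ normalizer (G : Set X) ∧ InvA A G ∧ Nat.card G ≤ n

theorem cls_PI (n : ℕ) : Cls (PI.{u} n) where
  norm _ _ _ _ _ h := h.1
  mono _ _ _ _ _ _ h h1 h2 := ⟨h2, h.2.1.change h1 fun a ha => ⟨1, one_mem _, by simpa using ha⟩,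
    (card_le_of_le h1).trans h.2.2⟩
  map _ _ _ _ G _ _ _ f h _ := ⟨map_norm f h.1, h.2.1.map h.1 f,
    (Nat.le_of_dvd Nat.card_pos (card_map_dvd G f)).trans h.2.2⟩
  sub _ _ _ _ _ _ h h1 h2 := ⟨sub_norm h.1, h.2.1.sub h1,
    (Core.card_subgroupOf_of_le h2).le.trans h.2.2⟩
  comp _ _ _ _ _ L h _ h1 hF hL := ⟨inf_le_right, h.2.1.comp h1 (fun x hx =>
      commutator_eq_bot_iff_le_centralizer.1 (Comp.comp_commutator_eq_bot_of_ne
        (Comp.comp_map_equiv hL (MulAut.conj x)) hL fun e => hx (mem_normalizer_iff_conjS.2 e)))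
      (CoA.inf_cent_eq_bot hF hL h1), (card_le_of_le h1).trans h.2.2⟩

/-- The frame has no model. -/
def Box : Prop :=
  ∀ (X : Type u) [Group X] [Finite X] (A G S : Subgroup X), Fr A G S → False

theorem solv_aux (box : Box.{u}) (n : ℕ) : ∀ (X : Type u) [Group X] [Finite X] (A G : Subgroup X),
    PI n X A G → Group.IsSolvable G := by
  induction n using Nat.strong_induction_on with
  | _ n ih =>
  refine fun X _ _ A G h => (cls_PI n).red (fun Y _ _ A G s h => ?_) h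
  have := s.nrm
  obtain ⟨S, hS⟩ := exists_isSylowIn 2 G
  have hF : ∀ a, ∃ g ∈ G, g⁻¹ * a ∈ normalizer (S : Set Y) := fun a => by
    obtain ⟨g, hg, y, hy, rfl⟩ := hS.frattini (x := a) (le_normalizer_of_normal (mem_top a))
    exact ⟨g, hg, by simpa using hy⟩
  have h1 : InvA (normalizer (S : Set Y)) G := h.2.1.change le_rfl fun a _ => hF a
  refine box Y (normalizer (S : Set Y)) G S ⟨this, eq_top_iff.2 fun a _ => ?_, s.simple, s.nc, hS,
    le_rfl, h1.noFix, h1.noOm, fun H k1 k2 k3 => ?_, fun t ht h2 hc => h1.eq_one ht h2 hc⟩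
  · obtain ⟨g, hg, e⟩ := hF a
    rw [show a = g * (g⁻¹ * a) by group]
    exact mul_mem_sup hg e
  · exact ih _ ((Core.card_lt_of_lt (k1.lt_of_ne k2)).trans_le h.2.2) Y _ H
      ⟨k3, h.2.1.change k1 fun a _ => hF a, le_rfl⟩

variable {X : Type u} [Group X] [Finite X] {A G : Subgroup X}

theorem solv_of_invA (box : Box.{u}) (hA : A ≤ normalizer (G : Set X)) (h : InvA A G) :
    Group.IsSolvable G :=
  solv_aux box _ X A G ⟨hA, h, le_rfl⟩

theorem solv_of_inv (box : Box.{u}) [G.Normal] (h : ∀ Y : Subgroup X, Y ⊔ G = ⊤ → NoFix Y G) :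
    Group.IsSolvable G :=
  solv_of_invA box le_normalizer_of_normal (invA_of_sup h)

theorem noOm_of_inv [G.Normal] (hA : A ⊔ G = ⊤) (h : ∀ Y : Subgroup X, Y ⊔ G = ⊤ → NoFix Y G) :
    NoOm A G :=
  ((invA_of_sup h).change le_rfl fun a _ => by
    obtain ⟨g, hg, w, hw, rfl⟩ := SupHy.exists_mul hA a
    exact ⟨g, hg, by simpa using hw⟩).noOm

end CfsgLib.Cop
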