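import Cfsg.Agent.Lib.Cop.S1Sec

/-! COP step 1, package VV: the module `V` (plans/COP-S1.md). -/

set_option autoImplicit false

open Subgroup Cfsg CfsgLib.LAE CfsgLib.ZN CfsgLib.MinS Module
open scoped commutatorElement

universe u

namespace CfsgLib.Cop

variable {X : Type u} [Group X] [Finite X] {A G S : Subgroup X}

theorem omegaZ_le_vv (G S : Subgroup X) : omegaZ 2 S ≤ vv G S := le_nclIn _ _

theorem le_normalizer_vv (G S : Subgroup X) :
    G ⊓ normalizer (thompsonSubgroupOf 2 S : Set X) ≤ normalizer (vv G S : Set X) :=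
  le_normalizer_nclIn _ _

theorem vv_mem_norm_iff {K : Subgroup X} {g : X} :
    g ∈ normalizer (K : Set X) ↔ ∀ x ∈ K, g * x * g⁻¹ ∈ K :=
  ⟨fun h _ hx => conj_mem_of_mem_normalizer h hx,
    fun h => mem_normalizer_of_conjS_le (conjS_le_iff_forall.2 h)⟩

theorem vv_le_zJ (hS : IsPGroup 2 S) : vv G S ≤ zJ S := by
  refine nclIn_le (fun x hx => ?_) (inf_le_right.trans (normalizer_le_normalizer_omegaZ _))
  have h := mem_omegaZ.1 hx
  exact mem_zJ h.1 (centralizer_le (PLocal.thompsonSubgroupOf_le S) h.2.1) h.2.2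

theorem normalizer_le_vv {L : Subgroup X} (hG : L ≤ normalizer (G : Set X))
    (hS : L ≤ normalizer (S : Set X)) : L ≤ normalizer (vv G S : Set X) := by
  refine le_normalizer_nclIn_of_le (hS.trans (normalizer_le_normalizer_omegaZ _)) fun g hg => ?_
  have h1 := PLocal.normalizer_le_normalizer_thompsonSubgroupOf (p := 2) S (hS hg)
  rw [vv_mem_norm_iff]
  intro x hx
  exact ⟨conj_mem_of_mem_normalizer (hG hg) hx.1, Subgroup.mul_mem _ (Subgroup.mul_mem _ h1 hx.2) (Subgroup.inv_mem _ h1)⟩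

theorem sx_vv (hS : IsSylowIn 2 S G) (hG : A ≤ normalizer (G : Set X))
    (hA : A ≤ normalizer (S : Set X)) :
    Sx A (G ⊓ normalizer (thompsonSubgroupOf 2 S : Set X)) (vv G S) ⊥ := by
  have hsq : ∀ e ∈ vv G S, e * e = 1 := fun e he => by
    rw [← sq]; exact (mem_omegaZ.1 (vv_le_zJ hS.isPGroup he)).2.2
  have hSL : S ≤ G ⊓ normalizer (thompsonSubgroupOf 2 S : Set X) :=
    le_inf hS.le (le_normalizer.trans (PLocal.normalizer_le_normalizer_thompsonSubgroupOf S))
  have hb : ∀ K : Subgroup X, K ≤ normalizer ((⊥ : Subgroup X) : Set X) := fun K => by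
    rw [normalizer_eq_top]; exact le_top
  refine ⟨bot_le, hb _, fun e he => mem_bot.2 (hsq e he), le_normalizer_vv G S, hb _,
    fun g hg => ?_, normalizer_le_vv hG hA, hb _, fun V _ _ _ s => ?_⟩
  · have h1 := PLocal.normalizer_le_normalizer_thompsonSubgroupOf (p := 2) S (hA hg)
    rw [vv_mem_norm_iff]
    intro x hx
    exact ⟨conj_mem_of_mem_normalizer (hG hg) hx.1, Subgroup.mul_mem _ (Subgroup.mul_mem _ h1 hx.2) (Subgroup.inv_mem _ h1)⟩
  · rw [← im_secRes s le_sup_left le_rfl]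
    set s' := secRes s (le_sup_left : G ⊓ normalizer (thompsonSubgroupOf 2 S : Set X) ≤ _)
    refine s'.pCore_im_of_fixed (hS.mono hSL inf_le_left) (s'.π '' (omegaZ 2 S : Set X)) ?_ ?_
    · rintro _ ⟨z, hz, rfl⟩ t ht
      rw [← s'.conj t (hSL ht) z (omegaZ_le_vv G S hz), (mem_omegaZ.1 hz).2.1 t ht,
        mul_inv_cancel_right]
    · rw [eq_top_iff]
      intro v _
      obtain ⟨a, ha, rfl⟩ := s'.surj v
      refine (s'.mem_bak.1 ((?_ : vv G S ≤ s'.bak _) ha)).2
      refine nclIn_le_iff.2 fun g hg => conjS_le_iff_forall.2 fun z hz => s'.mem_bak.2 ⟨?_, ?_⟩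
      · exact conj_mem_of_mem_normalizer (le_normalizer_vv G S hg) (omegaZ_le_vv G S hz)
      · exact Submodule.subset_span ⟨g, hg, _, ⟨z, hz, rfl⟩,
          (s'.conj g hg z (omegaZ_le_vv G S hz)).symm⟩

theorem vv_vv (hf : NoFix A G) (ho : NoOm A G) (hS : IsSylowIn 2 S G)
    (hG : A ≤ normalizer (G : Set X)) (hA : A ≤ normalizer (S : Set X))
    (hs : Group.IsSolvable (G ⊓ normalizer (thompsonSubgroupOf 2 S : Set X) : Subgroup X)) :
    VV A S (vv G S) := by
  have hx := sx_vv hS hG hA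
  have hSL : S ≤ G ⊓ normalizer (thompsonSubgroupOf 2 S : Set X) :=
    le_inf hS.le (le_normalizer.trans (PLocal.normalizer_le_normalizer_thompsonSubgroupOf S))
  have hVS : vv G S ≤ S := (vv_le_zJ hS.isPGroup).trans
    ((omegaZ_le _).trans (PLocal.thompsonSubgroupOf_le S))
  have hcz : cz (vv G S) ⊥ ≤ centralizer (vv G S : Set X) := fun g hg e he =>
    (commutatorElement_eq_one_iff_mul_comm.1 (mem_bot.1 (hg.2.2 e he))).symm
  have hc : ∀ B : Subgroup X, ⁅B, vv G S ⊓ centralizer (B : Set X)⁆ ≤ ⊥ := fun B =>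
    commutator_le.2 fun b hb e he =>
      mem_bot.2 (commutatorElement_eq_one_iff_mul_comm.2 (he.2 b hb))
  refine ⟨hVS, normalizer_le_vv (hS.le.trans le_normalizer) le_normalizer, hx.AE,
    fun v hv => mem_bot.1 (hx.sq v hv), fun B hB hsq => ?_, fun B B' hB hB' hA' hq hsq hn => ?_⟩
  · have := hx.q2 ho inf_le_left (hVS.trans hS.le) hs (hB.trans hSL) hsq
      (inf_le_right.trans hcz) bot_le inf_le_left (hc B)
    rwa [inf_relIndex_left] at this
  · have := hx.q3 hf ho inf_le_left (hVS.trans hS.le) hs hB (hB'.trans hSL) hA'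
      (commutator_le.2 fun b hb e he =>
        mem_bot.2 (commutatorElement_eq_one_iff_mul_comm.2 (hq he b hb))) hsq
      (fun h => hn (h.trans hcz)) (inf_le_right.trans hcz) bot_le inf_le_left (hc B)
    rwa [inf_relIndex_left] at this

end CfsgLib.Cop
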