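import Cfsg.Agent.Lib.Cop.S1C3
import Cfsg.Agent.Lib.Cop.S1V

/-! COP step 1: `V` is normal modulo the core in every invariant solvable overgroup of `S`. -/

set_option autoImplicit false

open Subgroup Cfsg CfsgLib.LAE CfsgLib.ZN CfsgLib.MinS Module
open scoped commutatorElement

universe u

namespace CfsgLib.Cop

variable {X : Type u} [Group X] [Finite X] {A G S V N H : Subgroup X}

theorem offender_le {A₀ : Subgroup X} (h0 : A₀ ∈ PLocal.maxElemIn 2 S) (hV : V ≤ S)
    (hsq : ∀ v ∈ V, v * v = 1) :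
    (centralizer (A₀ : Set X)).relIndex V ≤ (centralizer (V : Set X)).relIndex A₀ := by
  have hE : IsElementaryAbelian 2 V := PLocal.elemAb_iff.2
    ⟨fun a ha b hb => M1.comm_of_sq hsq ha hb, fun a ha => by rw [sq, hsq a ha]⟩
  have h1 := (PLocal.bestOffender_of_mem_maxElemIn hE hV h0).1 (centralizer (V : Set X) ⊓ A₀)
    inf_le_right
  rw [inf_eq_left.2 (le_centralizer_iff.1 inf_le_left),
    PLocal.card_eq_relIndex_mul (centralizer (V : Set X)) A₀,
    PLocal.card_eq_relIndex_mul (centralizer (A₀ : Set X)) V, inf_comm V] at h1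
  have p1 : 0 < Nat.card (centralizer (V : Set X) ⊓ A₀ : Subgroup X) := Nat.card_pos
  have p2 : 0 < Nat.card (centralizer (A₀ : Set X) ⊓ V : Subgroup X) := Nat.card_pos
  refine Nat.le_of_mul_le_mul_right ?_ (Nat.mul_pos p1 p2)
  calc _ = _ := by ring
    _ ≤ _ := h1
    _ = _ := by ring

omit [Finite X] in
theorem le_normalizer_opr {L : Subgroup X} (h : L ≤ normalizer (H : Set X)) :
    L ≤ normalizer (AG.opr 2 H : Set X) := fun g hg => mem_normalizer_iff_conjS.2 <| by
  rw [conjS_def, AG.map_opr H (MulAut.conj g).injective, ← conjS_def,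
    mem_normalizer_iff_conjS.1 (h hg)]

theorem le_normalizer_opp {L : Subgroup X} (h : L ≤ normalizer (H : Set X)) :
    L ≤ normalizer (AG.opp 2 H : Set X) := fun g hg => mem_normalizer_iff_conjS.2 <| by
  rw [conjS_def, AG.map_opp H (MulAut.conj g).injective, ← conjS_def,
    mem_normalizer_iff_conjS.1 (h hg)]

theorem constr (h4 : Group.IsSolvable H) {Q : Subgroup X} (hQ : IsSylowIn 2 Q (AG.opp 2 H)) :
    H ⊓ centralizer (Q : Set X) ≤ AG.opp 2 H := by
  have h1 := hQ.subgroupOf (AG.opp_le H)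
  rw [show (AG.opp 2 H).subgroupOf H = pPrimePCore 2 H from
    comap_map_eq_self_of_injective H.subtype_injective _] at h1
  have h2 := PLocal.Constr.isPConstrained_of_isSolvable (p := 2) (G := H) h1.toSylow
  rw [h1.map_toSylow] at h2
  rintro x ⟨hx, hc⟩
  exact ⟨⟨x, hx⟩, h2 fun y hy => Subtype.ext (hc y hy), rfl⟩

theorem Co.false (c : Co A G S V N H) : False := by
  obtain ⟨A₀, h0, h1⟩ := c.exists_max
  obtain ⟨k1, k2, k3⟩ := c.count h0 h1
  have hS := c.mp.syl
  have hQS : pCoreOf 2 H ≤ S := hS.pCoreOf_le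
  have hVQ := c.c1
  have sq0 : ∀ b ∈ A₀, b * b = 1 := fun b hb => by
    rw [← sq]; exact h0.2.1.2 b hb
  have hAV : A₀ ≤ centralizer (V : Set X) := by
    have e1 := c.vv.q2 A₀ h0.1 sq0
    have e2 : (centralizer (A₀ : Set X)).relIndex V ≤ (centralizer (V : Set X)).relIndex A₀ :=
      offender_le h0 c.vv.le c.vv.sq
    have e3 : (centralizer (V : Set X)).relIndex A₀ ≠ 0 := FiniteIndex.index_ne_zero
    exact relIndex_eq_one.1 (by nlinarith [Nat.pos_of_ne_zero e3])
  obtain ⟨g, hg, hng⟩ : ∃ g ∈ H, ¬ A₀ ⊓ pCoreOf 2 H ≤ centralizer (conjS g V : Set X) := by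
    by_contra hcon
    push Not at hcon
    exact k2 (le_centralizer_iff.1 (nclIn_le_iff.2 fun g hg => le_centralizer_iff.1 (hcon g hg)))
  have HQ : H ≤ normalizer (pCoreOf 2 H : Set X) := le_normalizer_pCoreOf H
  have AQ : A ≤ normalizer (pCoreOf 2 H : Set X) := le_normalizer_pCoreOf_of_le c.mp.AH
  set R := pCoreOf 2 H ⊓ centralizer (V : Set X) with hR
  have hBQ : nclIn R H ≤ pCoreOf 2 H := nclIn_le inf_le_left HQ
  have SR : S ≤ normalizer (R : Set X) :=
    le_normalizer_inf (hS.le.trans HQ) (le_normalizer_centralizer c.vv.SV)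
  have hq : ⁅nclIn R H, V⁆ ≤ centralizer (nclIn R H : Set X) := by
    refine (commutator_mono hBQ le_rfl).trans (le_centralizer_iff.1 (nclIn_le_iff.2 fun x hx => ?_))
    obtain ⟨r, hr, s, hs, rfl⟩ := hS.exists_mul hx
    have hr' : r ∈ centralizer ((⁅pCoreOf 2 H, V⁆ : Subgroup X) : Set X) :=
      centralizer_anti (commutator_mono le_rfl (le_nclIn V H)) (k1 hr)
    rw [conjS_mul, mem_normalizer_iff_conjS.1 (SR hs),
      ← mem_normalizer_iff_conjS.1 (centralizer_le_normalizer _ hr'), ← conjS_centralizer]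
    exact conjS_mono (inf_le_right.trans (centralizer_anti
      (commutator_le_right_of_le_normalizer (hQS.trans c.vv.SV))))
  have sq1 : ∀ b ∈ A₀ ⊓ pCoreOf 2 H, b * b = 1 := fun b hb => sq0 b hb.1
  have := c.vv.q3 (conjS g⁻¹ (A₀ ⊓ pCoreOf 2 H)) (nclIn R H)
    ((conjS_mono (le_inf inf_le_right (inf_le_left.trans hAV))).trans
      (conjS_le_nclIn (H.inv_mem hg))) (hBQ.trans hQS)
    (le_normalizer_nclIn_of_le (le_normalizer_inf AQ (le_normalizer_centralizer c.vv.AV)) c.mp.AH)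
    hq (fun b hb => by
      obtain ⟨y, hy, rfl⟩ := exists_of_mem_conjS hb
      rw [show g⁻¹ * y * g⁻¹⁻¹ * (g⁻¹ * y * g⁻¹⁻¹) = g⁻¹ * (y * y) * g by group, sq1 y hy]; group)
    (fun h => hng (by rw [← conjS_centralizer]; exact le_conjS_iff.2 h))
  rw [← relIndex_conjS g, ← relIndex_conjS g (K := V), conjS_centralizer, conjS_centralizer,
    conjS_conjS_inv] at this
  exact absurd (c.chain_lt inf_le_right sq1 hg this) (not_lt.2 k3)

theorem step1 (hf : NoFix A G) (ho : NoOm A G) (hS : IsSylowIn 2 S G)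
    (hG : A ≤ normalizer (G : Set X)) (hA : A ≤ normalizer (S : Set X))
    (hs : Group.IsSolvable (G ⊓ normalizer (thompsonSubgroupOf 2 S : Set X) : Subgroup X))
    (h1 : S ≤ H) (h2 : H ≤ G) (h3 : A ≤ normalizer (H : Set X)) (h4 : Group.IsSolvable H) :
    H ≤ AG.opr 2 H ⊔ (H ⊓ normalizer (vv G S : Set X)) := by
  have hSH : IsSylowIn 2 S H := hS.mono h1 h2
  have hQ := hSH.inf_of_normal (AG.opp_le (p := 2) H) (AG.le_normalizer_opp H)
  set Q := S ⊓ AG.opp 2 H with hQd
  set N := AG.opr 2 H ⊔ (H ⊓ normalizer (vv G S : Set X)) with hN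
  have e1 : AG.opr 2 H ⊔ Q = AG.opp 2 H :=
    AG.opr_sup_of_isSylowIn ⟨hQ.le, hQ.isPGroup, hQ.not_dvd_relIndex⟩
  have e2 := hQ.frattini_sup (AG.opp_le H) (AG.le_normalizer_opp H)
  have SQ : S ≤ normalizer (Q : Set X) :=
    le_normalizer_inf le_normalizer (h1.trans (AG.le_normalizer_opp H))
  have AQ : A ≤ normalizer (Q : Set X) := le_normalizer_inf hA (le_normalizer_opp h3)
  have hv := vv_vv hf ho hS hG hA hs
  have SN : S ≤ N := le_sup_of_le_right (le_inf h1 hv.SV)
  by_contra hcon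
  have h5 : ¬ H ⊓ normalizer (Q : Set X) ≤ N := fun h => hcon (by
    rw [← e2, ← e1]
    exact sup_le (sup_le le_sup_left (inf_le_left.trans SN)) h)
  obtain ⟨K, ⟨k1, k2, k3, k4⟩, km⟩ := exists_minimal_of_wellFoundedLT
    (fun K : Subgroup X => S ≤ K ∧ K ≤ H ⊓ normalizer (Q : Set X) ∧ A ≤ normalizer (K : Set X) ∧
      ¬ K ≤ N) ⟨_, le_inf h1 SQ, le_rfl,
        le_normalizer_inf h3 (AQ.trans (normalizer_le_normalizer_normalizer _)), h5⟩
  have KH : K ≤ H := k2.trans inf_le_left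
  have mp : MP A S N K := ⟨hSH.mono k1 KH, hA, k3, SN, k4, fun L l1 l2 l3 l4 =>
    le_antisymm l2 (km ⟨l1, l2.trans k2, l3, l4⟩ l2)⟩
  refine Co.false (A := A) (G := G) (S := S) (V := vv G S) (N := N) (H := K)
    ⟨hf, ho, mp, hv, KH.trans h2, Group.isSolvable_of_isSolvable_injective (inclusion_injective KH),
      le_sup_of_le_right (inf_le_inf_right _ KH),
      le_sup_of_le_right (le_inf (inf_le_left.trans KH)
        ((inf_le_inf_right _ (KH.trans h2)).trans (le_normalizer_vv G S))), fun h => ?_⟩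
  have q1 : Q ≤ pCoreOf 2 K :=
    le_pCoreOf hQ.isPGroup (inf_le_left.trans k1) (k2.trans inf_le_right)
  have q2 : pResOf 2 K ≤ AG.opp 2 H :=
    (le_inf ((pResOf_le K).trans KH) (h.trans (centralizer_anti q1))).trans (constr h4 hQ)
  have q3 := pResOf_mono (p := 2) q2
  rw [pResOf_pResOf, ← e1, sup_comm, pResOf_sup_of_isPGroup hQ.isPGroup
    ((inf_le_left.trans h1).trans (AG.le_normalizer_opr H))] at q3
  exact mp.res_not_le (q3.trans ((pResOf_le _).trans le_sup_left))

/-- The form used for 2-local subgroups: `N_G(C) ≤ C_G(C) N_G(V)`. -/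
theorem step1_loc (hf : NoFix A G) (ho : NoOm A G) (hS : IsSylowIn 2 S G)
    (hG : A ≤ normalizer (G : Set X)) (hA : A ≤ normalizer (S : Set X))
    (hs : Group.IsSolvable (G ⊓ normalizer (thompsonSubgroupOf 2 S : Set X) : Subgroup X))
    {C : Subgroup X} (h1 : C ≤ S) (h2 : S ≤ normalizer (C : Set X))
    (h3 : A ≤ normalizer (C : Set X))
    (h4 : Group.IsSolvable (G ⊓ normalizer (C : Set X) : Subgroup X))
    {g : X} (hg : g ∈ G) (hn : g ∈ normalizer (C : Set X)) :
    ∃ o ∈ AG.opr 2 (G ⊓ normalizer (C : Set X)), ∃ m ∈ G ⊓ normalizer (vv G S : Set X),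
      o ∈ centralizer (C : Set X) ∧ m ∈ normalizer (C : Set X) ∧ g = o * m := by
  have hSG : S ≤ G := hS.le
  have h := step1 hf ho hS hG hA hs (le_inf hSG h2) inf_le_left
    (le_normalizer_inf hG (h3.trans (normalizer_le_normalizer_normalizer _))) h4 ⟨hg, hn⟩
  obtain ⟨o, ho', m, hm, rfl⟩ := (mem_sup_iff_of_right_le_normalizer
    (inf_le_left.trans (AG.le_normalizer_opr _))).1 h
  refine ⟨o, ho', m, ⟨hm.1.1, hm.2⟩, ?_, hm.1.2, rfl⟩
  have hC : C ≤ G ⊓ normalizer (C : Set X) := le_inf (h1.trans hSG) le_normalizer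
  have hd : Disjoint (AG.opr 2 (G ⊓ normalizer (C : Set X))) C := by
    refine disjoint_of_coprime_natCard ?_
    obtain ⟨n, hn⟩ := (hS.isPGroup.to_le h1).exists_card_eq
    rw [hn, card_map_of_injective (subtype_injective _)]
    exact (Core.coprime_card_pPrimeCore 2 _).pow_right n
  refine le_centralizer_iff.1 (commutator_eq_bot_iff_le_centralizer.1 ?_) ho'
  exact eq_bot_iff.2 ((le_inf (commutator_le_right_of_le_normalizer
    (hC.trans (AG.le_normalizer_opr _))) (commutator_le_left_of_le_normalizer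
      ((AG.opr_le _).trans inf_le_right))).trans hd.eq_bot.le)

end CfsgLib.Cop
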