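import Cfsg.Agent.Lib.Cop.Frame
import Cfsg.Agent.Lib.Cop.S1
import Cfsg.Agent.Lib.OFP.T2Defs
import Cfsg.Agent.S0205

/-!
Operator groups without fixed involutions: step 1 in the form used by step 2.
-/

set_option autoImplicit false

open Subgroup Cfsg CfsgLib.LAE CfsgLib.OFP
open scoped commutatorElement

universe u

namespace CfsgLib.Cop

variable {X : Type u} [Group X] [Finite X] {A G S : Subgroup X}

/-- If `g = o m` normalizes the `2`-subgroup `R` of `M`, with `o` in an odd order group normalized by `R`, then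
`g ∈ C(R) N_M(R)`. -/
theorem mem_CM_of_odd {M O R : Subgroup X} (pR : IsPGroup 2 R) (RM : R ≤ M)
    (RO : R ≤ normalizer (O : Set X)) (oO : (Nat.card O).Coprime 2) {o m : X} (ho : o ∈ O) (hm : m ∈ M)
    (hn : o * m ∈ normalizer (R : Set X)) : o * m ∈ CM M R := by
  have : Fact (Nat.Prime 2) := ⟨Nat.prime_two⟩
  have hdisj : R ⊓ O = ⊥ := Core.isPGroup_inf_eq_bot_of_coprime pR oO
  have hsyl : IsSylowIn 2 R (R ⊔ O) := by
    refine isSylowIn_of_not_dvd_relIndex le_sup_left pR fun hd => ?_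
    have h1 := Core.card_sup_dvd_of_le_normalizer RO
    have h2 : R.relIndex (R ⊔ O) * Nat.card R = Nat.card (R ⊔ O : Subgroup X) := by
      rw [← Nat.card_congr (subgroupOfEquivOfLe (le_sup_left : R ≤ R ⊔ O)).toEquiv, mul_comm]
      exact card_mul_index _
    rw [← h2, mul_comm (Nat.card R)] at h1
    have h3 := Nat.dvd_of_mul_dvd_mul_right Nat.card_pos h1
    exact (Nat.Prime.coprime_iff_not_dvd Nat.prime_two).1 oO.symm (hd.trans h3)
  have e1 : conjS m R = conjS o⁻¹ R := by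
    have := mem_normalizer_iff_conjS.1 hn
    conv_rhs => rw [← this]
    rw [← conjS_mul, inv_mul_cancel_left]
  have s1 : IsSylowIn 2 R ((R ⊔ O) ⊓ M) := hsyl.mono (le_inf le_sup_left RM) inf_le_left
  have s2 : IsSylowIn 2 (conjS o⁻¹ R) ((R ⊔ O) ⊓ M) := by
    have h1 := hsyl.conj_of_mem (inv_mem (mem_sup_right ho : o ∈ R ⊔ O))
    refine h1.mono (le_inf h1.le ?_) inf_le_left
    rw [← e1, ← conjS_eq_of_mem hm]
    exact conjS_mono RM
  obtain ⟨d, hd, e⟩ := s1.exists_conj s2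
  have hd1 : d ∈ O ⊔ R := sup_comm R O ▸ hd.1
  obtain ⟨o', ho', r, hr, rfl⟩ := (mem_sup_iff_of_right_le_normalizer RO).1 hd1
  have o'M : o' ∈ M := by simpa using M.mul_mem hd.2 (M.inv_mem (RM hr))
  have hn' : o * o' ∈ normalizer (R : Set X) := by
    rw [mem_normalizer_iff_conjS, conjS_mul]
    rw [conjS_mul, conjS_eq_of_mem hr] at e
    rw [e, ← conjS_mul, mul_inv_cancel, conjS_one]
  have hc : o * o' ∈ centralizer (R : Set X) := by
    have h1 : O ⊓ normalizer (R : Set X) ≤ centralizer (R : Set X) :=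
      Core.le_centralizer_of_le_normalizer_of_disjoint inf_le_right
        (fun r hr => mem_normalizer_fintype fun x hx => ⟨conj_mem_of_mem_normalizer (RO hr) hx.1,
          Subgroup.mul_mem _ (Subgroup.mul_mem _ (le_normalizer hr) hx.2)
            (Subgroup.inv_mem _ (le_normalizer hr))⟩)
        (eq_bot_iff.2 fun x hx => hdisj ▸ (⟨hx.2, hx.1.1⟩ : x ∈ R ⊓ O))
    exact h1 ⟨mul_mem ho ho', hn'⟩
  refine mem_CM.2 ⟨o * o', hc, o'⁻¹ * m, mul_mem (inv_mem o'M) hm, ?_, by group⟩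
  have := Subgroup.mul_mem _ (Subgroup.inv_mem _ hn') hn
  convert this using 1
  group

namespace Fr

theorem S_ne_bot (h : Fr A G S) : S ≠ ⊥ := by
  have : Fact (Nat.Prime 2) := ⟨Nat.prime_two⟩
  intro e
  have h1 := h.syl.not_dvd_relIndex
  rw [e, relIndex_bot_left] at h1
  have h2 : Group.IsSolvable G := Cfsg.Agent.S0205.result (Nat.odd_iff.2 (by omega))
  have := h.simple
  exact h.nc ⟨⟨IsSimpleGroup.comm_iff_isSolvable.2 h2⟩⟩

theorem Z_ne_bot (h : Fr A G S) : omegaZ 2 S ≠ ⊥ :=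
  have : Fact (Nat.Prime 2) := ⟨Nat.prime_two⟩
  omegaZ_ne_bot h.syl.isPGroup h.S_ne_bot

theorem solvJ (h : Fr A G S) :
    Group.IsSolvable (G ⊓ normalizer (thompsonSubgroupOf 2 S : Set X) : Subgroup X) := by
  have : Fact (Nat.Prime 2) := ⟨Nat.prime_two⟩
  have h1 : thompsonSubgroupOf 2 S ≤ S := PLocal.thompsonSubgroupOf_le S
  refine h.solv_norm (h1.trans h.syl.le) (h.syl.isPGroup.to_le h1) (fun e => h.Z_ne_bot ?_)
    (h.AS.trans (PLocal.normalizer_le_normalizer_thompsonSubgroupOf S))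
  exact eq_bot_iff.2 (((Blocks.omegaZ_le_zj S).trans (PLocal.omegaOne_le _)).trans (inf_le_left.trans e.le))

theorem vV (h : Fr A G S) : VV A S (vv G S) := vv_vv h.fix h.om h.syl h.AG h.AS h.solvJ

theorem SM (h : Fr A G S) : S ≤ G ⊓ normalizer (vv G S : Set X) := le_inf h.syl.le h.vV.SV

theorem loc_inv (h : Fr A G S) {C : Subgroup X} (h1 : C ≤ S) (C1 : C ≠ ⊥) (h2 : S ≤ normalizer (C : Set X))
    (h3 : A ≤ normalizer (C : Set X)) :
    G ⊓ normalizer (C : Set X) ≤ CM (G ⊓ normalizer (vv G S : Set X)) C := by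
  intro g hg
  obtain ⟨o, -, m, hm, hc, hn, rfl⟩ := step1_loc h.fix h.om h.syl h.AG h.AS h.solvJ h1 h2 h3
    (h.solv_norm (h1.trans h.syl.le) (h.syl.isPGroup.to_le h1) C1 h3) hg.1 hg.2
  exact mem_CM.2 ⟨o, hc, m, hm, hn, rfl⟩

theorem loc_cz (h : Fr A G S) {R : Subgroup X} (hR : R ≤ S) :
    G ⊓ centralizer (omegaZ 2 S : Set X) ⊓ normalizer (R : Set X) ≤
      CM (G ⊓ normalizer (vv G S : Set X)) R := by
  have := h.nrm
  intro g hg
  have ZS : omegaZ 2 S ≤ S := omegaZ_le S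
  have AZ : A ≤ normalizer (omegaZ 2 S : Set X) := h.AS.trans (normalizer_le_normalizer_omegaZ S)
  have hs := h.solv_norm (ZS.trans h.syl.le) (h.syl.isPGroup.to_le ZS) h.Z_ne_bot AZ
  have SH : S ≤ G ⊓ centralizer (omegaZ 2 S : Set X) := le_inf h.syl.le (le_centralizer_omegaZ S)
  have h4 : Group.IsSolvable (G ⊓ centralizer (omegaZ 2 S : Set X) : Subgroup X) :=
    Group.isSolvable_of_isSolvable_injective (inclusion_injective
      (inf_le_inf_left G (centralizer_le_normalizer (omegaZ 2 S : Set X))))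
  have h3 : A ≤ normalizer ((G ⊓ centralizer (omegaZ 2 S : Set X) : Subgroup X) : Set X) := fun a ha =>
    mem_normalizer_fintype fun x hx => ⟨this.conj_mem _ hx.1 a,
      conj_mem_of_mem_normalizer (normalizer_le_normalizer_centralizer _ (AZ ha)) hx.2⟩
  have h5 := step1 h.fix h.om h.syl h.AG h.AS h.solvJ SH inf_le_left h3 h4 hg.1
  obtain ⟨o, ho, m, hm, rfl⟩ :=
    (mem_sup_iff_of_right_le_normalizer (inf_le_left.trans (AG.le_normalizer_opr _))).1 h5
  exact mem_CM_of_odd (h.syl.isPGroup.to_le hR) (hR.trans h.SM)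
    ((hR.trans SH).trans (AG.le_normalizer_opr _)) (Core.coprime_card_map_pPrimeCore _) ho ⟨hm.1.1, hm.2⟩ hg.2

theorem loc_fix (h : Fr A G S) {x : X} (hx : x ∈ S) (hc : ∀ g ∈ S ⊔ A, Commute g x) : x = 1 := by
  by_contra h1
  obtain ⟨n, n1, n2⟩ := (two_of_mem h.syl.isPGroup hx).exists_inv h1
  refine n1 (h.eq_one (pow_mem (h.syl.le hx) n) n2 fun a ha => ?_)
  rw [((hc a (mem_sup_right ha)).pow_right n).eq, mul_inv_cancel_right]

end Fr

end CfsgLib.Cop
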