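import Mathlib
import Cfsg.Agent.Lib.Cop.BigA
import Cfsg.Agent.Lib.Cop.S1
import Cfsg.Agent.Lib.Tech.SylowIn

/-! `V ≤ Ω Z(B)`, and `Q` is bad. -/

set_option autoImplicit false
set_option linter.unusedSectionVars false

namespace CfsgLib.Cop

open Subgroup Cfsg CfsgLib.LAE CfsgLib.Push CfsgLib.Blocks CfsgLib.ZJ CfsgLib.OFP
open scoped commutatorElement

variable {Γ : Type*} [Group Γ] [Finite Γ] {A S V B Q K M : Subgroup Γ} {u : Γ}

theorem vv_le_omegaZ (v : VV A S V) (pS : IsPGroup 2 S) (BS : B ≤ S) (QB : Q ≤ B) (uQ : u ∈ Q)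
    (uC : u ∈ 𝒞[Q]) (uu : u * u = 1) (key : ∀ v ∈ B, ∀ y ∈ Q, ∀ y' ∈ Q, ⁅v, u⁆ = ⁅y, y'⁆ → v ∈ Q)
    (BQ : B ≤ 𝒩[Q]) (hm : ∀ T ≤ S, B ≤ T → T ≤ 𝒩[Q] → bau 2 T = B) : V ≤ omegaZ 2 B := by
  have hE : IsElementaryAbelian 2 V := PLocal.elemAb_iff.2
    ⟨fun a ha b hb => MinS.M1.comm_of_sq v.sq ha hb, fun a ha => by rw [sq, v.sq a ha]⟩
  have hcV : ∀ a ∈ V, ∀ b ∈ V, a * b = b * a := (PLocal.elemAb_iff.1 hE).1
  have iV : ∀ a ∈ V, a⁻¹ = a := fun a ha => inv_eq_of_mul_eq_one_right (v.sq a ha)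
  have iu : u⁻¹ = u := inv_eq_of_mul_eq_one_right uu
  have BV : B ≤ 𝒩[V] := BS.trans v.SV
  have h1 : V ⊓ 𝒩[B] ≤ 𝒩[Q] := by
    rintro x ⟨xV, xB⟩
    have d : ∀ y ∈ B, ∃ w ∈ V, w ∈ B ∧ x * y * x⁻¹ = y * w := fun y hy =>
      ⟨y⁻¹ * x * y⁻¹⁻¹ * x⁻¹, mul_mem (LAE.conj_mem_of_mem_normalizer (BV (inv_mem hy)) xV) (inv_mem xV),
        by simpa [mul_assoc] using mul_mem (inv_mem hy) (LAE.conj_mem_of_mem_normalizer xB hy), by group⟩
    obtain ⟨v₀, v0V, v0B, e₀⟩ := d u (QB uQ)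
    have v0Q : v₀ ∈ Q := by
      refine key v₀ v0B 1 Q.one_mem 1 Q.one_mem ?_
      have : u * v₀ * (u * v₀) = 1 := by
        rw [← e₀, show x * u * x⁻¹ * (x * u * x⁻¹) = x * (u * u) * x⁻¹ by group, uu]; group
      rw [commutatorElement_self, commutatorElement_def, iu, iV v₀ v0V]
      calc v₀ * u * v₀ * u = u⁻¹ * (u * v₀ * (u * v₀)) * u := by group
        _ = 1 := by rw [this]; group
    refine mem_normalizer_of_conjS_le (conjS_le_iff_forall.2 fun y hy => ?_)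
    obtain ⟨w, wV, wB, e⟩ := d y (QB hy)
    rw [e]
    refine mul_mem hy (key w wB v₀ v0Q y⁻¹ (inv_mem hy) ?_)
    have c : y * w * (u * v₀) = u * v₀ * (y * w) := by
      rw [← e, ← e₀]
      calc x * y * x⁻¹ * (x * u * x⁻¹) = x * (y * u) * x⁻¹ := by group
        _ = _ := by rw [uC y hy]; group
    have c1 : w * u = u * (y⁻¹ * v₀ * y * v₀⁻¹) * w := by
      calc w * u = y⁻¹ * (y * w * (u * v₀)) * v₀⁻¹ := by group
        _ = (y⁻¹ * u) * v₀ * y * (w * v₀⁻¹) := by rw [c]; group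
        _ = _ := by rw [uC _ (inv_mem hy), hcV w wV _ (inv_mem v0V)]; group
    have c2 : y⁻¹ * v₀ * y * v₀⁻¹ ∈ Q := mul_mem (mul_mem (mul_mem (inv_mem hy) v0Q) hy) (inv_mem v0Q)
    have c3 : y⁻¹ * v₀ * y * v₀⁻¹ ∈ V :=
      mul_mem (LAE.conj_inv_mem_of_mem_normalizer (BV (QB hy)) v0V) (inv_mem v0V)
    calc ⁅w, u⁆ = (w * u) * w⁻¹ * u⁻¹ := rfl
      _ = y⁻¹ * v₀ * y * v₀⁻¹ := by rw [c1, ← uC _ c2]; group
      _ = (y⁻¹ * v₀ * y * v₀⁻¹)⁻¹ := (iV _ c3).symm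
      _ = _ := by rw [commutatorElement_def]; group
  have TS : V ⊔ B ≤ S := sup_le v.le BS
  have h2 : (V ⊓ 𝒩[B]) ⊔ B = V ⊔ B := by
    have l : (V ⊓ 𝒩[B]) ⊔ B ≤ V ⊔ B := sup_le_sup_right inf_le_left B
    by_contra hne
    obtain ⟨t, ht, h3, h4⟩ := Tech.exists_mem_normalizer_of_lt (pS.to_le TS) (lt_of_le_of_ne l hne)
    have h5 := normalizer_le_normalizer_bau (p := 2) _ h4
    rw [hm _ (l.trans TS) le_sup_right (sup_le h1 BQ)] at h5
    obtain ⟨a, ha, b, hb, rfl⟩ := (mem_sup_iff_of_right_le_normalizer BV).1 ht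
    exact h3 (mul_mem (mem_sup_left ⟨ha, by simpa using mul_mem h5 (inv_mem (le_normalizer hb))⟩)
      (mem_sup_right hb))
  have h3 : bau 2 (V ⊔ B) = B := hm _ TS le_sup_right (h2 ▸ sup_le h1 BQ)
  have h4 : V ≤ zj 2 (V ⊔ B) := by
    rw [← sInf_maxElemIn]
    refine le_sInf fun A₀ h0 => PLocal.le_of_mem_maxElemIn_of_centralizes h0 le_sup_left hE ?_
    have e1 := v.q2 A₀ (h0.1.trans TS) fun b hb => by rw [← sq]; exact h0.2.1.2 b hb
    have e2 := offender_le h0 le_sup_left v.sq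
    have e3 : (centralizer (V : Set Γ)).relIndex A₀ ≠ 0 := FiniteIndex.index_ne_zero
    exact le_centralizer_iff.1 (relIndex_eq_one.1 (by nlinarith [Nat.pos_of_ne_zero e3]))
  exact le_omegaZ hE (h4.trans ((zj_le_bau _).trans h3.le))
    (le_centralizer_iff.1 (h3.ge.trans ((bau_le_centralizer _).trans (centralizer_le h4))))

/-- A perfect section of the automizer of `Q` is not covered by a solvable group. -/
theorem BigM.bad {F : Type} [Field F] {f z : Γ} {ψ : Γ → F} {l : Fˣ} (h : BigM F B Q K u f z ψ l)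
    (sM : Group.IsSolvable M) : ¬ ∀ n ∈ K, ∃ c ∈ 𝒞[Q], ∃ m ∈ M, n = c * m := by
  intro H
  set R := Q ⊔ 𝒞[Q] with hR
  have nR : 𝒩[Q] ≤ 𝒩[R] := LAE.le_normalizer_sup le_rfl (le_normalizer_centralizer le_rfl)
  have RN : R ≤ 𝒩[Q] := sup_le le_normalizer (centralizer_le_normalizer _)
  have : (R.subgroupOf 𝒩[Q]).Normal := (normal_subgroupOf_iff_le_normalizer RN).2 nR
  let ρ := QuotientGroup.mk' (R.subgroupOf 𝒩[Q])
  have hk : ρ.ker = R.subgroupOf 𝒩[Q] := QuotientGroup.ker_mk' _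
  have h1 : (K.subgroupOf 𝒩[Q]).map ρ ≤ (M.subgroupOf 𝒩[Q]).map ρ := by
    rintro _ ⟨n, hn, rfl⟩
    obtain ⟨c, hc, m, hm, e⟩ := H n hn
    have cN := centralizer_le_normalizer _ hc
    have mN : m ∈ 𝒩[Q] := by simpa [e] using mul_mem (inv_mem cN) n.2
    refine ⟨⟨m, mN⟩, hm, ?_⟩
    have e1 : ρ ⟨c, cN⟩ = 1 := hk.ge (mem_sup_right hc : c ∈ R)
    rw [show n = ⟨c, cN⟩ * ⟨m, mN⟩ from Subtype.ext e, map_mul, e1, one_mul]
  have s1 : Group.IsSolvable (M.subgroupOf 𝒩[Q]) :=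
    Group.isSolvable_of_isSolvable_injective (f := (𝒩[Q]).subtype.subgroupComap M)
      (fun a b e => Subtype.ext (Subtype.ext (congrArg (Subtype.val : M → Γ) e)))
  have s2 : Group.IsSolvable ((M.subgroupOf 𝒩[Q]).map ρ) :=
    Group.isSolvable_of_surjective (ρ.subgroupMap_surjective _)
  have s3 : Group.IsSolvable ((K.subgroupOf 𝒩[Q]).map ρ) :=
    Group.isSolvable_of_isSolvable_injective (inclusion_injective h1)
  have h2 : (K.subgroupOf 𝒩[Q]).map ρ ≤ ⁅(K.subgroupOf 𝒩[Q]).map ρ, (K.subgroupOf 𝒩[Q]).map ρ⁆ := by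
    have c1 : ⁅K, K⁆ ≤ 𝒩[Q] := (commutator_le_left_of_le_normalizer le_normalizer).trans h.KQ
    have c2 : (⁅K, K⁆ : Subgroup Γ).subgroupOf 𝒩[Q] = ⁅K.subgroupOf 𝒩[Q], K.subgroupOf 𝒩[Q]⁆ :=
      map_injective (𝒩[Q]).subtype_injective (by
        rw [Subgroup.map_commutator, map_subgroupOf_eq_of_le c1, map_subgroupOf_eq_of_le h.KQ])
    refine (map_mono (comap_mono h.perf)).trans ?_
    rw [comap_subtype, subgroupOf_sup c1 RN, Subgroup.map_sup, c2, Subgroup.map_commutator,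
      (Subgroup.map_eq_bot_iff _).2 hk.ge, sup_bot_eq]
  have h3 : (K.subgroupOf 𝒩[Q]).map ρ = ⊥ := by
    by_contra h3
    have := (nontrivial_iff_ne_bot _).2 h3
    have h4 := Group.IsSolvable.commutator_lt_top_of_nontrivial ((K.subgroupOf 𝒩[Q]).map ρ)
    rw [commutator_def, ← map_subtype_lt_map_subtype, Subgroup.map_commutator, ← MonoidHom.range_eq_map,
      range_subtype] at h4
    exact h4.not_ge h2
  refine h.nBQ fun b hb => h.key b hb 1 Q.one_mem 1 Q.one_mem ?_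
  have h4 : b ∈ R := hk.le ((Subgroup.map_eq_bot_iff _).1 h3 (show (⟨b, h.KQ (h.BK hb)⟩ : 𝒩[Q]) ∈ _ from h.BK hb))
  have h5 : R ≤ centralizer {u} := sup_le (fun y hy => mem_centralizer_singleton_iff.2 (h.uC y hy))
    (centralizer_le (Set.singleton_subset_iff.2 h.uQ))
  rw [commutatorElement_self, commutatorElement_eq_one_iff_mul_comm]
  exact mem_centralizer_singleton_iff.1 (h5 h4)

end CfsgLib.Cop
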