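import Cfsg.Agent.Lib.Cop.S1Defs

/-! COP step 1, package QD: quadratic groups (plans/COP-S1.md). -/

set_option autoImplicit false

open Subgroup Cfsg CfsgLib.LAE CfsgLib.ZN CfsgLib.MinS Module
open scoped commutatorElement

universe u

namespace CfsgLib.Cop

variable {V : Type*} [AddCommGroup V] [Module (ZMod 2) V] [Finite V]
variable {F B : Subgroup (GLv V)}

theorem qd_small (ho : ∀ x, ¬ Om F x) {d t : GLv V} (hd : d ∈ F) (d0 : d ≠ 1) (d1 : Odd (orderOf d))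
    (t2 : t * t = 1) (hi : t * d * t⁻¹ = d⁻¹) (h2 : finrank (ZMod 2) (cm ⊤ t) ≤ 2) : fx d ≤ fx t := by
  have a1 := (free_top t2 d1 hi (Inv.top t) (Inv.top d)).1
  have a2 : cm (cm ⊤ d) t ≤ cm ⊤ t := cm_mono le_top t
  have a3 := Submodule.finrank_mono a2
  have a4 : finrank (ZMod 2) (cm ⊤ d) ≠ 0 := fun e =>
    d0 (fx_eq_top.1 (top_le_iff.1 (cm_eq_bot.1 (Submodule.finrank_eq_zero.1 e))))
  have a5 : finrank (ZMod 2) (cm ⊤ d) ≠ 2 := fun e => ho d (om_of_two hd d1 e)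
  have a6 : cm ⊤ t ≤ cm ⊤ d := (Submodule.eq_of_le_of_finrank_le a2 (by omega)).ge.trans
    (Inv.cm_inv hi (Inv.top t) (Inv.top d)).cm_le
  exact cm_eq_bot.1 (le_bot_iff.1 ((le_inf ((cm_mono le_top t).trans a6) (Inv.fx_inv hi).cm_le).trans
    (cm_inf_fx d1 ⊤).le))

/-- The product of the small involutions of a quadratic group is a canonical involution. -/
theorem lin_quad (hodd : Odd (Nat.card F)) (hN : B ≤ normalizer (F : Set (GLv V)))
    (hf : B ⊓ centralizer (F : Set (GLv V)) = ⊥) (ho : ∀ x, ¬ Om F x) (hq : cmS ⊤ B ≤ fxS B)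
    {t : GLv V} (ht : t ∈ B) (h1 : t ≠ 1) (h2 : finrank (ZMod 2) (cm ⊤ t) ≤ 2) :
    ∃ p ∈ B, p ≠ 1 ∧ ∀ g ∈ normalizer (B : Set (GLv V)), g * p * g⁻¹ = p := by
  classical
  have qq : ∀ a ∈ B, ∀ b ∈ B, cm ⊤ a ≤ fx b := fun a ha b hb =>
    (cm_le_cmS ⊤ ha).trans (hq.trans (fxS_le hb))
  have sq : ∀ b ∈ B, b * b = 1 := fun b hb => LinearEquiv.ext fun v => by
    have := mem_fx.1 (qq b hb b hb (sub_mem_cm b (Submodule.mem_top (x := v))))
    rw [map_sub, sub_eq_iff_eq_add, sub_add_eq_add_sub, add_self_v, zero_sub, neg_v] at this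
    exact this
  obtain ⟨B₁, -, i2, tB, d, dF, d0, c1, c2⟩ := exists_td1 (F₀ := ⊥) hodd sq hN
    (normalizer_eq_top (⊥ : Subgroup (GLv V)) ▸ le_top) ht (by
      by_contra! hh
      exact h1 (mem_bot.1 (hf.le ⟨ht, fun f hf' =>
        (commutatorElement_eq_one_iff_mul_comm.1 (mem_bot.1 (hh f hf')))⟩)))
  have d1 := M1.odd_orderOf_of_mem hodd dF
  have d0' : d ≠ 1 := fun e => d0 (mem_bot.2 e)
  have uq : ∀ s ∈ B, finrank (ZMod 2) (cm ⊤ s) ≤ 2 → s ∉ B₁ → s = t := fun s hs s2 sB => by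
    have hb := mul_inv_mem_of_two i2 ht hs tB sB
    have e := c1 _ hb
    have a1 : cm ⊤ (t * s⁻¹) ≤ fx d := le_fx_of_inv d1 (c2 t ht tB) (Inv.cm_comm e.symm (Inv.top d))
      (qq _ (mul_mem ht (inv_mem hs)) t ht)
    have a2 : cm ⊤ d ≤ fx (t * s⁻¹) := cm_eq_bot.1 (le_bot_iff.1
      ((le_inf (Inv.cm_comm e (Inv.top _)).cm_le ((cm_mono le_top _).trans a1)).trans
        (cm_inf_fx d1 ⊤).le))
    have a3 : fx d ≤ fx (t * s⁻¹) := (le_inf (qd_small ho dF d0' d1 (sq t ht) (c2 t ht tB) h2)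
      ((qd_small ho dF d0' d1 (sq s hs) (c2 s hs sB) s2).trans (fx_inv s).ge)).trans (inf_fx_le_mul _ _)
    exact (mul_inv_eq_one.1 (fx_eq_top.1 (top_le_iff.1 ((cm_sup_fx d1).ge.trans (sup_le a2 a3))))).symm
  let _ : CommGroup B := { (inferInstance : Group B) with
    mul_comm := fun x y => Subtype.ext (M1.comm_of_sq sq x.2 y.2) }
  have := Fintype.ofFinite B
  let T : Finset B := Finset.univ.filter fun x => x.1 ≠ 1 ∧ finrank (ZMod 2) (cm ⊤ x.1) ≤ 2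
  have mT : ∀ x : B, x ∈ T ↔ x.1 ≠ 1 ∧ finrank (ZMod 2) (cm ⊤ x.1) ≤ 2 := fun x => by simp [T]
  refine ⟨(∏ x ∈ T, x : B), (∏ x ∈ T, x : B).2, fun e => tB ?_, fun g hg => ?_⟩
  · have a1 : (∏ x ∈ T, x : B) ∈ B₁.subgroupOf B := by rw [mem_subgroupOf, e]; exact one_mem _
    rw [← Finset.mul_prod_erase T (fun x => x) ((mT ⟨t, ht⟩).2 ⟨h1, h2⟩)] at a1
    have a2 : (∏ x ∈ T.erase ⟨t, ht⟩, x : B) ∈ B₁.subgroupOf B :=
      (B₁.subgroupOf B).prod_mem fun x hx => by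
        by_contra hh
        exact Finset.ne_of_mem_erase hx
          (Subtype.ext (uq x x.2 ((mT x).1 (Finset.mem_of_mem_erase hx)).2 hh))
    exact ((B₁.subgroupOf B).mul_mem_cancel_right a2).1 a1
  · let φ : B ≃* B := B.normalizerMonoidHom ⟨g, hg⟩
    have φ1 : ∀ x : B, (φ x : GLv V) = g * x * g⁻¹ := fun x => rfl
    rw [← φ1, map_prod]
    refine congrArg Subtype.val (Finset.prod_equiv φ.toEquiv (fun x => ?_) fun x _ => rfl)
    rw [mT, mT]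
    show _ ↔ (φ x : GLv V) ≠ 1 ∧ finrank (ZMod 2) (cm ⊤ (φ x : GLv V)) ≤ 2
    rw [φ1, cm_top_conj, finrank_map_gl, ne_eq, ne_eq, conj_eq_one_iff]

end CfsgLib.Cop
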