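import Mathlib
import Cfsg.Agent.Lib.OFP.Bas1
import Cfsg.Agent.Lib.Spec.Zsig
import Cfsg.Agent.Lib.Tech.SylowIn

/-! A Singer cycle on a commutator subgroup `[V, x]` produces an invariant class of involutions. -/

set_option autoImplicit false
set_option linter.unusedSectionVars false

namespace CfsgLib.Cop

open Subgroup Cfsg CfsgLib.LAE CfsgLib.OFP
open scoped commutatorElement

theorem zsig_pow {n : ℕ} (hn : 1 < n) :
    ∃ r b : ℕ, r.Prime ∧ r ^ b ∣ 2 ^ n - 1 ∧ ∀ j, 0 < j → j < n → ¬ r ^ b ∣ 2 ^ j - 1 := by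
  by_cases h6 : n = 6
  · subst h6
    refine ⟨3, 2, Nat.prime_three, by norm_num, fun j h1 h2 => ?_⟩
    interval_cases j <;> norm_num
  · obtain ⟨r, hr, h1, h2⟩ := Spec.zsigmondy (a := 2) one_lt_two hn (fun h => h6 h.2) (by
      rintro ⟨-, m, hm⟩
      rcases m with _ | m <;> omega)
    exact ⟨r, 1, hr, by simpa using h1, by simpa using h2⟩

theorem add_irr {F : Type*} [Field F] [Fintype F] {n : ℕ} (hn : Fintype.card F = 2 ^ n) {μ : F} (h0 : μ ≠ 0)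
    (hμ : ∀ j, 0 < j → j < n → μ ^ (2 ^ j - 1) ≠ 1) (N : AddSubgroup F) (hN : ∀ t ∈ N, μ * t ∈ N) :
    N = ⊥ ∨ N = ⊤ := by
  classical
  have hd := N.card_addSubgroup_dvd_card
  rw [Nat.card_eq_fintype_card (α := F), hn] at hd
  obtain ⟨j, hj, e⟩ := (Nat.dvd_prime_pow Nat.prime_two).1 hd
  rcases Nat.eq_zero_or_pos j with rfl | j0
  · exact Or.inl (AddSubgroup.eq_bot_of_card_eq N e)
  rcases hj.eq_or_lt with rfl | jn
  · exact Or.inr (AddSubgroup.eq_top_of_card_eq N (by rw [e, Nat.card_eq_fintype_card, hn]))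
  refine absurd ?_ (hμ j j0 jn)
  set s := (Finset.univ.filter fun t : F => t ∈ N).erase 0 with hs
  have hm : ∀ t, t ∈ s ↔ t ≠ 0 ∧ t ∈ N := fun t => by simp [hs]
  have hc : s.card = 2 ^ j - 1 := by
    rw [hs, Finset.card_erase_of_mem (by simp), ← e, Nat.card_eq_fintype_card, Fintype.card_subtype]
  have hi : s.image (μ * ·) = s := by
    refine Finset.eq_of_subset_of_card_le (fun t ht => ?_)
      (Finset.card_image_of_injective _ (mul_right_injective₀ h0)).ge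
    obtain ⟨y, hy, rfl⟩ := Finset.mem_image.1 ht
    exact (hm _).2 ⟨mul_ne_zero h0 ((hm y).1 hy).1, hN y ((hm y).1 hy).2⟩
  have hp : ∏ t ∈ s.image (μ * ·), t = ∏ t ∈ s, μ * t :=
    Finset.prod_image fun a _ b _ h => mul_right_injective₀ h0 h
  rw [hi, Finset.prod_mul_distrib, Finset.prod_const, hc] at hp
  have h1 : ∏ t ∈ s, t ≠ 0 := Finset.prod_ne_zero_iff.2 fun t ht => ((hm t).1 ht).1
  exact mul_right_cancel₀ h1 (hp.symm.trans (one_mul _).symm)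

variable {Γ : Type*} [Group Γ] {V M L : Subgroup Γ}

theorem orb_lemma (hV : ∀ a ∈ V, ∀ b ∈ V, a * b = b * a) {R : Γ → Subgroup Γ} {x : Γ → Γ}
    (F1 : ∀ a ∈ L, R a ≤ V) (F2 : ∀ a ∈ L, ∀ b ∈ L, R a ≠ R b → ∀ w ∈ R b, Commute (x a) w)
    (F3 : ∀ a ∈ L, ∀ w ∈ R a, Commute (x a) w → w = 1)
    (F4 : ∀ a ∈ L, ∀ w ∈ R a, ∀ w' ∈ R a, w ≠ 1 → w' ≠ 1 →
      ∃ g ∈ M, g * w * g⁻¹ = w' ∧ ∀ v ∈ V, Commute (x a) v → Commute g v)
    (F5 : ∀ a ∈ L, ∃ w ∈ R a, w ≠ 1) (s : Finset (Subgroup Γ)) (hs : ∀ Y ∈ s, ∃ a ∈ L, Y = R a) :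
    (∃ v ∈ s.sup id, ∀ a ∈ L, R a ∈ s → ¬ Commute (x a) v) ∧
      ∀ v ∈ s.sup id, ∀ v' ∈ s.sup id, (∀ a ∈ L, R a ∈ s → ¬ Commute (x a) v) →
        (∀ a ∈ L, R a ∈ s → ¬ Commute (x a) v') →
        ∃ g ∈ M, g * v * g⁻¹ = v' ∧ ∀ a ∈ L, R a ∉ s → ∀ w ∈ R a, Commute g w := by
  classical
  induction s using Finset.induction_on with
  | empty =>
    refine ⟨⟨1, one_mem _, fun a _ h => absurd h (Finset.notMem_empty _)⟩, fun v hv v' hv' _ _ =>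
      ⟨1, M.one_mem, ?_, fun a _ _ w _ => Commute.one_left w⟩⟩
    rw [Finset.sup_empty, mem_bot] at hv hv'
    rw [hv, hv']; group
  | insert Y s hY ih =>
    obtain ⟨⟨u₀, hu₀, g₀⟩, ih⟩ := ih fun Z hZ => hs Z (Finset.mem_insert_of_mem hZ)
    obtain ⟨a₀, ha₀, rfl⟩ := hs Y (Finset.mem_insert_self _ _)
    have sV : s.sup id ≤ V := Finset.sup_le fun Z hZ => by
      obtain ⟨b, hb, rfl⟩ := hs Z (Finset.mem_insert_of_mem hZ)
      exact F1 b hb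
    have k1 : ∀ a ∈ L, R a = R a₀ → ∀ u ∈ s.sup id, Commute (x a) u := fun a ha e u hu => by
      have : s.sup id ≤ centralizer {x a} := Finset.sup_le fun Z hZ => by
        obtain ⟨b, hb, rfl⟩ := hs Z (Finset.mem_insert_of_mem hZ)
        exact fun w hw => mem_centralizer_singleton_iff.2
          (F2 a ha b hb (fun e' => hY (by rw [← e, e']; exact hZ)) w hw).symm
      exact (mem_centralizer_singleton_iff.1 (this hu)).symm
    have k2 : ∀ a ∈ L, R a ∈ s → ∀ w ∈ R a₀, Commute (x a) w := fun a ha h =>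
      F2 a ha a₀ ha₀ fun e => hY (e ▸ h)
    have dec : ∀ v ∈ R a₀ ⊔ s.sup id, (∀ a ∈ L, R a ∈ insert (R a₀) s → ¬ Commute (x a) v) →
        ∃ w ∈ R a₀, ∃ u ∈ s.sup id, v = w * u ∧ w ≠ 1 ∧ ∀ a ∈ L, R a ∈ s → ¬ Commute (x a) u := by
      intro v hv gv
      obtain ⟨w, hw, u, hu, rfl⟩ := (mem_sup_iff_of_left_le_normalizer
        (fun w hw => centralizer_le_normalizer _ fun u hu => hV u (sV hu) w (F1 a₀ ha₀ hw))).1 hv
      refine ⟨w, hw, u, hu, rfl, ?_, fun a ha h c =>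
        gv a ha (Finset.mem_insert_of_mem h) ((k2 a ha h w hw).mul_right c)⟩
      rintro rfl
      exact gv a₀ ha₀ (Finset.mem_insert_self _ _) (by rw [one_mul]; exact k1 a₀ ha₀ rfl u hu)
    rw [Finset.sup_insert, id]
    refine ⟨?_, fun v hv v' hv' gv gv' => ?_⟩
    · obtain ⟨w, hw, w1⟩ := F5 a₀ ha₀
      refine ⟨w * u₀, mul_mem (mem_sup_left hw) (mem_sup_right hu₀), fun a ha h c => ?_⟩
      rcases Finset.mem_insert.1 h with e | h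
      · exact w1 (F3 a ha w (e ▸ hw) (by simpa using c.mul_right (k1 a ha e u₀ hu₀).inv_right))
      · exact g₀ a ha h (by simpa using (k2 a ha h w hw).inv_right.mul_right c)
    · obtain ⟨w, hw, u, hu, rfl, w1, gu⟩ := dec v hv gv
      obtain ⟨w', hw', u', hu', rfl, w1', gu'⟩ := dec v' hv' gv'
      obtain ⟨g₁, hg₁, e₁, c₁⟩ := ih u hu u' hu' gu gu'
      obtain ⟨g₂, hg₂, e₂, c₂⟩ := F4 a₀ ha₀ w hw w' hw' w1 w1'
      refine ⟨g₂ * g₁, M.mul_mem hg₂ hg₁, ?_, fun a ha h y hy => ?_⟩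
      · calc g₂ * g₁ * (w * u) * (g₂ * g₁)⁻¹ = g₂ * (g₁ * w) * u * g₁⁻¹ * g₂⁻¹ := by group
          _ = g₂ * w * g₂⁻¹ * (g₂ * (g₁ * u * g₁⁻¹)) * g₂⁻¹ := by rw [(c₁ a₀ ha₀ hY w hw).eq]; group
          _ = _ := by rw [e₁, e₂, (c₂ u' (sV hu') (k1 a₀ ha₀ rfl u' hu')).eq]; group
      · rw [Finset.mem_insert, not_or] at h
        exact (c₂ y (F1 a ha hy) (F2 a₀ ha₀ a ha (Ne.symm h.1) y hy)).mul_left (c₁ a ha h.2 y hy)

variable [Finite Γ]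

/-- In an `r`-group, `r` odd, conjugates of `x` normalize the irreducible commutator subgroup `ℓ = [V, x]`. -/
theorem conj_normalizes {r : ℕ} [hr : Fact r.Prime] (r2 : r ≠ 2) {P ℓ : Subgroup Γ} (hP : IsPGroup r P)
    (hV : ∀ a ∈ V, ∀ b ∈ V, a * b = b * a) (lV : ℓ ≤ V) {x a : Γ} (xP : x ∈ P) (aP : a ∈ 𝒩[P])
    (aV : a ∈ 𝒩[V]) (cm : ∀ v ∈ V, ⁅x, v⁆ ∈ ℓ) (fp : ∀ w ∈ ℓ, Commute x w → w = 1)
    (irr : ∀ Y ≤ V, x ∈ 𝒩[Y] → ℓ ≤ Y ∨ ∀ y ∈ Y, Commute x y) : a * x * a⁻¹ ∈ 𝒩[ℓ] := by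
  have nrm : ∀ a ∈ 𝒩[V], ∀ W ≤ V, conjS a ℓ ≤ W → a * x * a⁻¹ ∈ 𝒩[W] := fun a ha W h1 h2 =>
    mem_normalizer_of_conjS_le (conjS_le_iff_forall.2 fun w hw => by
      have := mul_mem (h2 (conj_mem_conjS.2 (cm _ (conj_inv_mem_of_mem_normalizer ha (h1 hw))))) hw
      rwa [show a * ⁅x, a⁻¹ * w * a⁆ * a⁻¹ * w = a * x * a⁻¹ * w * (a * x * a⁻¹)⁻¹ by
        rw [commutatorElement_def]; group] at this)
  have nrm1 : ∀ W ≤ V, ℓ ≤ W → x ∈ 𝒩[W] := fun W h1 h2 => by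
    simpa using nrm 1 (one_mem _) W h1 (by rwa [conjS_one])
  have ab : ∀ {Y Z : Subgroup Γ}, Y ≤ V → Z ≤ V → Y ≤ 𝒩[Z] := fun h1 h2 =>
    fun y hy => centralizer_le_normalizer _ fun z hz => hV z (h2 hz) y (h1 hy)
  have l'V : conjS a ℓ ≤ V := (conjS_mono lV).trans (mem_normalizer_iff_conjS.1 aV).le
  set W := ℓ ⊔ conjS a ℓ with hW
  have WV : W ≤ V := sup_le lV l'V
  have hc : Nat.card (W ⊓ centralizer {x} : Subgroup Γ) ≤ Nat.card ℓ := by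
    have e1 := PLocal.card_sup_mul_card_inf (ab lV l'V)
    have e2 := PLocal.card_sup_mul_card_inf (ab (inf_le_left.trans WV : W ⊓ centralizer {x} ≤ V) lV)
    have e3 : W ⊓ centralizer {x} ⊓ ℓ = ⊥ := eq_bot_iff.2 fun w hw =>
      fp w hw.2 (mem_centralizer_singleton_iff.1 hw.1.2).symm
    have e4 : Nat.card (W ⊓ centralizer {x} ⊔ ℓ : Subgroup Γ) ≤ Nat.card W :=
      card_le_of_le (sup_le inf_le_left le_sup_left)
    rw [e3, card_bot, mul_one] at e2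
    rw [card_conjS, ← hW] at e1
    have p1 : 0 < Nat.card ℓ := Nat.card_pos
    have p2 : 0 < Nat.card (ℓ ⊓ conjS a ℓ : Subgroup Γ) := Nat.card_pos
    refine Nat.le_of_mul_le_mul_right ?_ p1
    rw [← e2, ← e1]
    exact e4.trans (Nat.le_mul_of_pos_right _ p2)
  by_contra hn
  have hlt : P ⊓ 𝒩[W] ⊓ 𝒩[ℓ] < P ⊓ 𝒩[W] := lt_of_le_of_ne inf_le_left fun e =>
    hn (e.ge ⟨conj_mem_of_mem_normalizer aP xP, nrm a aV W WV le_sup_right⟩).2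
  obtain ⟨g, hg, g1, g2⟩ := Tech.exists_mem_normalizer_of_lt (hP.to_le inf_le_left) hlt
  have xN : x ∈ P ⊓ 𝒩[W] ⊓ 𝒩[ℓ] := ⟨⟨xP, nrm1 W WV le_sup_left⟩, nrm1 ℓ lV le_rfl⟩
  have key : ∀ h ∈ 𝒩[W], h ∈ 𝒩[P ⊓ 𝒩[W] ⊓ 𝒩[ℓ]] → h ∉ 𝒩[ℓ] → conjS h ℓ = W ⊓ centralizer {x} := by
    intro h h1 h2 h3
    have h4 : conjS h ℓ ≤ W := (conjS_mono le_sup_left).trans (mem_normalizer_iff_conjS.1 h1).le
    have h5 : x ∈ 𝒩[conjS h ℓ] := by
      rw [← conjS_normalizer, mem_conjS]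
      exact (conj_inv_mem_of_mem_normalizer h2 xN).2
    refine eq_of_le_of_card_ge (le_inf h4 fun y hy => ?_) (by rwa [card_conjS])
    rcases irr _ (h4.trans WV) h5 with h6 | h6
    · exact absurd (mem_normalizer_iff_conjS.2 (eq_of_le_of_card_ge h6 (card_conjS h ℓ).le).symm) h3
    · exact mem_centralizer_singleton_iff.2 (h6 y hy).symm
  have g3 : g ∉ 𝒩[ℓ] := fun e => g1 ⟨hg, e⟩
  have g4 : g * g ∉ 𝒩[ℓ] := fun e => by
    obtain ⟨k, hk⟩ := hP ⟨g, hg.1⟩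
    have h1 : orderOf g ∣ r ^ k := orderOf_dvd_of_pow_eq_one (congrArg Subtype.val hk)
    refine g3 (zpowers_le.2 (sq g ▸ e) (mem_zpowers_pow_iff.2 ?_))
    exact Nat.Coprime.coprime_dvd_right h1 (Nat.Coprime.pow_right k
      ((Nat.coprime_primes Nat.prime_two hr.out).2 r2.symm))
  have := (key g hg.2 g2 g3).trans (key _ (mul_mem hg.2 hg.2) (mul_mem g2 g2) g4).symm
  rw [conjS_mul] at this
  exact g3 (mem_normalizer_iff_conjS.2 (conjS_injective g this).symm)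

theorem singer {F : Type*} [Field F] [Fintype F] [CharP F 2] (hq : 2 < Fintype.card F) {m z : Γ} {ψ : Γ → F}
    {l : Fˣ} (hsq : ∀ v ∈ V, v * v = 1) (hV : ∀ a ∈ V, ∀ b ∈ V, a * b = b * a) (MV : M ≤ 𝒩[V]) (hm : m ∈ M)
    (gen : ∀ μ : Fˣ, μ ∈ zpowers l) (add : ∀ e ∈ V, ∀ e' ∈ V, ψ (e * e') = ψ e + ψ e')
    (act : ∀ e ∈ V, ψ (m * e * m⁻¹) = l * ψ e) (fix : ∀ e ∈ V, ψ e = 0 → Commute m e) (zV : z ∈ V)
    (nz : ψ z ≠ 0) :
    ∃ v ∈ V, v ≠ 1 ∧ ∀ a ∈ 𝒩[M], a ∈ 𝒩[V] → ∃ g ∈ M, a * v * a⁻¹ = g * v * g⁻¹ := by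
  classical
  obtain ⟨n, -, hn⟩ := FiniteField.card F 2
  have n1 : 1 < (n : ℕ) := by
    by_contra h
    have : (n : ℕ) = 1 := by have := n.pos; omega
    rw [this] at hn
    omega
  obtain ⟨r, b, hr, rb, hj⟩ := zsig_pow n1
  have := Fact.mk hr
  have r2 : r ≠ 2 := by
    rintro rfl
    rcases b with _ | b
    · exact hj 1 one_pos n1 (by simp)
    · have h1 : 2 ∣ 2 ^ (n : ℕ) - 1 := (dvd_pow_self 2 b.succ_ne_zero).trans rb
      have h2 : 2 ∣ 2 ^ (n : ℕ) := dvd_pow_self 2 n.ne_zero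
      omega
  have ol : orderOf l = 2 ^ (n : ℕ) - 1 := by
    rw [orderOf_eq_card_of_forall_mem_zpowers gen, Nat.card_eq_fintype_card, Fintype.card_units, hn]
  obtain ⟨c, N, hN, e⟩ := Nat.exists_eq_pow_mul_and_not_dvd (orderOf_pos m).ne' r hr.ne_one
  set x := m ^ N with hx
  have iV : ∀ a ∈ V, a⁻¹ = a := fun a ha => inv_eq_of_mul_eq_one_right (hsq a ha)
  have ψ1 : ψ 1 = 0 := by simpa using add 1 V.one_mem 1 V.one_mem
  have cV : ∀ i : ℕ, ∀ e ∈ V, m ^ i * e * (m ^ i)⁻¹ ∈ V := fun i e he =>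
    conj_mem_of_mem_normalizer (MV (M.pow_mem hm i)) he
  have actp : ∀ i : ℕ, ∀ e ∈ V, ψ (m ^ i * e * (m ^ i)⁻¹) = (l : F) ^ i * ψ e := fun i e he => by
    induction i with
    | zero => simp
    | succ i ih =>
      rw [show m ^ (i + 1) * e * (m ^ (i + 1))⁻¹ = m * (m ^ i * e * (m ^ i)⁻¹) * m⁻¹ by
        rw [pow_succ']; group, act _ (cV i e he), ih, pow_succ', mul_assoc]
  set μ : F := (l : F) ^ N with hμ
  have hμj : ∀ j, 0 < j → j < (n : ℕ) → μ ^ (2 ^ j - 1) ≠ 1 := fun j h1 h2 h3 => by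
    have h4 : l ^ (N * (2 ^ j - 1)) = 1 := Units.ext (by rw [pow_mul]; simpa using h3)
    exact hj j h1 h2 ((Nat.Coprime.pow_left b ((Nat.Prime.coprime_iff_not_dvd hr).2 hN)).dvd_of_dvd_mul_left
      (rb.trans (ol ▸ orderOf_dvd_of_pow_eq_one h4)))
  have μ1 : μ + 1 ≠ 0 := fun h => hμj 1 one_pos n1 (by
    rw [pow_one, show 2 - 1 = 1 from rfl, pow_one, eq_neg_of_add_eq_zero_left h, CharTwo.neg_eq])
  have cmV : ∀ v ∈ V, ⁅x, v⁆ ∈ V := fun v hv => mul_mem (cV N v hv) (inv_mem hv)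
  have ψc : ∀ v ∈ V, ψ ⁅x, v⁆ = (μ + 1) * ψ v := fun v hv => by
    rw [commutatorElement_def, add _ (cV N v hv) _ (inv_mem hv), actp N v hv, iV v hv, add_mul, one_mul]
  have cx : ∀ v ∈ V, Commute x v → ψ v = 0 := fun v hv h => by
    have := ψc v hv
    rw [commutatorElement_eq_one_iff_commute.2 h, ψ1] at this
    exact (mul_eq_zero.1 this.symm).resolve_left μ1
  have cmul : ∀ v ∈ V, ∀ v' ∈ V, ⁅x, v⁆ * ⁅x, v'⁆ = ⁅x, v * v'⁆ := fun v hv v' hv' => by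
    calc ⁅x, v⁆ * ⁅x, v'⁆ = x * v * x⁻¹ * (v⁻¹ * ⁅x, v'⁆) := by rw [commutatorElement_def x v]; group
      _ = _ := by rw [hV _ (inv_mem hv) _ (cmV v' hv')]; simp only [commutatorElement_def]; group
  let ℓ : Subgroup Γ :=
    { carrier := {w | ∃ v ∈ V, w = ⁅x, v⁆}
      one_mem' := ⟨1, V.one_mem, by simp⟩
      mul_mem' := by
        rintro _ _ ⟨v, hv, rfl⟩ ⟨v', hv', rfl⟩
        exact ⟨_, V.mul_mem hv hv', cmul v hv v' hv'⟩
      inv_mem' := by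
        rintro _ ⟨v, hv, rfl⟩
        exact ⟨v, hv, iV _ (cmV v hv)⟩ }
  have lV : ℓ ≤ V := by rintro _ ⟨v, hv, rfl⟩; exact cmV v hv
  have cm : ∀ v ∈ V, ⁅x, v⁆ ∈ ℓ := fun v hv => ⟨v, hv, rfl⟩
  have inj0 : ∀ w ∈ ℓ, ψ w = 0 → w = 1 := by
    rintro _ ⟨v, hv, rfl⟩ h
    rw [ψc v hv] at h
    exact commutatorElement_eq_one_iff_commute.2
      ((fix v hv ((mul_eq_zero.1 h).resolve_left μ1)).pow_left N)
  have inj : ∀ w ∈ ℓ, ∀ w' ∈ ℓ, ψ w = ψ w' → w = w' := fun w hw w' hw' h => by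
    have := inj0 _ (ℓ.mul_mem hw hw') (by rw [add _ (lV hw) _ (lV hw'), h, CharTwo.add_self_eq_zero])
    rw [← iV w' (lV hw')]
    exact eq_inv_of_mul_eq_one_left this
  have fp : ∀ w ∈ ℓ, Commute x w → w = 1 := fun w hw h => inj0 w hw (cx w (lV hw) h)
  have irr : ∀ Y ≤ V, x ∈ 𝒩[Y] → ℓ ≤ Y ∨ ∀ y ∈ Y, Commute x y := fun Y YV xY => by
    let N' : AddSubgroup F :=
      { carrier := {t | ∃ y ∈ Y, ψ y = t}
        zero_mem' := ⟨1, Y.one_mem, ψ1⟩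
        add_mem' := by
          rintro _ _ ⟨y, hy, rfl⟩ ⟨y', hy', rfl⟩
          exact ⟨_, Y.mul_mem hy hy', add _ (YV hy) _ (YV hy')⟩
        neg_mem' := by
          rintro _ ⟨y, hy, rfl⟩
          exact ⟨y, hy, (CharTwo.neg_eq _).symm⟩ }
    rcases add_irr hn (pow_ne_zero N l.ne_zero) hμj N' (by
      rintro _ ⟨y, hy, rfl⟩
      exact ⟨_, conj_mem_of_mem_normalizer xY hy, actp N y (YV hy)⟩) with h | h
    · exact Or.inr fun y hy => (fix y (YV hy) (AddSubgroup.mem_bot.1 (h.le ⟨y, hy, rfl⟩))).pow_left N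
    · refine Or.inl ?_
      rintro _ ⟨v, hv, rfl⟩
      obtain ⟨y, hy, e⟩ := h.ge (AddSubgroup.mem_top (ψ v))
      rw [inj _ (cm v hv) _ (cm y (YV hy)) (by rw [ψc v hv, ψc y (YV hy), e])]
      exact mul_mem (conj_mem_of_mem_normalizer xY hy) (inv_mem hy)
  have px : IsPGroup r (zpowers x) := by
    refine IsPGroup.of_card (n := Nat.log r (orderOf x)) ?_
    obtain ⟨i, -, hi⟩ := (Nat.dvd_prime_pow hr).1 (orderOf_dvd_of_pow_eq_one (x := x) (n := r ^ c) (by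
      rw [hx, ← pow_mul, mul_comm, ← e, pow_orderOf_eq_one]))
    rw [Nat.card_zpowers, hi, Nat.log_pow hr.one_lt]
  obtain ⟨P, hP, xP⟩ := exists_isSylowIn_ge px (zpowers_le.2 (M.pow_mem hm N))
  replace xP := zpowers_le.1 xP
  set L := 𝒩[M] ⊓ 𝒩[V] ⊓ 𝒩[P] with hL
  have hs : ∀ Y, Y ∈ (Set.toFinite {Y | ∃ a ∈ L, Y = conjS a ℓ}).toFinset ↔ ∃ a ∈ L, Y = conjS a ℓ :=
    fun Y => Set.Finite.mem_toFinset _
  have cc : ∀ {a y w : Γ}, Commute (a * y * a⁻¹) w ↔ Commute y (a⁻¹ * w * a) := fun {a y w} =>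
    ⟨fun h => by simpa [mul_assoc] using h.map (MulAut.conj a⁻¹),
      fun h => by simpa [mul_assoc] using h.map (MulAut.conj a)⟩
  have F1 : ∀ a ∈ L, conjS a ℓ ≤ V := fun a ha =>
    (conjS_mono lV).trans (mem_normalizer_iff_conjS.1 ha.1.2).le
  have F2 : ∀ a ∈ L, ∀ b ∈ L, conjS a ℓ ≠ conjS b ℓ → ∀ w ∈ conjS b ℓ, Commute (a * x * a⁻¹) w := by
    intro a ha b hb ne w hw
    have cL : b⁻¹ * a ∈ L := L.mul_mem (inv_mem hb) ha
    have h1 : x ∈ 𝒩[conjS (a⁻¹ * b) ℓ] := by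
      rw [← conjS_normalizer, mem_conjS]
      simpa [mul_assoc] using conj_normalizes r2 hP.isPGroup hV lV xP cL.2 cL.1.2 cm fp irr
    rcases irr _ (F1 _ (L.mul_mem (inv_mem ha) hb)) h1 with h2 | h2
    · refine absurd ?_ ne
      have := congrArg (conjS a) (eq_of_le_of_card_ge h2 (card_conjS _ ℓ).le)
      rwa [← conjS_mul, mul_inv_cancel_left] at this
    · exact cc.2 (h2 _ (by simpa [mem_conjS, mul_assoc] using hw))
  have F4 : ∀ a ∈ L, ∀ w ∈ conjS a ℓ, ∀ w' ∈ conjS a ℓ, w ≠ 1 → w' ≠ 1 →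
      ∃ g ∈ M, g * w * g⁻¹ = w' ∧ ∀ v ∈ V, Commute (a * x * a⁻¹) v → Commute g v := by
    intro a ha w₀ hw₀ w₁ hw₁ w1 w1'
    obtain ⟨w, hw, rfl⟩ := exists_of_mem_conjS hw₀
    obtain ⟨w', hw', rfl⟩ := exists_of_mem_conjS hw₁
    have a1 : ψ w ≠ 0 := fun h => w1 (by rw [inj0 w hw h]; group)
    have a2 : ψ w' ≠ 0 := fun h => w1' (by rw [inj0 w' hw' h]; group)
    obtain ⟨i, hi⟩ := mem_powers_iff_mem_zpowers.2 (gen (Units.mk0 (ψ w' / ψ w) (div_ne_zero a2 a1)))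
    have hi' : (l : F) ^ i = ψ w' / ψ w := by simpa using congrArg Units.val hi
    have h1 : m ^ i * w * (m ^ i)⁻¹ = w' := by
      refine inj _ ?_ _ hw' (by rw [actp i w (lV hw), hi', div_mul_cancel₀ _ a1])
      obtain ⟨v, hv, rfl⟩ := hw
      refine ⟨_, cV i v hv, ?_⟩
      have : m ^ i * x * (m ^ i)⁻¹ = x := by rw [hx, (Commute.pow_pow_self m i N).eq, mul_inv_cancel_right]
      conv_rhs => rw [← this]
      simp only [commutatorElement_def]; group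
    refine ⟨a * m ^ i * a⁻¹, conj_mem_of_mem_normalizer ha.1.1 (M.pow_mem hm i), by rw [← h1]; group,
      fun v hv h => cc.2 ?_⟩
    have hv' := conj_inv_mem_of_mem_normalizer ha.1.2 hv
    exact (fix _ hv' (cx _ hv' (cc.1 h))).pow_left i
  obtain ⟨⟨v, hv, gv⟩, H⟩ := orb_lemma (M := M) (L := L) hV (R := fun a => conjS a ℓ)
    (x := fun a => a * x * a⁻¹) F1 F2 (fun a ha w hw h => by
      rw [show w = a * (a⁻¹ * w * a) * a⁻¹ by group, fp _ (mem_conjS.1 hw) (cc.1 h)]; group) F4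
    (fun a ha => ⟨_, conj_mem_conjS.2 (cm z zV), fun h =>
      nz (cx z zV (commutatorElement_eq_one_iff_commute.1 (by simpa using h)))⟩) _ fun Y => (hs Y).1
  generalize (Set.toFinite {Y | ∃ a ∈ L, Y = conjS a ℓ}).toFinset = s at *
  refine ⟨v, (Finset.sup_le fun Y hY => ?_ : s.sup id ≤ V) hv, ?_, fun a h1 h2 => ?_⟩
  · obtain ⟨a, ha, rfl⟩ := (hs Y).1 hY
    exact F1 a ha
  · rintro rfl
    exact gv 1 L.one_mem ((hs _).2 ⟨1, L.one_mem, rfl⟩) (Commute.one_right _)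
  · obtain ⟨k, hk, y, hy, rfl⟩ := hP.frattini h1
    have yL : y ∈ L := ⟨⟨by simpa using mul_mem (inv_mem (le_normalizer hk)) h1,
      by simpa using mul_mem (inv_mem (MV hk)) h2⟩, hy⟩
    have h3 : s.sup id ≤ conjS y⁻¹ (s.sup id) := Finset.sup_le fun Y hY => by
      obtain ⟨a, ha, rfl⟩ := (hs Y).1 hY
      rw [← conjS_le_iff, id, ← conjS_mul]
      exact Finset.le_sup (f := id) ((hs _).2 ⟨_, L.mul_mem yL ha, rfl⟩)
    obtain ⟨g, hg, e, -⟩ := H v hv _ (conjS_le_iff.2 h3 (conj_mem_conjS.2 hv)) gv fun a ha _ h =>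
      gv (y⁻¹ * a) (L.mul_mem (inv_mem yL) ha) ((hs _).2 ⟨_, L.mul_mem (inv_mem yL) ha, rfl⟩)
        (cc.2 (by simpa [mul_assoc] using cc.1 h))
    exact ⟨k * g, M.mul_mem hk hg, by
      rw [show k * g * v * (k * g)⁻¹ = k * (g * v * g⁻¹) * k⁻¹ by group, e]; group⟩

end CfsgLib.Cop
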