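import Mathlib
import Cfsg.Agent.Lib.Cop.BigB
import Cfsg.Agent.Lib.Cop.BigC

/-! The configuration for fields with more than two elements does not occur. -/

set_option autoImplicit false
set_option linter.unusedSectionVars false

namespace CfsgLib.Cop

open Subgroup Cfsg CfsgLib.LAE CfsgLib.Push CfsgLib.Blocks CfsgLib.ZJ CfsgLib.OFP
open scoped commutatorElement

variable {Γ : Type*} [Group Γ] [Finite Γ] {A S V B Q K M H Z : Subgroup Γ}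

theorem BigM.false {F : Type} [Field F] [Fintype F] [CharP F 2] {u f z : Γ} {ψ : Γ → F} {l : Fˣ}
    (h : BigM F B Q K u f z ψ l) (hq : 2 < Fintype.card F) (v : VV A S V) (pS : IsPGroup 2 S) (BS : B ≤ S)
    (zV : z ∈ V) (sM : Group.IsSolvable M) (AM : A ≤ 𝒩[M]) (MV : M ≤ 𝒩[V])
    (inv : ∀ t ∈ V, (∀ a ∈ A, ∃ g ∈ M, a * t * a⁻¹ = g * t * g⁻¹) → t = 1)
    (hm : (¬ ∀ n ∈ K, ∃ c ∈ 𝒞[Q], ∃ m ∈ M, n = c * m) → ∀ T ≤ S, B ≤ T → T ≤ 𝒩[Q] → bau 2 T = B)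
    (ext : ∀ n ∈ K, n ∈ 𝒩[B] → ∃ c ∈ 𝒞[B], ∃ m ∈ M, n = c * m) : False := by
  have hV := vv_le_omegaZ v pS BS h.QB h.uQ h.uC h.uu h.key (h.BK.trans h.KQ) (hm (h.bad sM))
  obtain ⟨c, hc, m, hm, e⟩ := ext f h.fK h.fB
  have k : ∀ x ∈ V, m * x * m⁻¹ = f * x * f⁻¹ := fun x hx => by
    have := hc _ (omegaZ_le B (hV (LAE.conj_mem_of_mem_normalizer (MV hm) hx)))
    rw [e, show c * m * x * (c * m)⁻¹ = c * (m * x * m⁻¹) * c⁻¹ by group, ← this, mul_inv_cancel_right]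
  obtain ⟨t, ht, t1, H⟩ := singer hq v.sq (fun a ha b hb => MinS.M1.comm_of_sq v.sq ha hb) MV hm h.gen
    (fun x hx y hy => h.add x (hV hx) y (hV hy)) (fun x hx => by rw [k x hx, h.act x (hV hx)])
    (fun x hx h0 => mul_inv_eq_iff_eq_mul.1 (by
      rw [k x hx, (h.fix x (hV hx) h0).eq, mul_inv_cancel_right])) zV h.nz
  exact t1 (inv t ht fun a ha => H a (AM ha) (v.AV ha))

theorem BigE.false (h : BigE B H Z) (v : VV A S V) (pS : IsPGroup 2 S) (BS : B ≤ S) (ZV : Z ≤ V)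
    (sM : Group.IsSolvable M) (AM : A ≤ 𝒩[M]) (MV : M ≤ 𝒩[V])
    (inv : ∀ t ∈ V, (∀ a ∈ A, ∃ g ∈ M, a * t * a⁻¹ = g * t * g⁻¹) → t = 1)
    (hm : ∀ Q ≤ B, (¬ ∀ n ∈ H, n ∈ 𝒩[Q] → ∃ c ∈ 𝒞[Q], ∃ m ∈ M, n = c * m) →
      ∀ T ≤ S, B ≤ T → T ≤ 𝒩[Q] → bau 2 T = B)
    (ext : ∀ n ∈ H, n ∈ 𝒩[B] → ∃ c ∈ 𝒞[B], ∃ m ∈ M, n = c * m) : False := by
  obtain ⟨F, _, _, _, Q, K, u, f, z, ψ, l, hq, hK, hz, hb⟩ := h
  exact hb.false hq v pS BS (ZV hz) sM AM MV inv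
    (fun hn => hm Q hb.QB fun H' => hn fun n hn => H' n (hK hn) (hb.KQ hn)) fun n hn => ext n (hK hn)

end CfsgLib.Cop
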