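import Cfsg.Agent.Lib.Cop.Loc
import Cfsg.Agent.Lib.Cop.Big
import Cfsg.Agent.Lib.Cop.BigL
import Cfsg.Agent.Lib.Cop.End

/-!
Operator groups without fixed involutions: the large field case and the final step in the frame.
-/

set_option autoImplicit false

open Subgroup Cfsg CfsgLib.LAE CfsgLib.OFP

universe u

namespace CfsgLib.Cop

variable {X : Type u} [Group X] [Finite X] {A G S : Subgroup X}

namespace Fr

theorem V_ne_bot (h : Fr A G S) : vv G S ≠ ⊥ := fun e =>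
  h.Z_ne_bot (eq_bot_iff.2 ((omegaZ_le_vv G S).trans e.le))

theorem solvM (h : Fr A G S) : Group.IsSolvable (G ⊓ normalizer (vv G S : Set X) : Subgroup X) :=
  h.solv_norm (h.vV.le.trans h.syl.le) (h.syl.isPGroup.to_le h.vV.le) h.V_ne_bot h.vV.AV

theorem AM (h : Fr A G S) :
    A ≤ normalizer ((G ⊓ normalizer (vv G S : Set X) : Subgroup X) : Set X) := fun a ha =>
  mem_normalizer_fintype fun _ hx => ⟨h.nrm.conj_mem _ hx.1 a,
    Subgroup.mul_mem _ (Subgroup.mul_mem _ (h.vV.AV ha) hx.2) (Subgroup.inv_mem _ (h.vV.AV ha))⟩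

theorem bigE (h : Fr A G S) {F : Type} [Field F] {B Q P V V₀ : Subgroup X}
    (l : Lf F G (G ⊓ normalizer (vv G S : Set X)) S B Q P V V₀) (e : BigE B G (omegaZ 2 S)) : False := by
  refine e.false h.vV h.syl.isPGroup l.BS (omegaZ_le_vv G S) h.solvM h.AM inf_le_right
    (fun t ht H => h.inv t (h.syl.le (h.vV.le ht)) (h.vV.sq t ht) fun a ha => ?_)
    (fun R RB hn T TS BT TR => l.hm R T (l.pB.to_le RB) (RB.trans (l.BS.trans l.SM)) (fun H => hn fun n n1 n2 => ?_)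
      (h.syl.isPGroup.to_le TS) BT (TS.trans h.syl.le) TR) fun n n1 n2 => ?_
  · obtain ⟨g, hg, e⟩ := H a ha
    exact ⟨g, hg.1, e⟩
  · obtain ⟨c, hc, m, hm, -, e⟩ := mem_CM.1 (H ⟨n1, n2⟩)
    exact ⟨c, hc, m, hm, e⟩
  · obtain ⟨c, hc, m, hm, -, e⟩ := mem_CM.1 (l.ovr B l.pB le_rfl (l.BS.trans l.SM) ⟨n1, n2⟩)
    exact ⟨c, hc, m, hm, e⟩

theorem big (h : Fr A G S) {F : Type} [Field F] [Fintype F] [CharP F 2] {B Q P V V₀ : Subgroup X}
    (l : Lf F G (G ⊓ normalizer (vv G S : Set X)) S B Q P V V₀) (hq : 2 < Fintype.card F) : False :=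
  h.bigE l (lf_bigE l hq)

theorem false_of_good (h : Fr A G S)
    (good : ∀ U ≤ S, G ⊓ normalizer (U : Set X) ≤ CM (G ⊓ normalizer (vv G S : Set X)) U) : False := by
  refine end_false h.simple h.nc h.AG h.inv h.syl h.vV.le h.V_ne_bot
    (fun x hx y hy => MinS.M1.comm_of_sq h.vV.sq hy hx) fun U hU g h1 h2 => ?_
  obtain ⟨c, hc, m, hm, -, e⟩ := mem_CM.1 (good U hU ⟨h1, h2⟩)
  exact ⟨c, hc, m, hm.2, e⟩

end Fr

end CfsgLib.Cop
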