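import Cfsg.Agent.Lib.Cop.S1Defs
import Cfsg.Agent.Lib.FPD.Red
import Cfsg.Agent.Lib.Fgs.Camina2
import Cfsg.Agent.S0205

/-!
Cosets consisting of elements of odd order, and three applications.
-/

set_option autoImplicit false

open Subgroup Cfsg
open scoped commutatorElement

universe u

namespace CfsgLib.Cop

/-- Normal subgroups on whose sections no supplement fixes an involution are solvable. -/
def InvBox : Prop :=
  ∀ (X : Type u) [Group X] [Finite X] (G : Subgroup X), G.Normal →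
    (∀ Y : Subgroup X, Y ⊔ G = ⊤ → NoFix Y G) → Group.IsSolvable G

variable {X : Type u} [Group X]

theorem mem_of_odd {K : Subgroup X} {h y : X} (hh : h ∈ normalizer (K : Set X))
    (hy : y ∈ normalizer (K : Set X)) (h2 : h * h ∈ K) (hc : ⁅h, y⁆ ∈ K)
    (o1 : Odd (orderOf y)) (o2 : Odd (orderOf (h * y))) : h ∈ K := by
  set N := normalizer (K : Set X) with hN
  have : (K.subgroupOf N).Normal := normal_in_normalizer
  set π := QuotientGroup.mk' (K.subgroupOf N) with hπ
  have key : ∀ z : N, π z = 1 ↔ (z : X) ∈ K := fun z => by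
    rw [hπ, QuotientGroup.mk'_apply, QuotientGroup.eq_one_iff, mem_subgroupOf]
  set a : N := ⟨h, hh⟩
  set b : N := ⟨y, hy⟩
  have hab : Commute (π a) (π b) := by
    rw [← commutatorElement_eq_one_iff_commute, ← map_commutatorElement, key]
    exact hc
  set n := orderOf y * orderOf (h * y) with hn
  have hb : b ^ n = 1 := Subtype.ext (by
    show y ^ n = 1
    rw [hn, pow_mul, pow_orderOf_eq_one, one_pow])
  have hab' : (a * b) ^ n = 1 := Subtype.ext (by
    show (h * y) ^ n = 1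
    rw [hn, mul_comm, pow_mul, pow_orderOf_eq_one, one_pow])
  have h3 : π a ^ n = 1 := by
    have := congrArg π hab'
    rwa [map_pow, map_mul, hab.mul_pow, ← map_pow π b, hb, map_one, mul_one] at this
  have h4 : π a ^ 2 = 1 := by
    rw [← map_pow, key, pow_two]
    exact h2
  obtain ⟨k, hk⟩ : Odd n := o1.mul o2
  rw [hk, pow_succ, pow_mul, h4, one_pow, one_mul] at h3
  exact (key a).1 h3

theorem noFix_of_coset {G : Subgroup X} [hG : G.Normal] {x : X}
    (hx : ∀ g ∈ G, Odd (orderOf (g * x))) {Y : Subgroup X} (hY : Y ⊔ G = ⊤) : NoFix Y G := by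
  have h1 : x ∈ G ⊔ Y := by rw [sup_comm, hY]; exact mem_top x
  obtain ⟨g, hg, y, hy, rfl⟩ := mem_sup_of_normal_left.1 h1
  intro K _ hYK h hh hK h2 hc
  refine mem_of_odd hK (hYK hy) h2 (hc y hy) ?_ ?_
  · simpa using hx g⁻¹ (inv_mem hg)
  · simpa [mul_assoc] using hx (h * g⁻¹) (mul_mem hh (inv_mem hg))

/-- A normal subgroup with a coset consisting of elements of odd order is solvable. -/
theorem InvBox.coset (b : InvBox.{u}) [Finite X] {G : Subgroup X} [hG : G.Normal] {x : X}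
    (hx : ∀ g ∈ G, Odd (orderOf (g * x))) : Group.IsSolvable G :=
  b X G hG fun _ hY => noFix_of_coset hx hY

theorem InvBox.coset' (b : InvBox.{u}) [Finite X] {G : Subgroup X} [hG : G.Normal] {x : X}
    (hx : ∀ g ∈ G, Odd (orderOf (x * g))) : Group.IsSolvable G := by
  refine b.coset (x := x) fun g hg => ?_
  have h := hx (x⁻¹ * g * x⁻¹⁻¹) (hG.conj_mem g hg x⁻¹)
  have e : x * (x⁻¹ * g * x⁻¹⁻¹) = g * x := by group
  rwa [e] at h

theorem hol_pow {G : Type u} [Group G] (α : MulAut G) (x : G) (n : ℕ) :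
    ((SemidirectProduct.inl x * SemidirectProduct.inr α : FPD.Hol G)) ^ n =
      SemidirectProduct.inl (((List.range n).map (fun i : ℕ => (α ^ i) x)).prod) *
        SemidirectProduct.inr (α ^ n) := by
  induction n with
  | zero => simp
  | succ n ih =>
    rw [pow_succ, ih, List.range_succ, List.map_append, List.prod_append, map_mul, pow_succ α,
      map_mul]
    have := SemidirectProduct.inl_aut (φ := MonoidHom.id (MulAut G)) (α ^ n) x
    simp only [List.map_cons, List.map_nil, List.prod_cons, List.prod_nil, mul_one]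
    rw [MonoidHom.id_apply] at this
    rw [this, map_inv]
    group

theorem InvBox.s3945 (b : InvBox.{u}) {G : Type u} [Group G] [Finite G] (α : MulAut G)
    (hodd : Odd (orderOf α))
    (hsplit : ∀ x : G, (((List.range (orderOf α)).map (fun i : ℕ => (α ^ i) x)).prod = 1)) :
    Group.IsSolvable G := by
  have h : Group.IsSolvable (FPD.hG G) := by
    refine b.coset (x := SemidirectProduct.inr α) ?_
    rintro _ ⟨g, rfl⟩
    refine Odd.of_dvd_nat hodd (orderOf_dvd_of_pow_eq_one ?_)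
    rw [hol_pow, hsplit, pow_orderOf_eq_one, map_one, map_one, one_mul]
  exact Group.isSolvable_of_isSolvable_injective (f := (FPD.hGEquiv G).toMonoidHom) (FPD.hGEquiv G).injective

theorem solv_of_index_pow [Finite X] {K : Subgroup X} [K.Normal] (hK : Group.IsSolvable K) {p k : ℕ}
    [Fact p.Prime] (h : K.index = p ^ k) : Group.IsSolvable X := by
  have h1 : IsPGroup p (X ⧸ K) := IsPGroup.of_card h
  have := h1.isNilpotent
  exact Group.isSolvable_of_ker_le_range K.subtype (QuotientGroup.mk' K) (by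
    rw [QuotientGroup.ker_mk', range_subtype])

theorem exists_compl [Finite X] {p : ℕ} [hp : Fact p.Prime] (h : HasNormalPComplement p X) :
    ∃ K : Subgroup X, K.Characteristic ∧ (Nat.card K).Coprime p ∧ ∃ k, K.index = p ^ k := by
  obtain ⟨k, hk⟩ := Transfer.exists_index_pResidual (p := p) (G := X)
  exact ⟨pResidual p X, Transfer.pResidual_characteristic p X, ((Nat.Prime.coprime_iff_not_dvd hp.out).2
    (Transfer.hasNormalPComplement_iff_not_dvd.1 h)).symm, k, hk⟩

theorem solv_of_compl [Finite X] (h : HasNormalPComplement 2 X) : Group.IsSolvable X := by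
  have : Fact (Nat.Prime 2) := ⟨Nat.prime_two⟩
  obtain ⟨K, hK, h1, k, hk⟩ := exists_compl h
  exact solv_of_index_pow (Cfsg.Agent.S0205.result (Nat.coprime_two_right.1 h1)) hk

theorem InvBox.s4141 (b : InvBox.{u}) {G : Type u} [Group G] [Finite G] (N : Subgroup G) [N.Normal]
    (hN2 : N ≠ ⊤) (hcam : ∀ g : G, g ∉ N → ∀ n ∈ N, ∃ x : G, x * g * x⁻¹ = g * n) :
    (Group.IsSolvable (G ⧸ N) → Group.IsSolvable G) ∧ Group.IsSolvable N := by
  have hN : Group.IsSolvable N := by
    obtain ⟨s, hs, hd⟩ := Nat.exists_prime_and_dvd (mt index_eq_one.1 hN2)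
    have := Fact.mk hs
    rcases hs.eq_two_or_odd' with rfl | ho
    · exact solv_of_compl (Fgs.camina_hasNormalPComplement hcam hd)
    · obtain ⟨S⟩ : Nonempty (Sylow s G) := inferInstance
      obtain ⟨g, hg, hgN, -⟩ := Fgs.camina_exists hcam S hd
      obtain ⟨k, hk⟩ := Core.isPGroup_subgroup_iff.1 S.isPGroup' g hg
      refine b.coset' (x := g) fun n hn => ?_
      obtain ⟨x, hx⟩ := hcam g hgN n hn
      refine Odd.of_dvd_nat (ho.pow (n := k)) (orderOf_dvd_of_pow_eq_one ?_)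
      rw [← hx, conj_pow, hk]
      simp
  refine ⟨fun h => ?_, hN⟩
  exact Group.isSolvable_of_ker_le_range N.subtype (QuotientGroup.mk' N) (by
    rw [QuotientGroup.ker_mk', range_subtype])

theorem camina_one {G : Type u} [Group G] [Finite G] {N : Subgroup G} [hN : N.Normal] {g : G}
    (hcam : ∀ n ∈ N, ∃ x : G, x * g * x⁻¹ = g * n) {s : ℕ} [hs : Fact s.Prime]
    (S : Sylow s G) (hgS : g ∈ (S : Subgroup G))
    (hc : ∀ x ∈ (S : Subgroup G), g⁻¹ * (x * g * x⁻¹) ∈ N) :
    ∀ n ∈ (S : Subgroup G) ⊓ N, ∃ x ∈ (S : Subgroup G), x * g * x⁻¹ = g * n := by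
  set T := (centralizer {(g : G ⧸ N)}).comap (QuotientGroup.mk' N) with hT
  have hmem : ∀ x, x ∈ T ↔ g⁻¹ * (x * g * x⁻¹) ∈ N := fun x => by
    rw [hT, mem_comap, mem_centralizer_singleton_iff, ← QuotientGroup.eq, QuotientGroup.mk_mul,
      QuotientGroup.mk_mul, QuotientGroup.mk_inv, eq_mul_inv_iff_mul_eq, eq_comm]
    rfl
  have hST : (S : Subgroup G) ≤ T := fun x hx => (hmem x).2 (hc x hx)
  set C := centralizer ({g} : Set G) with hC
  have hCT : C ≤ T := fun x hx => (hmem x).2 (by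
    rw [mem_centralizer_singleton_iff.1 hx]; simp)
  have h1 : C.relIndex T = Nat.card N := by
    rw [hC, ← Fgs.ncard_conj_by_subgroup]
    have : {y | ∃ h ∈ T, y = h * g * h⁻¹} = (fun n => g * n) '' (N : Set G) := by
      ext y
      constructor
      · rintro ⟨h, hh, rfl⟩
        exact ⟨_, (hmem h).1 hh, by simp⟩
      · rintro ⟨n, hn, rfl⟩
        obtain ⟨x, hx⟩ := hcam n hn
        exact ⟨x, (hmem x).2 (by rw [hx]; simpa using hn), hx.symm⟩
    rw [this, Set.ncard_image_of_injective _ (mul_right_injective g)]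
    rfl
  have h2 : Nat.card N ∣ C.relIndex S * (S : Subgroup G).relIndex T := by
    rw [← inf_relIndex_right C S, relIndex_mul_relIndex _ _ _ inf_le_right hST,
      ← relIndex_mul_relIndex _ C T inf_le_left hCT, h1]
    exact dvd_mul_left _ _
  have h3 : Nat.card ((S : Subgroup G) ⊓ N : Subgroup G) ∣ C.relIndex S := by
    refine Nat.Coprime.dvd_of_dvd_mul_right ?_ ((card_dvd_of_le inf_le_right).trans h2)
    refine Core.isPGroup_coprime_card (S.isPGroup'.to_inf_left) ?_
    exact ((Nat.Prime.coprime_iff_not_dvd hs.out).2 fun h =>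
      S.not_dvd_index (h.trans (relIndex_dvd_index_of_le hST))).symm
  have h4 : {y | ∃ h ∈ (S : Subgroup G), y = h * g * h⁻¹} =
      (fun n => g * n) '' (((S : Subgroup G) ⊓ N : Subgroup G) : Set G) := by
    apply Set.eq_of_subset_of_ncard_le
    · rintro _ ⟨h, hh, rfl⟩
      exact ⟨_, mem_inf.2 ⟨mul_mem (inv_mem hgS) (mul_mem (mul_mem hh hgS) (inv_mem hh)), hc h hh⟩,
        by simp⟩
    · rw [Fgs.ncard_conj_by_subgroup, Set.ncard_image_of_injective _ (mul_right_injective g)]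
      exact Nat.le_of_dvd (Nat.pos_of_ne_zero index_ne_zero_of_finite) h3
    · exact Set.toFinite _
  intro n hn
  obtain ⟨x, hx, h⟩ : g * n ∈ {y | ∃ h ∈ (S : Subgroup G), y = h * g * h⁻¹} := h4 ▸ ⟨n, hn, rfl⟩
  exact ⟨x, hx, h.symm⟩

section
variable {G : Type u} [Group G] [Finite G] {N M : Subgroup G} [hN : N.Normal] [hM : M.Normal] {g : G}

omit hM in
theorem cls_prime (hgM : g ∈ M) (hgN : g ∉ N) (hcl : ∀ h ∈ M, h ∉ N → IsConj g h) :
    ∃ p k : ℕ, p.Prime ∧ orderOf g = p ^ k := by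
  have h1 : orderOf (g : G ⧸ N) ≠ 1 := fun h =>
    hgN ((QuotientGroup.eq_one_iff g).1 (orderOf_eq_one_iff.1 h))
  obtain ⟨p, hp, hd⟩ := Nat.exists_prime_and_dvd h1
  obtain ⟨k, r, hr, e⟩ := Nat.exists_eq_pow_mul_and_not_dvd (orderOf_pos g).ne' p hp.ne_one
  have h2 : g ^ r ∉ N := fun h => hr (hd.trans (orderOf_dvd_of_pow_eq_one (by
    rw [← QuotientGroup.mk_pow, QuotientGroup.eq_one_iff]; exact h)))
  obtain ⟨c, hc⟩ := isConj_iff.1 (hcl _ (pow_mem hgM r) h2)
  have h3 : g ^ p ^ k = 1 := by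
    have : (c * g * c⁻¹) ^ p ^ k = 1 := by
      rw [hc, ← pow_mul, mul_comm, ← e, pow_orderOf_eq_one]
    rw [conj_pow] at this
    simpa using this
  obtain ⟨j, -, hj⟩ := (Nat.dvd_prime_pow hp).1 (orderOf_dvd_of_pow_eq_one h3)
  exact ⟨p, j, hp, hj⟩

omit [Finite G] hN hM in
theorem cls_pow (hcl : ∀ h ∈ M, h ∉ N → IsConj g h) {n : ℕ} (hn : orderOf g = n) {h : G}
    (hM : h ∈ M) (hN : h ∉ N) : h ^ n = 1 := by
  obtain ⟨c, rfl⟩ := isConj_iff.1 (hcl h hM hN)
  rw [conj_pow, ← hn, pow_orderOf_eq_one]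
  simp

omit hM in
theorem cls_index (hcl : ∀ h ∈ M, h ∉ N → IsConj g h) {p k : ℕ} [Fact p.Prime]
    (hn : orderOf g = p ^ k) : ∃ j, N.relIndex M = p ^ j := by
  have : IsPGroup p (M ⧸ N.subgroupOf M) := by
    intro x
    obtain ⟨x, rfl⟩ := QuotientGroup.mk_surjective x
    refine ⟨k, ?_⟩
    rw [← QuotientGroup.mk_pow, QuotientGroup.eq_one_iff, mem_subgroupOf]
    by_cases hx : (x : G) ∈ N
    · exact pow_mem hx _
    · rw [SubmonoidClass.coe_pow, cls_pow hcl hn x.2 hx]
      exact one_mem _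
  exact this.exists_card_eq

theorem cls_compl (hNM : N ≤ M) (hgM : g ∈ M) (hgN : g ∉ N) (hcl : ∀ h ∈ M, h ∉ N → IsConj g h)
    {p k : ℕ} [hp : Fact p.Prime] (hn : orderOf g = p ^ k) : HasNormalPComplement p N := by
  have h1 : IsPGroup p (zpowers g) := IsPGroup.of_card (by rw [Nat.card_zpowers, hn])
  obtain ⟨S, hS⟩ := h1.exists_le_sylow
  have hle : ¬ M.subgroupOf (S : Subgroup G) ≤ N.subgroupOf S := fun h =>
    hgN (h (x := ⟨g, hS (mem_zpowers g)⟩) hgM)
  obtain ⟨a, haM, haN, -, h3⟩ := PGroup.exists_central_mod_pow_mem S.isPGroup' hle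
  have h4 : ∀ x ∈ (S : Subgroup G), (a : G)⁻¹ * (x * a * x⁻¹) ∈ N := fun x hx => by
    have h5 : ⁅(a : G), x⁆ ∈ N := h3 ⟨x, hx⟩
    have := hN.conj_mem _ (inv_mem h5) (a : G)⁻¹
    simpa [commutatorElement_def, mul_assoc] using this
  have h5 : ∀ n ∈ N, ∃ x : G, x * a * x⁻¹ = a * n := fun n hn => by
    refine isConj_iff.1 ((hcl a haM haN).symm.trans (hcl _ (mul_mem haM (hNM hn)) fun h => haN ?_))
    exact (mul_mem_cancel_right hn).1 h
  have h := camina_one h5 S a.2 h4
  refine Transfer.hasNormalPComplement_of_inf_le_frattini S N fun n hn => ?_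
  obtain ⟨x, hx, h⟩ := h n ⟨hn.2, hn.1⟩
  refine Core.commutator_le_map_frattini S.isPGroup' ?_
  have := commutator_mem_commutator (inv_mem a.2) hx
  rwa [commutatorElement_def, inv_inv, mul_assoc, mul_assoc, ← mul_assoc x, h,
    inv_mul_cancel_left] at this

end

theorem InvBox.s4012 (b : InvBox.{u}) {G : Type u} [Group G] [Finite G] (N M : Subgroup G) [N.Normal]
    [M.Normal] (hNM : N < M) (g : G) (hgM : g ∈ M) (hgN : g ∉ N)
    (hcl : {h : G | IsConj g h} = (M : Set G) \ (N : Set G)) :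
    ∃ p : ℕ, p.Prime ∧ (∃ k : ℕ, orderOf g = p ^ k) ∧ Group.IsSolvable ↥M ∧
      ∃ K : Subgroup ↥M, K.Normal ∧ (Nat.card K).Coprime p ∧ ∃ k : ℕ, K.index = p ^ k := by
  have hc : ∀ h ∈ M, h ∉ N → IsConj g h := fun h h1 h2 => by
    have : h ∈ {h : G | IsConj g h} := by rw [hcl]; exact ⟨h1, h2⟩
    exact this
  obtain ⟨p, k, hp, hk⟩ := cls_prime hgM hgN hc
  have := Fact.mk hp
  obtain ⟨j, hj⟩ := cls_index hc hk
  obtain ⟨K, hK, h1, i, hi⟩ := exists_compl (cls_compl hNM.le hgM hgN hc hk)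
  have hKN : K.map N.subtype ≤ N := map_subtype_le _
  have h2 : Nat.card ((K.map N.subtype).subgroupOf M) = Nat.card K := by
    rw [Nat.card_congr (subgroupOfEquivOfLe (hKN.trans hNM.le)).toEquiv, Core.card_map_subtype]
  have h3 : ((K.map N.subtype).subgroupOf M).index = p ^ (i + j) := by
    show (K.map N.subtype).relIndex M = _
    rw [← relIndex_mul_relIndex _ N M hKN hNM.le, hj, pow_add, ← hi, relIndex, subgroupOf,
      comap_map_eq_self_of_injective N.subtype_injective]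
  refine ⟨p, hp, ⟨k, hk⟩, ?_, (K.map N.subtype).subgroupOf M, inferInstance, h2 ▸ h1, _, h3⟩
  rcases hp.eq_two_or_odd' with rfl | ho
  · exact solv_of_index_pow (Cfsg.Agent.S0205.result (Nat.coprime_two_right.1 (h2 ▸ h1))) h3
  · have hs : Group.IsSolvable N := by
      refine b.coset' (x := g) fun n hn => ?_
      exact Odd.of_dvd_nat (ho.pow (n := k)) (orderOf_dvd_of_pow_eq_one (cls_pow hc hk
        (mul_mem hgM (hNM.le hn)) fun h => hgN ((mul_mem_cancel_right hn).1 h)))
    refine solv_of_index_pow (K := N.subgroupOf M) ?_ hj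
    exact Group.isSolvable_of_isSolvable_injective
      (f := (subgroupOfEquivOfLe hNM.le).toMonoidHom) (subgroupOfEquivOfLe hNM.le).injective

end CfsgLib.Cop
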