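import Cfsg.Agent.Lib.Cop.S1Chf

/-! COP step 1, package C1: `V ≤ O₂(H)` (plans/COP-S1.md). -/

set_option autoImplicit false

open Subgroup Cfsg CfsgLib.LAE CfsgLib.ZN CfsgLib.MinS Module
open scoped commutatorElement

universe u

namespace CfsgLib.Cop

variable {X : Type u} [Group X] [Finite X] {A G S V N H : Subgroup X}

theorem Co.c1 (c : Co A G S V N H) : V ≤ pCoreOf 2 H := by
  intro v hv
  by_contra hvQ
  have SH := c.mp.syl.le
  have QH : pCoreOf 2 H ≤ H := pCoreOf_le H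
  have QS : pCoreOf 2 H ≤ S := c.mp.syl.pCoreOf_le
  have HQ := le_normalizer_pCoreOf (p := 2) H
  obtain ⟨Z, E, -, hE, sx, hn⟩ := exists_chief (A := A) (P₁ := ⊥) (isPGroup_pCoreOf (p := 2) H) QH
    c.mp.AH HQ (le_normalizer_pCoreOf_of_le c.mp.AH) bot_le (normalizer_eq_top (⊥ : Subgroup X) ▸ le_top)
    (normalizer_eq_top (⊥ : Subgroup X) ▸ le_top)
    fun h => c.act (commutator_eq_bot_iff_le_centralizer.1 (le_bot_iff.1 h))
  have hcz := c.mp.cz_le sx hn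
  obtain ⟨F, FH, HF, DF, f4, f5, f6⟩ := sx.fit c.om c.HG (hE.trans (QH.trans c.HG)) c.solv
  have QD : pCoreOf 2 H ≤ H ⊓ cz E Z := le_inf QH sx.pCore_le
  have hQ : IsSylowIn 2 (pCoreOf 2 H) F := by
    have e : S ⊓ F = pCoreOf 2 H := le_antisymm (fun f hf => by
      obtain ⟨n, hn, h1⟩ := f4 f hf.2
      obtain ⟨k, hk⟩ := isPGroup_iff_forall_mem.1 c.mp.syl.isPGroup f hf.1
      exact hcz ⟨hf.1, mem_of_pow_mem_of_coprime (Nat.Coprime.coprime_dvd_left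
        (orderOf_dvd_of_pow_eq_one hk) (Nat.Coprime.pow_left k hn.coprime_two_left)) h1⟩)
      (le_inf QS (QD.trans DF))
    exact e ▸ c.mp.syl.inf_of_normal FH HF
  have VH : V ≤ H := c.vv.le.trans SH
  have hex : ∃ f ∈ F, ⁅f, v⁆ ∉ H ⊓ cz E Z := by
    by_contra! hh
    exact hvQ (hcz ⟨c.vv.le hv, f5 v (VH hv) (c.vv.sq v hv) fun f hf => (hh f hf).2⟩)
  obtain ⟨V₁, V1, V2, -, V4, d, dF, dD, d1, d2, d3⟩ := td1_mod hQ FH HQ HF
    (le_normalizer_inf le_normalizer (le_normalizer_cz sx.HE sx.HZ)) QD VH c.vv.sq hv hex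
  have ab : ∀ {W : Subgroup X}, (∀ x ∈ W, x * x = 1) → ∀ x ∈ W, ∀ y ∈ W, x * y = y * x :=
    fun {W} h x hx y hy => by
      have e : ∀ z ∈ W, z⁻¹ = z := fun z hz => inv_eq_of_mul_eq_one_right (h z hz)
      rw [← e _ (mul_mem hx hy), mul_inv_rev, e x hx, e y hy]
  have BS : conjS d V₁ ≤ S := (conjS_mono le_sup_right).trans
    ((mem_normalizer_iff_conjS.1 d3).le.trans (sup_le QS (V1.trans c.vv.le)))
  have Bsq : ∀ b ∈ conjS d V₁, b * b = 1 := fun b hb => by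
    obtain ⟨u, hu, rfl⟩ := exists_of_mem_conjS hb
    rw [show d * u * d⁻¹ * (d * u * d⁻¹) = d * (u * u) * d⁻¹ by group, c.vv.sq u (V1 hu), mul_one,
      mul_inv_cancel]
  have key : ∀ y ∈ conjS d V₁, v * y = y * v → d * y = y * d ∧ y ∈ V₁ := fun y hy h1 => by
    obtain ⟨u, hu, rfl⟩ := exists_of_mem_conjS hy
    have a1 : Commute (d * v * d⁻¹) (d * u * d⁻¹) := by
      show _ = _
      calc _ = d * (v * u) * d⁻¹ := by group
        _ = _ := by rw [ab c.vv.sq v hv u (V1 hu)]; group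
    have a2 : v * (d * v * d⁻¹) = (d * d)⁻¹ := by
      rw [mul_inv_rev, ← d2, inv_eq_of_mul_eq_one_right (c.vv.sq v hv)]; group
    have a3 : Commute (d * d) (d * u * d⁻¹) := by
      have := (Commute.mul_left (show Commute v _ from h1) a1).inv_left
      rwa [a2, inv_inv] at this
    obtain ⟨n, hn⟩ := mem_zpowers_sq d1
    have a4 : Commute d (d * u * d⁻¹) := by
      have := a3.zpow_left n
      rwa [show (d * d) ^ n = d from hn] at this
    refine ⟨a4.eq, ?_⟩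
    rwa [show d * u * d⁻¹ = u from mul_left_cancel (a := d) (by rw [a4.eq]; group)]
  have e1 : centralizer (V : Set X) ⊓ conjS d V₁ = V₁ ⊓ conjS d V₁ := le_antisymm
    (fun y hy => ⟨(key y hy.2 (hy.1 v hv)).2, hy.2⟩)
    fun y hy => ⟨fun x hx => ab c.vv.sq x hx y (V1 hy.1), hy.2⟩
  have e2 : (V₁ ⊓ conjS d V₁).relIndex (conjS d V₁) = (V₁ ⊓ conjS d V₁).relIndex V₁ := by
    have a1 := relIndex_mul_relIndex ⊥ _ _ bot_le (inf_le_right : V₁ ⊓ conjS d V₁ ≤ _)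
    have a2 := relIndex_mul_relIndex ⊥ _ _ bot_le (inf_le_left : V₁ ⊓ conjS d V₁ ≤ _)
    rw [relIndex_bot_left, relIndex_bot_left] at a1 a2
    rw [card_conjS, ← a2] at a1
    exact Nat.eq_of_mul_eq_mul_left Nat.card_pos a1
  have e3 := c.vv.q2 _ BS Bsq
  rw [← inf_relIndex_right (centralizer (V : Set X)), e1, e2] at e3
  have e4 : (centralizer (conjS d V₁ : Set X)).relIndex V ≤ (V₁ ⊓ conjS d V₁).relIndex V :=
    relIndex_le_of_le_left (fun y hy x hx => ab Bsq x hx y hy.2) index_ne_zero_of_finite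
  rw [← relIndex_mul_relIndex _ _ _ (inf_le_left : V₁ ⊓ conjS d V₁ ≤ _) V1, V2] at e4
  refine dD ⟨FH dF, f6 d dF v (VH hv) (c.vv.sq v hv) d2 V₁ (V₁ ⊓ conjS d V₁) (by nlinarith)
    (fun e he => V4 ⟨?_, ?_⟩) fun x hx _ => (key x hx.2 (ab c.vv.sq v hv x (V1 hx.1))).1⟩
  · rw [commutatorElement_def, mul_assoc, mul_assoc, ← mul_assoc e]
    exact V.mul_mem hv (conj_mem_of_mem_normalizer (c.vv.SV (QS (hE he))) (V.inv_mem hv))
  · exact (pCoreOf 2 H).mul_mem (conj_mem_of_mem_normalizer (HQ (VH hv)) (hE he))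
      ((pCoreOf 2 H).inv_mem (hE he))

end CfsgLib.Cop
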