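import Cfsg.Agent.Lib.Cop.S1C1

/-! COP step 1, package C2: `U` is abelian, and the chain count (plans/COP-S1.md). -/

set_option autoImplicit false

open Subgroup Cfsg CfsgLib.LAE CfsgLib.ZN CfsgLib.MinS Module
open scoped commutatorElement

universe u

namespace CfsgLib.Cop

variable {X : Type u} [Group X] [Finite X] {A G S V N H : Subgroup X}

/-- The inequality `q2` for the conjugates of `V` under `H`. -/
theorem Co.q2_conj (c : Co A G S V N H) {g : X} (hg : g ∈ H) {B : Subgroup X}
    (hB : B ≤ pCoreOf 2 H) (hsq : ∀ b ∈ B, b * b = 1) :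
    (centralizer (conjS g V : Set X)).relIndex B ^ 2 ≤
      (centralizer (B : Set X)).relIndex (conjS g V) := by
  have hQ : conjS g⁻¹ B ≤ S := by
    refine le_trans ?_ c.mp.syl.pCoreOf_le
    rw [← mem_normalizer_iff_conjS.1 (le_normalizer_pCoreOf (p := 2) H (H.inv_mem hg))]
    exact conjS_mono hB
  have h := c.vv.q2 (conjS g⁻¹ B) hQ fun b hb => by
    have h1 := hsq _ (mem_conjS.1 hb)
    have e : b * b = g⁻¹ * (g⁻¹⁻¹ * b * g⁻¹ * (g⁻¹⁻¹ * b * g⁻¹)) * g := by group
    rw [e, h1]; group
  rwa [← relIndex_conjS g (centralizer (V : Set X)), ← relIndex_conjS g _ V, conjS_centralizer,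
    conjS_centralizer, conjS_conjS_inv] at h

theorem Co.c2 (c : Co A G S V N H) : nclIn V H ≤ centralizer (nclIn V H : Set X) := by
  have hsq : ∀ g : X, ∀ b ∈ conjS g V, b * b = 1 := fun g b hb => by
    have h1 := c.vv.sq _ (mem_conjS.1 hb)
    have e : b * b = g * (g⁻¹ * b * g * (g⁻¹ * b * g)) * g⁻¹ := by group
    rw [e, h1]; group
  have hQ : ∀ g ∈ H, conjS g V ≤ pCoreOf 2 H := fun g hg => by
    rw [← mem_normalizer_iff_conjS.1 (le_normalizer_pCoreOf (p := 2) H hg)]
    exact conjS_mono c.c1
  refine nclIn_le_iff.2 fun g hg => le_centralizer_iff.1 (nclIn_le_iff.2 fun g' hg' => ?_)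
  have h1 := c.q2_conj hg (hQ g' hg') (hsq g')
  have h2 := c.q2_conj hg' (hQ g hg) (hsq g)
  have h3 : (centralizer (conjS g V : Set X)).relIndex (conjS g' V) ≠ 0 := index_ne_zero_of_finite
  refine relIndex_eq_one.1 ?_
  set r := (centralizer (conjS g V : Set X)).relIndex (conjS g' V)
  set s := (centralizer (conjS g' V : Set X)).relIndex (conjS g V)
  by_contra hne
  have h4 : 2 ≤ r := by omega
  have h5 : 2 * r ≤ s := by nlinarith
  nlinarith

theorem Co.sqU (c : Co A G S V N H) : ∀ x ∈ nclIn V H, x * x = 1 := by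
  have hc := c.c2
  let W : Subgroup X :=
    { carrier := {x | x ∈ nclIn V H ∧ x * x = 1}
      one_mem' := ⟨one_mem _, by simp⟩
      inv_mem' := fun {x} hx => ⟨inv_mem hx.1, by rw [← mul_inv_rev, hx.2, inv_one]⟩
      mul_mem' := fun {x y} hx hy => ⟨mul_mem hx.1 hy.1, by
        have e : x * y = y * x := mem_centralizer_iff.1 (hc hy.1) x hx.1
        calc x * y * (x * y) = x * (y * x) * y := by group
          _ = x * x * (y * y) := by rw [← e]; group
          _ = 1 := by rw [hx.2, hy.2, one_mul]⟩ }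
  have : nclIn V H ≤ W := nclIn_le_iff.2 fun g hg b hb => ⟨conjS_le_nclIn hg hb, by
    have h1 := c.vv.sq _ (mem_conjS.1 hb)
    have e : b * b = g * (g⁻¹ * b * g * (g⁻¹ * b * g)) * g⁻¹ := by group
    rw [e, h1]; group⟩
  exact fun x hx => (this hx).2

/-- One step of the chain count. -/
theorem chain_step {U W B : Subgroup X} (hW : W ≤ U) (hU : U ≤ centralizer (U : Set X)) :
    (centralizer (U : Set X)).relIndex B =
      (centralizer (W : Set X)).relIndex B *
        (centralizer (U : Set X)).relIndex (B ⊓ centralizer (W : Set X)) ∧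
    (centralizer (B : Set X)).relIndex W *
      (centralizer ((B ⊓ centralizer (W : Set X) : Subgroup X) : Set X)).relIndex U ≤
      (centralizer (B : Set X)).relIndex U := by
  have hCW : centralizer (U : Set X) ≤ centralizer (W : Set X) := centralizer_le hW
  constructor
  · have h := relIndex_mul_relIndex ((B ⊓ centralizer (W : Set X)) ⊓ centralizer (U : Set X))
      (B ⊓ centralizer (W : Set X)) B inf_le_left inf_le_left
    rw [inf_relIndex_left, inf_relIndex_left, inf_assoc, inf_relIndex_left, inf_eq_right.2 hCW] at h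
    rw [← h, mul_comm]
  · set C₁ := centralizer ((B ⊓ centralizer (W : Set X) : Subgroup X) : Set X) with hC₁
    have hC : centralizer (B : Set X) ≤ C₁ := centralizer_le (inf_le_left (a := B))
    have h := relIndex_mul_relIndex ((U ⊓ C₁) ⊓ centralizer (B : Set X)) (U ⊓ C₁) U inf_le_left inf_le_left
    rw [inf_relIndex_left, inf_relIndex_left, inf_assoc, inf_relIndex_left, inf_eq_right.2 hC] at h
    rw [← h]
    refine Nat.mul_le_mul_right _ (relIndex_le_of_le_right (le_inf hW ?_) index_ne_zero_of_finite)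
    exact le_centralizer_iff.1 inf_le_right

/-- The chain count. -/
theorem Co.chain (c : Co A G S V N H) {B : Subgroup X} (hB : B ≤ pCoreOf 2 H)
    (hsq : ∀ b ∈ B, b * b = 1) :
    (centralizer (nclIn V H : Set X)).relIndex B ^ 2 ≤
      (centralizer (B : Set X)).relIndex (nclIn V H) := by
  induction hn : Nat.card B using Nat.strong_induction_on generalizing B with
  | _ n ih =>
    by_cases h : B ≤ centralizer (nclIn V H : Set X)
    · rw [relIndex_eq_one.2 h, one_pow]
      exact Nat.one_le_iff_ne_zero.2 index_ne_zero_of_finite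
    · obtain ⟨g, hg, hne⟩ : ∃ g ∈ H, ¬ B ≤ centralizer (conjS g V : Set X) := by
        by_contra h'
        push Not at h'
        exact h (le_centralizer_iff.1 (nclIn_le_iff.2 fun g hg => le_centralizer_iff.1 (h' g hg)))
      obtain ⟨e1, e2⟩ := chain_step (B := B) (conjS_le_nclIn (A := V) hg) c.c2
      have hlt : B ⊓ centralizer (conjS g V : Set X) < B :=
        lt_of_le_of_ne inf_le_left fun e => hne (inf_eq_left.1 e)
      have h1 := ih _ (hn ▸ Set.Finite.card_lt_card (Set.toFinite _) hlt) (inf_le_left.trans hB)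
        (fun b hb => hsq b hb.1) rfl
      rw [e1, mul_pow]
      exact (Nat.mul_le_mul (c.q2_conj hg hB hsq) h1).trans e2

/-- The strict chain count. -/
theorem Co.chain_lt (c : Co A G S V N H) {B : Subgroup X} (hB : B ≤ pCoreOf 2 H)
    (hsq : ∀ b ∈ B, b * b = 1) {g : X} (hg : g ∈ H)
    (hlt : (centralizer (conjS g V : Set X)).relIndex B ^ 2 <
      (centralizer (B : Set X)).relIndex (conjS g V)) :
    (centralizer (nclIn V H : Set X)).relIndex B ^ 2 <
      (centralizer (B : Set X)).relIndex (nclIn V H) := by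
  obtain ⟨e1, e2⟩ := chain_step (B := B) (conjS_le_nclIn (A := V) hg) c.c2
  have h1 := c.chain (B := B ⊓ centralizer (conjS g V : Set X)) (inf_le_left.trans hB) fun b hb => hsq b hb.1
  rw [e1, mul_pow]
  exact (Nat.mul_lt_mul_of_lt_of_le hlt h1 (Nat.pos_of_ne_zero index_ne_zero_of_finite)).trans_le e2

end CfsgLib.Cop
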