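import Cfsg.Agent.Lib.Cop.S1Lin
import Cfsg.Agent.Lib.Cop.S1Quad

/-! COP step 1, package SEC: the linear lemmas for sections (plans/COP-S1.md). -/

set_option autoImplicit false

open Subgroup Cfsg CfsgLib.LAE CfsgLib.ZN CfsgLib.MinS Module
open scoped commutatorElement

universe u

namespace CfsgLib.Cop

variable {X : Type u} [Group X] [Finite X] {A G H E Z : Subgroup X}

section

variable {V : Type u} [AddCommGroup V] [Module (ZMod 2) V] [Finite V]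

omit [Finite X] in
theorem Sx.sec_fit (h : Sx A H E Z) (ho : NoOm A G) (hH : H ≤ G) (hE : E ≤ G)
    (hs : Group.IsSolvable H) (s : Sec (H ⊔ A) E Z V) :
    ∃ F, Red (s.im H) F ∧ ∀ x, ¬ Om F x := by
  have h0 : Group.IsSolvable (s.im H) := by
    rw [← im_secRes s le_sup_left le_rfl]; exact Core.isSolvable_map _ _
  obtain ⟨F, h1, h3, h4, h5, h6⟩ := M1.exists_fit' h0 (h.red V s)
  exact ⟨F, ⟨h1, le_normalizer.trans h3, h4, h5, h6⟩,
    ho H E Z V s F hH hE h.AH h1 ((s.im_le_normalizer h.AH).trans h3) h4 h5⟩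

omit [Finite X] [Finite V] in
theorem Sx.ρ_eq_one (h : Sx A H E Z) (s : Sec (H ⊔ A) E Z V) {g : X} (hg : g ∈ H) :
    s.ρ g = 1 ↔ g ∈ cz E Z :=
  (s.ρ_eq_one_iff (mem_sup_left hg)).trans ⟨fun e => ⟨h.HE hg, h.HZ hg, e⟩, fun e => e.2.2⟩

omit [Finite V] in
theorem red_faithful {Y F B : Subgroup (GLv V)} (hF : Red Y F) (hB : B ≤ Y)
    (hsq : ∀ x ∈ B, x * x = 1) : B ⊓ centralizer (F : Set (GLv V)) = ⊥ :=
  le_bot_iff.1 fun x hx => mem_of_pow_mem_of_coprime (n := 2) (Nat.coprime_two_right.2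
    (hF.odd.of_dvd_nat (orderOf_dvd_natCard _ (hF.cent ⟨hB hx.1, hx.2⟩))))
    (by rw [pow_two, hsq x hx.1]; exact one_mem _)

theorem Sx.td (h : Sx A H E Z) (s : Sec (H ⊔ A) E Z V) {F : Subgroup (GLv V)}
    (hF : Red (s.im H) F) {B B₀ E₀ : Subgroup X} (hB : B ≤ H) (hsq : ∀ b ∈ B, b * b = 1)
    (h0 : B ⊓ cz E Z ≤ B₀) (hZ : Z ≤ E₀) (hE₀ : E₀ ≤ E) (hc : ⁅B, E₀⁆ ≤ Z) :
    ∃ (k : ℕ) (a d : Fin k → GLv V), TD F (s.im B) a d ∧ B₀.relIndex B ≤ 2 ^ k ∧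
      2 ^ (finrank (ZMod 2) V - finrank (ZMod 2) (fxS (s.im B))) ≤ E₀.relIndex E := by
  have hBL : B ≤ H ⊔ A := hB.trans le_sup_left
  have hsq' : ∀ x ∈ s.im B, x * x = 1 := fun x hx => by
    obtain ⟨g, hg, hL, rfl⟩ := s.mem_im.1 hx
    rw [← s.ρ_mul g hL g hL, hsq g hg, s.ρ_one]
  obtain ⟨k, a, d, t⟩ := exists_td hF.odd hF.nilp hsq' ((s.im_mono hB).trans hF.norm)
    (red_faithful hF (s.im_mono hB) hsq')
  refine ⟨k, a, d, t, ?_, ?_⟩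
  · have a1 := s.card_im hBL
    rw [t.card, PLocal.card_eq_relIndex_mul B₀ B] at a1
    have a2 : Nat.card (B ⊓ s.pre ⊥ : Subgroup X) ≤ Nat.card (B₀ ⊓ B : Subgroup X) :=
      PLocal.card_le_card_of_le fun x hx =>
        ⟨h0 ⟨hx.1, (h.ρ_eq_one s (hB hx.1)).1 (s.mem_pre.1 hx.2).2⟩, hx.1⟩
    exact Nat.le_of_mul_le_mul_right (a1.ge.trans (Nat.mul_le_mul_left _ a2)) Nat.card_pos
  · have a1 := s.card_sub hE₀
    have a2 := s.card_E
    have a3 : finrank (ZMod 2) (s.sub E₀) ≤ finrank (ZMod 2) (fxS (s.im B)) :=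
      Submodule.finrank_mono fun v hv => mem_fxS.2 fun x hx => by
        obtain ⟨e, he, he', rfl⟩ := hv
        obtain ⟨g, hg, hL, rfl⟩ := s.mem_im.1 hx
        exact (s.ρ_π_eq_iff hL he').2 (hc (commutator_mem_commutator hg he))
    have a4 : finrank (ZMod 2) (fxS (s.im B)) ≤ finrank (ZMod 2) V := Submodule.finrank_le _
    rw [PLocal.card_eq_relIndex_mul E₀ E, inf_eq_left.2 hE₀, ← a1, inf_eq_right.2 hZ,
      show finrank (ZMod 2) V = finrank (ZMod 2) (s.sub E₀) +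
        (finrank (ZMod 2) V - finrank (ZMod 2) (s.sub E₀)) by omega, pow_add,
      mul_comm, ← mul_assoc] at a2
    rw [Nat.eq_of_mul_eq_mul_left (Nat.mul_pos Nat.card_pos (Nat.two_pow_pos _)) a2]
    exact Nat.pow_le_pow_right (by norm_num) (by omega)

end

omit [Finite X] in
theorem Sx.supE (h : Sx A H E Z) : H ⊔ A ≤ normalizer (E : Set X) := sup_le h.HE h.AE

omit [Finite X] in
theorem Sx.supZ (h : Sx A H E Z) : H ⊔ A ≤ normalizer (Z : Set X) := sup_le h.HZ h.AZ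

/-- `|B : B₀|² ≤ |E : E₀|` if `C_B(E/Z) ≤ B₀` and `B` centralizes `E₀ / Z`. -/
theorem Sx.q2 (h : Sx A H E Z) (ho : NoOm A G) (hH : H ≤ G) (hE : E ≤ G)
    (hs : Group.IsSolvable H) {B B₀ E₀ : Subgroup X} (hB : B ≤ H) (hsq : ∀ b ∈ B, b * b = 1)
    (h0 : B ⊓ cz E Z ≤ B₀) (hZ : Z ≤ E₀) (hE₀ : E₀ ≤ E) (hc : ⁅B, E₀⁆ ≤ Z) :
    B₀.relIndex B ^ 2 ≤ E₀.relIndex E := by
  obtain ⟨V, _, _, _, ⟨s⟩⟩ := exists_sec h.supE h.supZ h.le h.nZ h.sq
  obtain ⟨F, hF, hO⟩ := h.sec_fit ho hH hE hs s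
  obtain ⟨k, a, d, t, h1, h2⟩ := h.td s hF hB hsq h0 hZ hE₀ hc
  have := lin_q2 t hO
  calc _ ≤ (2 ^ k) ^ 2 := Nat.pow_le_pow_left h1 2
    _ ≤ 2 ^ _ := by rw [← pow_mul]; exact Nat.pow_le_pow_right (by norm_num) (by omega)
    _ ≤ _ := h2

/-- The strict inequality inside an invariant quadratic subgroup `B'`. -/
theorem Sx.q3 (h : Sx A H E Z) (hf : NoFix A G) (ho : NoOm A G) (hH : H ≤ G) (hE : E ≤ G)
    (hs : Group.IsSolvable H) {B B' B₀ E₀ : Subgroup X} (hB : B ≤ B') (hB' : B' ≤ H)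
    (hA : A ≤ normalizer (B' : Set X)) (hq : ⁅B', ⁅B', E⁆⁆ ≤ Z) (hsq : ∀ b ∈ B, b * b = 1)
    (hn : ¬ B ≤ cz E Z)
    (h0 : B ⊓ cz E Z ≤ B₀) (hZ : Z ≤ E₀) (hE₀ : E₀ ≤ E) (hc : ⁅B, E₀⁆ ≤ Z) :
    B₀.relIndex B ^ 2 < E₀.relIndex E := by
  obtain ⟨V, _, _, _, ⟨s⟩⟩ := exists_sec h.supE h.supZ h.le h.nZ h.sq
  obtain ⟨F, hF, hO⟩ := h.sec_fit ho hH hE hs s
  obtain ⟨k, a, d, t, h1, h2⟩ := h.td s hF (hB.trans hB') hsq h0 hZ hE₀ hc
  have hq' : cmS ⊤ (s.im B') ≤ fxS (s.im B') := cmS_le_iff.2 fun x hx w _ => mem_fxS.2 fun y hy => by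
    obtain ⟨g, hg, hL, rfl⟩ := s.mem_im.1 hx
    obtain ⟨g', hg', hL', rfl⟩ := s.mem_im.1 hy
    obtain ⟨e, he, rfl⟩ := s.surj w
    rw [← dl_apply, s.dl_π hL he]
    exact (s.ρ_π_eq_iff hL' (s.commutator_mem hL he)).2
      (hq (commutator_mem_commutator hg' (commutator_mem_commutator hg he)))
  have hsq' : ∀ x ∈ s.im B', x * x = 1 := fun x hx => LinearEquiv.ext fun v => by
    have := mem_fxS.1 (cmS_le_iff.1 hq' x hx v trivial) x hx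
    rw [map_sub, sub_eq_sub_iff_add_eq_add, add_self_v, add_eq_zero_v] at this
    exact this
  have hk : 0 < k := Nat.pos_of_ne_zero fun e => hn fun b hb => by
    have := t.card
    rw [e, pow_zero, card_eq_one] at this
    exact (h.ρ_eq_one s (hB' (hB hb))).1
      (mem_bot.1 (this ▸ s.ρ_mem_im hb (mem_sup_left (hB' (hB hb)))))
  have h3 : ∀ x ∈ s.im B, x ≠ 1 → 3 ≤ finrank (ZMod 2) (cm ⊤ x) := fun x hx x1 => by
    by_contra hcon
    obtain ⟨p, hp, p1, hp'⟩ := lin_quad hF.odd ((s.im_mono hB').trans hF.norm)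
      (red_faithful hF (s.im_mono hB') hsq') hO hq' (s.im_mono hB hx) x1 (by omega)
    obtain ⟨b, hb, hL, rfl⟩ := s.mem_im.1 hp
    refine p1 ((h.ρ_eq_one s (hB' hb)).2 (hf (B' ⊓ cz E Z) (inf_le_left.trans (hB'.trans hH))
      (le_normalizer_inf hA (le_normalizer_cz h.AE h.AZ)) b (hH (hB' hb))
      (le_normalizer_inf le_normalizer (hB'.trans (le_normalizer_cz h.HE h.HZ)) hb)
      ⟨mul_mem hb hb, (h.ρ_eq_one s (hB' (mul_mem hb hb))).1 (by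
        rw [s.ρ_mul b hL b hL]; exact hsq' _ hp)⟩ fun x hx => ?_).2)
    have m : ⁅b, x⁆ ∈ B' := commutator_le_left_of_le_normalizer hA (commutator_mem_commutator hb hx)
    refine ⟨m, (h.ρ_eq_one s (hB' m)).1 ?_⟩
    have := hp' _ (s.im_le_normalizer hA (s.ρ_mem_im hx (mem_sup_right hx)))
    rw [s.ρ_commutator hL (mem_sup_right hx), commutatorElement_eq_one_iff_mul_comm]
    rw [mul_inv_eq_iff_eq_mul] at this
    exact this.symm
  have := lin_q3 t hO ((cmS_le_iff.2 fun x hx w _ => mem_fxS.2 fun y hy =>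
    mem_fxS.1 (cmS_le_iff.1 hq' x (s.im_mono hB hx) w trivial) y (s.im_mono hB hy))) hk h3
  calc _ ≤ (2 ^ k) ^ 2 := Nat.pow_le_pow_left h1 2
    _ < 2 ^ _ := by rw [← pow_mul]; exact Nat.pow_lt_pow_right (by norm_num) (by omega)
    _ ≤ _ := h2

end CfsgLib.Cop
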