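import Cfsg.Agent.Lib.Cop.S1C2
import Cfsg.Agent.Lib.Cop.S1Sec

/-! COP step 1, package C3: the count (plans/COP-S1.md). -/

set_option autoImplicit false

open Subgroup Cfsg CfsgLib.LAE CfsgLib.ZN CfsgLib.MinS Module
open scoped commutatorElement

universe u

namespace CfsgLib.Cop

variable {X : Type u} [Group X] [Finite X] {A G S V N H : Subgroup X}

theorem Co.c3_UQ (c : Co A G S V N H) : nclIn V H ≤ pCoreOf 2 H :=
  nclIn_le c.c1 (le_normalizer_pCoreOf H)

theorem Co.c3_AU (c : Co A G S V N H) : A ≤ normalizer (nclIn V H : Set X) :=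
  le_normalizer_nclIn_of_le c.vv.AV c.mp.AH

theorem Co.move (c : Co A G S V N H) :
    ¬ ⁅pResOf 2 H, nclIn V H⁆ ≤ ⁅pCoreOf 2 H, nclIn V H⁆ := by
  intro h
  have hQS := c.mp.syl.pCoreOf_le
  have hY : H ≤ normalizer ((⁅pCoreOf 2 H, nclIn V H⁆ : Subgroup X) : Set X) :=
    le_normalizer_commutator (le_normalizer_pCoreOf H) (le_normalizer_nclIn V H)
  have h1 : nclIn V H ≤ V ⊔ ⁅pCoreOf 2 H, nclIn V H⁆ := by
    refine nclIn_le le_sup_left (c.mp.syl.le_of_pResOf_le (fun x hx => ?_)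
      (le_normalizer_sup c.vv.SV (c.mp.syl.le.trans hY)))
    refine mem_normalizer_of_conjS_le ?_
    rw [conjS_sup, mem_normalizer_iff_conjS.1 (hY (pResOf_le H hx))]
    refine sup_le (conjS_le_iff_forall.2 fun v hv => ?_) le_sup_right
    rw [show x * v * x⁻¹ = ⁅x, v⁆ * v by simp only [commutatorElement_def]; group]
    exact mul_mem (mem_sup_right (h (commutator_mem_commutator hx (le_nclIn V H hv))))
      (mem_sup_left hv)
  have hn : pCoreOf 2 H ≤ normalizer (nclIn V H : Set X) :=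
    (pCoreOf_le H).trans (le_normalizer_nclIn V H)
  have h2 : ∀ n, nclIn V H ≤ V ⊔ iterCommutator (nclIn V H) (pCoreOf 2 H) n := by
    intro n
    induction n with
    | zero => exact le_sup_right
    | succ n ih =>
      refine h1.trans (sup_le le_sup_left (commutator_le.2 fun q hq u hu => ?_))
      obtain ⟨v, hv, i, hi, rfl⟩ := (mem_sup_iff_of_left_le_normalizer
        (((le_nclIn V H).trans (c.c2.trans (centralizer_anti (iterCommutator_le hn n)))).trans
          (centralizer_le_normalizer _))).1 (ih hu)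
      rw [show ⁅q, v * i⁆ = q * v * q⁻¹ * ⁅i, q⁆⁻¹ * v⁻¹ by simp only [commutatorElement_def]; group]
      exact mul_mem (mul_mem (mem_sup_left (conj_mem_of_mem_normalizer (c.vv.SV (hQS hq)) hv))
        (mem_sup_right (inv_mem (commutator_mem_commutator hi hq)))) (mem_sup_left (inv_mem hv))
  obtain ⟨n, hn0⟩ := exists_iterCommutator_eq_bot_of_isPGroup
    ((isPGroup_pCoreOf H).to_le c.c3_UQ) (isPGroup_pCoreOf H) hn
  have h3 := h2 n
  rw [hn0, sup_bot_eq] at h3
  refine c.mp.not_le ((le_inf le_rfl ?_).trans c.NV)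
  rw [← le_antisymm h3 (le_nclIn V H)]
  exact le_normalizer_nclIn V H

theorem Co.exists_max (c : Co A G S V N H) :
    ∃ A₀ ∈ PLocal.maxElemIn 2 S, ¬ A₀ ≤ pCoreOf 2 H := by
  by_contra h
  push Not at h
  have h1 := PLocal.thompsonSubgroupOf_eq_of_le c.mp.syl.pCoreOf_le
    (PLocal.thompsonSubgroupOf_le_iff.2 h)
  refine c.mp.not_le ((le_inf le_rfl ?_).trans c.NJ)
  rw [← h1]
  exact (le_normalizer_pCoreOf H).trans (PLocal.normalizer_le_normalizer_thompsonSubgroupOf _)

theorem c3_off {A₀ U : Subgroup X} (h0 : A₀ ∈ PLocal.maxElemIn 2 S) (hU : U ≤ S)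
    (he : IsElementaryAbelian 2 U) :
    (centralizer (A₀ : Set X)).relIndex U ≤ (centralizer (U : Set X)).relIndex A₀ := by
  have h1 := h0.2.2 (centralizer (U : Set X) ⊓ A₀ ⊔ U) (sup_le (inf_le_right.trans h0.1) hU)
    (PLocal.elemAb_sup (PLocal.elemAb_mono h0.2.1 inf_le_right) he inf_le_left)
  have h2 := PLocal.card_sup_mul_card_inf (A := centralizer (U : Set X) ⊓ A₀) (B := U)
    (inf_le_left.trans (centralizer_le_normalizer _))
  have h3 : Nat.card (centralizer (U : Set X) ⊓ A₀ ⊓ U : Subgroup X) ≤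
      Nat.card (centralizer (A₀ : Set X) ⊓ U : Subgroup X) := PLocal.card_le_card_of_le
    (inf_le_inf_right _ (inf_le_right.trans (PLocal.elemAb_le_centralizer h0.2.1)))
  have h4 := Nat.mul_le_mul h1 h3
  rw [h2, PLocal.card_eq_relIndex_mul (centralizer (A₀ : Set X)) U,
    PLocal.card_eq_relIndex_mul (centralizer (U : Set X)) A₀, ← mul_assoc, mul_comm (Nat.card _)] at h4
  exact Nat.le_of_mul_le_mul_right (Nat.le_of_mul_le_mul_right h4 Nat.card_pos) Nat.card_pos

/-- The count: `O²(H)` centralizes `[U, Q]`, and `A₀ ∩ Q` does not centralize `U`. -/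
theorem Co.count (c : Co A G S V N H) {A₀ : Subgroup X} (h0 : A₀ ∈ PLocal.maxElemIn 2 S)
    (h1 : ¬ A₀ ≤ pCoreOf 2 H) :
    pResOf 2 H ≤ centralizer ((⁅pCoreOf 2 H, nclIn V H⁆ : Subgroup X) : Set X) ∧
      ¬ A₀ ⊓ pCoreOf 2 H ≤ centralizer (nclIn V H : Set X) ∧
      (centralizer ((A₀ ⊓ pCoreOf 2 H : Subgroup X) : Set X)).relIndex (nclIn V H) ≤
        (centralizer (nclIn V H : Set X)).relIndex (A₀ ⊓ pCoreOf 2 H) ^ 2 := by
  have m := c.mp
  have hQS := m.syl.pCoreOf_le
  have HU := le_normalizer_nclIn V H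
  have hUH : nclIn V H ≤ H := c.c3_UQ.trans (pCoreOf_le H)
  have hsq : ∀ b ∈ A₀, b * b = 1 := fun b hb => by
    rw [← pow_two]; exact (PLocal.elemAb_iff.1 h0.2.1).2 b hb
  have hAH : A₀ ≤ H := h0.1.trans m.syl.le
  have nz : ∀ K L : Subgroup X, K.relIndex L ≠ 0 := fun K L => index_ne_zero_of_finite
  have s0 : A₀ ⊓ centralizer (nclIn V H : Set X) ≤ pCoreOf 2 H := by
    rcases m.normal (D := H ⊓ centralizer (nclIn V H : Set X)) inf_le_left
      (le_normalizer_inf le_normalizer (le_normalizer_centralizer HU))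
      (le_normalizer_inf m.AH (le_normalizer_centralizer c.c3_AU)) with h | h
    · exact absurd (((commutator_eq_bot_iff_le_centralizer).2 (h.trans inf_le_right)).le.trans bot_le)
        c.move
    · exact fun x hx => h.2 ⟨⟨hAH hx.1, hx.2⟩, h0.1 hx.1⟩
  have e1 : (centralizer (nclIn V H : Set X)).relIndex (A₀ ⊓ pCoreOf 2 H) *
      (pCoreOf 2 H).relIndex A₀ = (centralizer (nclIn V H : Set X)).relIndex A₀ := by
    have := relIndex_mul_relIndex (A₀ ⊓ pCoreOf 2 H ⊓ centralizer (nclIn V H : Set X))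
      (A₀ ⊓ pCoreOf 2 H) A₀ inf_le_left inf_le_left
    rwa [inf_relIndex_left, inf_relIndex_left, inf_right_comm, inf_eq_left.2 s0,
      inf_relIndex_left] at this
  have e2 := c3_off h0 (c.c3_UQ.trans hQS) (PLocal.elemAb_iff.2
    ⟨fun a ha b hb => c.c2 hb a ha, fun a ha => by rw [pow_two]; exact c.sqU a ha⟩)
  have e3 := c.chain (B := A₀ ⊓ pCoreOf 2 H) inf_le_right fun b hb => hsq b hb.1
  have e4 : (centralizer ((A₀ ⊓ pCoreOf 2 H : Subgroup X) : Set X)).relIndex (nclIn V H) ≤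
      (centralizer (A₀ : Set X)).relIndex (nclIn V H) :=
    relIndex_le_of_le_left (centralizer_anti inf_le_left) (nz _ _)
  obtain ⟨Z, E, z1, hE, sx, hn⟩ := exists_chief ((isPGroup_pCoreOf H).to_le c.c3_UQ) hUH m.AH HU
    c.c3_AU (commutator_le_right_of_le_normalizer ((pCoreOf_le H).trans HU))
    (le_normalizer_commutator (le_normalizer_pCoreOf H) HU)
    (le_normalizer_commutator (le_normalizer_pCoreOf_of_le m.AH) c.c3_AU) c.move
  have e5 := sx.q2 c.om c.HG (hE.trans (hUH.trans c.HG)) c.solv (B₀ := pCoreOf 2 H)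
    (E₀ := Z ⊔ E ⊓ centralizer (A₀ : Set X)) hAH hsq
    ((inf_le_inf_right _ h0.1).trans (m.cz_le sx hn)) le_sup_left (sup_le sx.le inf_le_left)
    (commutator_le.2 fun a ha x hx => by
      obtain ⟨z, hz, y, hy, rfl⟩ :=
        (mem_sup_iff_of_right_le_normalizer (inf_le_left.trans sx.nZ)).1 hx
      rw [show ⁅a, z * y⁆ = a * z * a⁻¹ * (a * y * a⁻¹ * y⁻¹) * z⁻¹ by
        simp only [commutatorElement_def]; group, hy.2 a ha, mul_inv_cancel_right, mul_inv_cancel,
        mul_one]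
      exact mul_mem (conj_mem_of_mem_normalizer (sx.HZ (hAH ha)) hz) (inv_mem hz))
  have e6 := relIndex_mul_relIndex (E ⊓ centralizer (A₀ : Set X)) (Z ⊔ E ⊓ centralizer (A₀ : Set X)) E
    le_sup_right (sup_le sx.le inf_le_left)
  rw [inf_relIndex_left] at e6
  have e7 : (centralizer (A₀ : Set X)).relIndex Z ≤
      (E ⊓ centralizer (A₀ : Set X)).relIndex (Z ⊔ E ⊓ centralizer (A₀ : Set X)) :=
    (relIndex_le_of_le_left inf_le_right (nz _ _)).trans (relIndex_le_of_le_right le_sup_left (nz _ _))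
  have e8 : (centralizer (A₀ : Set X)).relIndex E ≤ (centralizer (A₀ : Set X)).relIndex (nclIn V H) :=
    relIndex_le_of_le_right hE (nz _ _)
  have e9 := (Nat.mul_le_mul e7 e5).trans (e6.le.trans (e8.trans (e2.trans e1.ge)))
  have p1 := Nat.pos_of_ne_zero (nz (pCoreOf 2 H) A₀)
  have p2 := Nat.pos_of_ne_zero (nz (centralizer (nclIn V H : Set X)) (A₀ ⊓ pCoreOf 2 H))
  have p3 := Nat.pos_of_ne_zero (nz (centralizer (A₀ : Set X)) Z)
  have f1 := e3.trans (e4.trans (e2.trans e1.ge))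
  rw [pow_two] at f1
  have f2 := Nat.le_of_mul_le_mul_left f1 p2
  rw [pow_two, ← mul_assoc] at e9
  have f3 := Nat.le_of_mul_le_mul_right e9 p1
  have f4 := (Nat.le_mul_of_pos_left _ p3).trans f3
  have f5 : (centralizer (A₀ : Set X)).relIndex Z = 1 :=
    le_antisymm (Nat.le_of_mul_le_mul_right (f3.trans (f2.trans (one_mul _).ge)) p1) p3
  refine ⟨?_, fun h => h1 (relIndex_eq_one.1 (le_antisymm (f4.trans (relIndex_eq_one.2 h).le) p1)),
    e4.trans (e2.trans (e1.ge.trans ?_))⟩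
  · rcases m.normal (D := H ⊓ centralizer (Z : Set X)) inf_le_left
      (le_normalizer_inf le_normalizer (le_normalizer_centralizer sx.HZ))
      (le_normalizer_inf m.AH (le_normalizer_centralizer sx.AZ)) with h | h
    · exact h.trans (inf_le_right.trans (centralizer_anti z1))
    · exact absurd (fun x hx => h.2 ⟨⟨hAH hx, le_centralizer_iff.1 (relIndex_eq_one.1 f5) hx⟩,
        h0.1 hx⟩) h1
  · rw [pow_two]
    exact Nat.mul_le_mul_left _ f4

end CfsgLib.Cop
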