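import Cfsg.Agent.Lib.Cop.S1Fit

/-! COP step 1, package CHF: minimal parabolics and chief factors (plans/COP-S1.md). -/

set_option autoImplicit false

open Subgroup Cfsg CfsgLib.LAE CfsgLib.ZN CfsgLib.MinS Module
open scoped commutatorElement

universe u

namespace CfsgLib.Cop

variable {X : Type u} [Group X] [Finite X] {A S N H : Subgroup X}

theorem MP.normal (m : MP A S N H) {D : Subgroup X} (hD : D ≤ H)
    (hn : H ≤ normalizer (D : Set X)) (hA : A ≤ normalizer (D : Set X)) :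
    pResOf 2 H ≤ D ∨ (D ≤ N ∧ D ⊓ S ≤ pCoreOf 2 H) := by
  have hS := m.syl
  by_cases h : D ≤ N
  · right
    refine ⟨h, ?_⟩
    have h1 := hS.inf_of_normal hD hn
    have h2 := h1.frattini_sup hD hn
    have h3 : H ⊓ normalizer ((S ⊓ D : Subgroup X) : Set X) = H := by
      refine m.min _ (le_inf hS.le (le_normalizer_inf Subgroup.le_normalizer
        (hS.le.trans hn))) inf_le_left (le_normalizer_inf m.AH
          ((le_normalizer_inf m.AS hA).trans (normalizer_le_normalizer_normalizer _)))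
        fun h4 => m.not_le ?_
      rw [← h2]; exact sup_le h h4
    rw [inf_comm]
    exact le_pCoreOf h1.isPGroup (inf_le_left.trans hS.le) (h3.ge.trans inf_le_right)
  · left
    have h1 : S ⊔ D = H := m.min _ le_sup_left (sup_le hS.le hD) (le_normalizer_sup m.AS hA)
      fun h2 => h (le_sup_right.trans h2)
    rw [← h1, pResOf_sup_of_isPGroup hS.isPGroup (hS.le.trans hn)]
    exact pResOf_le D

theorem MP.res_not_le (m : MP A S N H) : ¬ pResOf 2 H ≤ N := fun h =>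
  m.not_le (m.syl.le_of_pResOf_le h m.SN)

/-- If `O²(H)` moves the invariant section `E / Z`, its centralizer in `S` lies in `O₂(H)`. -/
theorem MP.cz_le (m : MP A S N H) {E Z : Subgroup X} (h : Sx A H E Z)
    (hn : ¬ ⁅pResOf 2 H, E⁆ ≤ Z) : S ⊓ cz E Z ≤ pCoreOf 2 H := by
  rcases m.normal (D := H ⊓ cz E Z) inf_le_left
    (le_normalizer_inf le_normalizer (le_normalizer_cz h.HE h.HZ))
    (le_normalizer_inf m.AH (le_normalizer_cz h.AE h.AZ)) with h1 | h1
  · exact absurd (le_cz_iff.1 (h1.trans inf_le_right)).2.2 hn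
  · exact fun x hx => h1.2 ⟨⟨m.syl.le hx.1, hx.2⟩, hx.1⟩

/-- A noncentral chief factor between `P₁` and `P`. -/
theorem exists_chief {P P₁ : Subgroup X} (hP : IsPGroup 2 P) (hPH : P ≤ H)
    (AH : A ≤ normalizer (H : Set X)) (HP : H ≤ normalizer (P : Set X))
    (AP : A ≤ normalizer (P : Set X)) (h1 : P₁ ≤ P) (H1 : H ≤ normalizer (P₁ : Set X))
    (A1 : A ≤ normalizer (P₁ : Set X)) (hn : ¬ ⁅pResOf 2 H, P⁆ ≤ P₁) :
    ∃ Z E : Subgroup X, P₁ ≤ Z ∧ E ≤ P ∧ Sx A H E Z ∧ ¬ ⁅pResOf 2 H, E⁆ ≤ Z := by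
  obtain ⟨Z, ⟨z1, z2, z3, z4, z5⟩, zm⟩ := exists_maximal_of_wellFoundedGT
    (fun Z : Subgroup X => P₁ ≤ Z ∧ Z ≤ P ∧ H ≤ normalizer (Z : Set X) ∧
      A ≤ normalizer (Z : Set X) ∧ ¬ ⁅pResOf 2 H, P⁆ ≤ Z) ⟨P₁, le_rfl, h1, H1, A1, hn⟩
  have hc : ⁅pResOf 2 H, P⁆ ≤ P := commutator_le_right_of_le_normalizer ((pResOf_le H).trans HP)
  obtain ⟨E, ⟨e1, e2, e3, e4, e5⟩, em⟩ := exists_minimal_of_wellFoundedLT
    (fun E : Subgroup X => Z ≤ E ∧ E ≤ P ∧ H ≤ normalizer (E : Set X) ∧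
      A ≤ normalizer (E : Set X) ∧ ¬ E ≤ Z) ⟨P, z2, le_rfl, HP, AP, fun h => z5 (hc.trans h)⟩
  have irr : ∀ W : Subgroup X, Z ≤ W → W ≤ E → H ≤ normalizer (W : Set X) →
      A ≤ normalizer (W : Set X) → W = Z ∨ W = E := fun W w1 w2 w3 w4 => by
    by_cases h : W ≤ Z
    · exact Or.inl (le_antisymm h w1)
    · exact Or.inr (le_antisymm w2 (em ⟨w1, w2.trans e2, w3, w4, h⟩ w2))
  have hEH : E ≤ H := e2.trans hPH
  have nZ : E ≤ normalizer (Z : Set X) := hEH.trans z3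
  have hE2 : IsPGroup 2 E := hP.to_le e2
  refine ⟨Z, E, z1, e2, sx_of_irr e1 nZ ?_ e3 z3 AH e4 z4 irr, fun h => ?_⟩
  · let W : Subgroup X :=
      { carrier := {e | e ∈ E ⊓ cz E Z ∧ e * e ∈ Z}
        one_mem' := ⟨one_mem _, by simp⟩
        inv_mem' := fun {x} hx => ⟨inv_mem hx.1, by rw [← mul_inv_rev]; exact inv_mem hx.2⟩
        mul_mem' := fun {x y} hx hy => ⟨mul_mem hx.1 hy.1, by
          have : x * y * (x * y) = x * x * (x⁻¹ * ⁅y, x⁆ * x) * (y * y) := by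
            simp only [commutatorElement_def]; group
          rw [this]
          exact mul_mem (mul_mem hx.2 (conj_inv_mem_of_mem_normalizer (nZ hx.1.1)
            (hy.1.2.2.2 x hx.1.1))) hy.2⟩ }
    have hWn : ∀ L : Subgroup X, L ≤ normalizer (E : Set X) → L ≤ normalizer (Z : Set X) →
        L ≤ normalizer (W : Set X) := fun L l1 l2 l hl =>
      mem_normalizer_of_conjS_le (conjS_le_iff_forall.2 fun g hg =>
        ⟨conj_mem_of_mem_normalizer (le_normalizer_inf l1 (le_normalizer_cz l1 l2) hl) hg.1, by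
          have : l * g * l⁻¹ * (l * g * l⁻¹) = l * (g * g) * l⁻¹ := by group
          rw [this]; exact conj_mem_of_mem_normalizer (l2 hl) hg.2⟩)
    have hZW : Z ≤ W := fun z hz => ⟨⟨e1 hz, le_normalizer (e1 hz), le_normalizer hz,
      fun e he => by
        rw [commutatorElement_def, mul_assoc, mul_assoc, ← mul_assoc e]
        exact mul_mem hz (conj_mem_of_mem_normalizer (nZ he) (inv_mem hz))⟩, mul_mem hz hz⟩
    rcases irr W hZW (fun x hx => hx.1.1) (hWn H e3 z3) (hWn A e4 z4) with h | h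
    · exfalso
      obtain ⟨n, hn⟩ := exists_iterCommutator_eq_bot_of_isPGroup hE2 hE2 le_normalizer
      obtain ⟨v, v1, v2, v3⟩ := exists_mem_not_mem_commutator_mem le_normalizer hn e5
      have hv : v ∈ E ⊓ cz E Z := ⟨v1, le_normalizer v1, nZ v1, v3⟩
      obtain ⟨k, hk⟩ := hE2 ⟨v, v1⟩
      have hk' : v ^ 2 ^ k ∈ Z := by
        rw [show v ^ 2 ^ k = 1 from congrArg Subtype.val hk]; exact one_mem _
      clear hk
      induction k with
      | zero => exact v2 (by simpa using hk')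
      | succ k ih =>
        refine ih (h.le ⟨pow_mem hv _, ?_⟩)
        rwa [← pow_add, ← two_mul, ← pow_succ']
    · exact fun e he => (h.ge he : e ∈ W).2
  · have h2 : ⁅pResOf 2 H, P⁆ ≤ E := by
      by_contra h3
      exact e5 (zm ⟨z1.trans e1, e2, e3, e4, h3⟩ e1)
    apply z5
    rw [commutator_comm, ← commutator_pResOf_commutator' hP HP, commutator_comm _ (pResOf 2 H),
      commutator_comm P]
    exact (commutator_mono le_rfl h2).trans h

/-- One dihedral group modulo the normal 2-subgroup `Q`. -/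
theorem td1_mod {Q F D B : Subgroup X} (hQ : IsSylowIn 2 Q F) (hF : F ≤ H)
    (HQ : H ≤ normalizer (Q : Set X)) (HF : H ≤ normalizer (F : Set X))
    (HD : H ≤ normalizer (D : Set X)) (hQD : Q ≤ D) (hB : B ≤ H) (hsq : ∀ x ∈ B, x * x = 1)
    {a : X} (ha : a ∈ B) (hex : ∃ f ∈ F, ⁅f, a⁆ ∉ D) :
    ∃ B₁ : Subgroup X, B₁ ≤ B ∧ B₁.relIndex B = 2 ∧ a ∉ B₁ ∧ B ⊓ Q ≤ B₁ ∧
      ∃ d ∈ F, d ∉ D ∧ Odd (orderOf d) ∧ a * d * a⁻¹ = d⁻¹ ∧
        d ∈ normalizer ((Q ⊔ B₁ : Subgroup X) : Set X) := by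
  have hQP : Q ≤ H := hQ.le.trans hF
  have hQn : (Q.subgroupOf H).Normal := normal_subgroupOf_of_le HQ
  let φ := QuotientGroup.mk' (Q.subgroupOf H)
  have hφ : ∀ x : H, φ x = 1 ↔ (x : X) ∈ Q := fun x => QuotientGroup.eq_one_iff x
  have hmem : ∀ {Y : Subgroup X}, Q ≤ Y → ∀ x : H, φ x ∈ (Y.subgroupOf H).map φ ↔ (x : X) ∈ Y := by
    intro Y hY x
    refine ⟨fun ⟨y, hy, e⟩ => ?_, fun hx => ⟨x, hx, rfl⟩⟩
    have h1 : φ (y⁻¹ * x) = 1 := by rw [map_mul, map_inv, e, inv_mul_cancel]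
    have h2 := hY ((hφ _).1 h1)
    exact (Y.mul_mem_cancel_left (Y.inv_mem hy)).1 h2
  have hNn : (F.subgroupOf H).Normal := normal_subgroupOf_of_le HF
  have hN0 : (D.subgroupOf H).Normal := normal_subgroupOf_of_le HD
  have hFn : ((F.subgroupOf H).map φ).Normal := hNn.map φ (QuotientGroup.mk'_surjective _)
  have hF0 : ((D.subgroupOf H).map φ).Normal := hN0.map φ (QuotientGroup.mk'_surjective _)
  have hodd : Odd (Nat.card ((F.subgroupOf H).map φ)) := by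
    rw [← relIndex_ker, QuotientGroup.ker_mk', relIndex_subgroupOf hF, ← Nat.not_even_iff_odd,
      even_iff_two_dvd]
    exact hQ.not_dvd_relIndex
  obtain ⟨f, hf, hfa⟩ := hex
  obtain ⟨C, hC, hCi, haC, d, hd, hd0, hdc, hdi⟩ := exists_td1 (F := (F.subgroupOf H).map φ)
    (F₀ := (D.subgroupOf H).map φ) (A := (B.subgroupOf H).map φ) hodd
    (by
      rintro _ ⟨x, hx, rfl⟩
      rw [← map_mul, show x * x = 1 from Subtype.ext (hsq x hx), map_one])
    (by rw [normalizer_eq_top]; exact le_top) (by rw [normalizer_eq_top]; exact le_top)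
    (a₀ := φ ⟨a, hB ha⟩) ⟨_, ha, rfl⟩
    ⟨φ ⟨f, hF hf⟩, ⟨_, hf, rfl⟩, by
      rw [← map_commutatorElement, hmem hQD]; exact hfa⟩
  obtain ⟨g, hg, rfl⟩ := hd
  have hgo : Odd (orderOf (φ g)) :=
    hodd.of_dvd_nat (orderOf_dvd_natCard _ (⟨g, hg, rfl⟩ : φ g ∈ (F.subgroupOf H).map φ))
  obtain ⟨y, -, hy1, hy2, hy3, -⟩ := lift_inv φ (t := ⟨a, hB ha⟩) (g := g)
    (Subtype.ext (hsq a ha)) hgo (hdi _ ⟨_, ha, rfl⟩ haC)
  have hyo : Odd (orderOf (y : X)) := by rwa [orderOf_coe]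
  have hsub : (B ⊓ (C.comap φ).map H.subtype).subgroupOf H = B.subgroupOf H ⊓ C.comap φ := by
    rw [subgroupOf, comap_inf, comap_map_eq_self_of_injective H.subtype_injective]; rfl
  refine ⟨B ⊓ (C.comap φ).map H.subtype, inf_le_left, ?_, ?_, ?_, y,
    (hmem hQ.le y).1 (by rw [hy1]; exact ⟨g, hg, rfl⟩), ?_, hyo, congrArg Subtype.val hy3, ?_⟩
  · rw [← relIndex_subgroupOf hB, hsub, inf_relIndex_left, relIndex_comap, hCi]
  · rintro ⟨-, x, hx, e⟩
    have : x = ⟨a, hB ha⟩ := Subtype.ext e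
    exact haC (this ▸ hx)
  · rintro x ⟨hxA, hxQ⟩
    refine ⟨hxA, ⟨x, hB hxA⟩, ?_, rfl⟩
    show φ ⟨x, hB hxA⟩ ∈ C
    rw [(hφ _).2 hxQ]; exact C.one_mem
  · intro hyM
    apply hd0
    rw [← hy1, hmem hQD]
    exact hyM
  · refine mem_normalizer_of_conjS_le ?_
    rw [conjS_sup, mem_normalizer_iff_conjS.1 (HQ y.2)]
    refine sup_le le_sup_left (conjS_le_iff_forall.2 fun v hv => ?_)
    have e : (y : X) * v * (y : X)⁻¹ = ⁅(y : X), v⁆ * v := by
      simp only [commutatorElement_def]; group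
    rw [e]
    refine mul_mem (mem_sup_left ?_) (mem_sup_right hv)
    obtain ⟨-, v, hv, rfl⟩ := hv
    refine (hφ ⁅y, v⁆).1 ?_
    rw [map_commutatorElement, hy1, commutatorElement_eq_one_iff_mul_comm]
    exact (hdc _ hv).symm

end CfsgLib.Cop
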