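import Cfsg.Agent.Lib.Cop.S1Defs
import Cfsg.Agent.Lib.Cop.Sup
import Cfsg.Agent.Lib.FT.OddOrder

/-! COP step 1, package NCO: the hypotheses for coprime action and for nilpotent
fixed-point-free action (plans/COP-S1.md). -/

set_option autoImplicit false

open Subgroup Cfsg CfsgLib.LAE CfsgLib.ZN CfsgLib.MinS Module
open scoped commutatorElement

universe u

namespace CfsgLib.Cop

section Lin

variable {V : Type*} [AddCommGroup V] [Module (ZMod 2) V] [Finite V]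
variable {F B : Subgroup (GLv V)} {x : GLv V}

/-- A vector of `[V, x]` fixed by the stabilizer gives a vector fixed by the whole group. -/
theorem om_fix (hodd : Odd (Nat.card F)) (hn : Group.IsNilpotent F)
    (hB : B ≤ normalizer (F : Set (GLv V))) (hx : Om F x) {w : V} (hw : w ∈ cm ⊤ x) (w0 : w ≠ 0)
    (h : ∀ α ∈ B, (α * x * α⁻¹ = x ∨ α * x * α⁻¹ = x⁻¹) → α w = w) :
    ∃ u : V, u ≠ 0 ∧ ∀ α ∈ B, α u = u := by
  classical
  let O : Finset V := (Set.toFinite {v : V | ∃ α ∈ B, α w = v}).toFinset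
  have hO : ∀ v, v ∈ O ↔ ∃ α ∈ B, α w = v := fun v => Set.Finite.mem_toFinset _
  refine ⟨∑ v ∈ O, v, fun h0 => w0 ?_, fun α hα => ?_⟩
  · let P : V →ₗ[ZMod 2] V := (x : V →ₗ[ZMod 2] V) + ((x * x : GLv V) : V →ₗ[ZMod 2] V)
    have hP : ∀ v, P v = x v + x (x v) := fun v => rfl
    have h1 : P (∑ v ∈ O, v) = P w := by
      rw [map_sum]
      refine Finset.sum_eq_single_of_mem w ((hO w).2 ⟨1, one_mem _, rfl⟩) fun v hv hne => ?_
      obtain ⟨α, hα, rfl⟩ := (hO v).1 hv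
      obtain ⟨h2, h3⟩ := Om.conj hB hx hα
      rcases Om.pair hodd hn hx h2 with h4 | h4
      · exact absurd (h α hα h4) hne
      · have h5 : x (α w) = α w := mem_fx.1 (h4.2.1 (h3 ▸ Submodule.mem_map_of_mem hw))
        rw [hP, h5, h5, add_self_v]
    rw [h0, map_zero, hP, hx.sq hw, add_comm w, ← add_assoc, add_self_v, zero_add] at h1
    exact h1.symm
  · rw [map_sum]
    refine Finset.sum_nbij' (fun v => α v) (fun v => α⁻¹ v) (fun v hv => ?_) (fun v hv => ?_)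
      (fun v _ => ginv α v) (fun v _ => ginv' α v) (fun v _ => rfl)
    · obtain ⟨β, hβ, rfl⟩ := (hO v).1 hv
      exact (hO _).2 ⟨α * β, mul_mem hα hβ, rfl⟩
    · obtain ⟨β, hβ, rfl⟩ := (hO v).1 hv
      exact (hO _).2 ⟨α⁻¹ * β, mul_mem (inv_mem hα) hβ, rfl⟩

theorem om_exists (hx : Om F x) : ∃ w ∈ cm ⊤ x, w ≠ 0 ∧ x w ≠ w := by
  obtain ⟨w, hw, h⟩ := SetLike.not_le_iff_exists.1 hx.not_le
  exact ⟨w, hw, fun e => h (e ▸ Submodule.zero_mem _), fun e => h (mem_fx.2 e)⟩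

/-- If no operator inverts `x`, the product of the orbit of `x` is a fixed element. -/
theorem om_cent (hodd : Odd (Nat.card F)) (hn : Group.IsNilpotent F)
    (hB : B ≤ normalizer (F : Set (GLv V))) (hx : Om F x)
    (h : ∀ α ∈ B, α * x * α⁻¹ ≠ x⁻¹) :
    ∃ p ∈ F, p ≠ 1 ∧ ∀ α ∈ B, α * p * α⁻¹ = p := by
  classical
  let O : Finset (GLv V) := (Set.toFinite {y : GLv V | ∃ α ∈ B, α * x * α⁻¹ = y}).toFinset
  have hO : ∀ y, y ∈ O ↔ ∃ α ∈ B, α * x * α⁻¹ = y := fun v => Set.Finite.mem_toFinset _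
  have hom : ∀ y ∈ O, Om F y := fun y hy => by
    obtain ⟨α, hα, rfl⟩ := (hO y).1 hy
    exact (Om.conj hB hx hα).1
  have hc : {y | y ∈ O.1}.Pairwise Commute := fun y hy z hz _ =>
    Om.comm hn (hom y hy) (hom z hz)
  have hxO : x ∈ O.1 := (hO x).2 ⟨1, one_mem _, by simp⟩
  refine ⟨O.1.noncommProd hc, F.multiset_noncommProd_mem _ _ fun y hy => (hom y hy).mem,
    fun e => ?_, fun α hα => ?_⟩
  · obtain ⟨w, hw, -, hxw⟩ := om_exists hx
    rw [← Multiset.mul_noncommProd_erase _ hxO] at e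
    have h1 : (O.1.erase x).noncommProd (hc.mono fun _ => Multiset.mem_of_mem_erase) ∈
        MulAction.stabilizer (GLv V) w := by
      refine multiset_noncommProd_mem _ _ _ fun y hy => ?_
      obtain ⟨hne, hy⟩ := (O.nodup.mem_erase_iff).1 hy
      rcases Om.pair hodd hn hx (hom y hy) with (h4 | h4) | h4
      · exact absurd h4 hne
      · obtain ⟨α, hα, rfl⟩ := (hO y).1 hy
        exact absurd h4 (h α hα)
      · exact mem_fx.1 (h4.1 hw)
    have h2 := congrArg (fun g : GLv V => g w) e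
    simp only [gmul, gone] at h2
    have h3 : ((O.1.erase x).noncommProd (hc.mono fun _ => Multiset.mem_of_mem_erase)) w = w := h1
    rw [h3] at h2
    exact hxw h2
  · have h1 := Multiset.map_noncommProd O.1 hc (MulAut.conj α)
    have h2 : O.1.map (MulAut.conj α) = O.1 := by
      have h3 : O.map ⟨MulAut.conj α, (MulAut.conj α).injective⟩ = O := by
        refine Finset.eq_of_subset_of_card_le (fun y hy => ?_) (by rw [Finset.card_map])
        obtain ⟨z, hz, rfl⟩ := Finset.mem_map.1 hy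
        obtain ⟨β, hβ, rfl⟩ := (hO z).1 hz
        refine (hO _).2 ⟨α * β, mul_mem hα hβ, ?_⟩
        simp only [Function.Embedding.coeFn_mk, MulAut.conj_apply]
        group
      exact congrArg Finset.val h3
    rw [MulAut.conj_apply] at h1
    rw [h1]
    congr 1

theorem om_three (hx : Om F x) {w v : V} (hw : w ∈ cm ⊤ x) (w0 : w ≠ 0) (hv : v ∈ cm ⊤ x)
    (v0 : v ≠ 0) : v = w ∨ v = x w ∨ v = x⁻¹ w := by
  have hxw : x w ∈ cm ⊤ x := (Inv.top x).cm_self w hw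
  have h1 : x w ≠ w := fun e =>
    w0 ((Submodule.mem_bot _).1 (hx.fpf ▸ Submodule.mem_inf.2 ⟨hw, mem_fx.2 e⟩))
  have h2 : x⁻¹ w = w + x w := by
    rw [← hx.sq hw]
    conv_lhs => rw [← hx.cube_apply w, ginv]
  rw [h2]
  rcases two_dim hx.rk hw hxw w0 (fun e => w0 (x.map_eq_zero_iff.1 e)) h1 hv with h | h
  · exact absurd h v0
  · exact h

theorem om_inv_cm (hx : Om F x) {α : GLv V} (h : α * x * α⁻¹ = x ∨ α * x * α⁻¹ = x⁻¹) {w : V}
    (hw : w ∈ cm ⊤ x) : α w ∈ cm ⊤ x := by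
  have h1 : α w ∈ cm ⊤ (α * x * α⁻¹) := by
    rw [cm_top_conj]
    exact Submodule.mem_map_of_mem hw
  rcases h with h | h
  · rwa [h] at h1
  · rwa [h, cm_top_inv] at h1

/-- Operators of order prime to six fix `[V, x]` if they normalize `⟨x⟩`. -/
theorem om_fix_of_coprime (hx : Om F x) {α : GLv V} (h2 : Odd (orderOf α))
    (h3 : (3 : ℕ).Coprime (orderOf α)) (h : α * x * α⁻¹ = x ∨ α * x * α⁻¹ = x⁻¹) {w : V}
    (hw : w ∈ cm ⊤ x) (w0 : w ≠ 0) : α w = w := by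
  have hc : α * x = x * α := by
    rcases h with h | h
    · exact mul_inv_eq_iff_eq_mul.1 h
    · exact comm_of_odd_of_inv h2 h
  have key : ∀ y : GLv V, Om F y → α * y = y * α → α w = y w → α w = w := by
    intro y hy hc e
    have h4 : (α ^ 3) w = w := by
      rw [pow_succ, pow_two, gmul, gmul, e, gcomm hc, e, gcomm hc, gcomm hc, e, hy.cube_apply]
    exact mem_fx.1 (fx_le_zpowers (mem_zpowers_pow_iff.2 h3) (mem_fx.2 h4))
  rcases om_three hx hw w0 (om_inv_cm hx h hw) (fun e => w0 (α.map_eq_zero_iff.1 e)) with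
    e | e | e
  · exact e
  · exact key x hx hc e
  · exact key x⁻¹ hx.inv (Commute.inv_right hc) e

/-- An element inverting `x` fixes a nonzero vector of `[V, x]`. -/
theorem om_exists_of_inv (hx : Om F x) {α : GLv V} (h : α * x * α⁻¹ = x⁻¹) :
    ∃ w ∈ cm ⊤ x, w ≠ 0 ∧ α w = w := by
  obtain ⟨w, hw, w0, -⟩ := om_exists hx
  have key : ∀ y : GLv V, Om F y → α * y * α⁻¹ = y⁻¹ → w ∈ cm ⊤ y → α w = y w →
      ∃ w ∈ cm ⊤ y, w ≠ 0 ∧ α w = w := by
    intro y hy h hw e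
    refine ⟨y⁻¹ w, (Inv.top y).cm_self.inv w hw, fun e => w0 ((y⁻¹).map_eq_zero_iff.1 e), ?_⟩
    have h1 : α * y⁻¹ = y * α := by
      calc α * y⁻¹ = (α * y * α⁻¹)⁻¹ * α := by group
        _ = y * α := by rw [h, inv_inv]
    rw [← gmul, h1, gmul, e]
    conv_rhs => rw [← hy.cube_apply w, ginv]
  rcases om_three hx hw w0 (om_inv_cm hx (Or.inr h) hw) (fun e => w0 (α.map_eq_zero_iff.1 e)) with
    e | e | e
  · exact ⟨w, hw, w0, e⟩
  · exact key x hx h hw e
  · rw [← cm_top_inv] at hw ⊢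
    refine key x⁻¹ hx.inv ?_ hw e
    calc α * x⁻¹ * α⁻¹ = (α * x * α⁻¹)⁻¹ := by group
      _ = x⁻¹⁻¹ := by rw [h]

/-- A nilpotent group does not induce the symmetric group of degree three on `[V, x]`. -/
theorem om_fix_of_nil (hB : Group.IsNilpotent B) (hx : Om F x) {α : GLv V} (hα : α ∈ B)
    (h : α * x * α⁻¹ = x⁻¹) {w : V} (hw : w ∈ cm ⊤ x) (w0 : w ≠ 0) (hαw : α w = w) {β : GLv V}
    (hβ : β ∈ B) (h' : β * x * β⁻¹ = x ∨ β * x * β⁻¹ = x⁻¹) : β w = w := by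
  obtain ⟨n, hn⟩ := (isNilpotent_iff_lowerCentralSeries B).1 hB
  have hα' : α⁻¹ w = w := by
    conv_lhs => rw [← hαw, ginv]
  have key : ∀ y : GLv V, Om F y → α * y * α⁻¹ = y⁻¹ → ∀ γ ∈ B, γ * y = y * γ → γ w = y w →
      γ w = w := by
    intro y hy h γ hγ hc e
    have h1 : α * y = y⁻¹ * α := mul_inv_eq_iff_eq_mul.1 h
    have h1' : α * y⁻¹ = y * α := by
      calc α * y⁻¹ = (α * y * α⁻¹)⁻¹ * α := by group
        _ = y * α := by rw [h, inv_inv]
    have h2 : α⁻¹ * y⁻¹ = y * α⁻¹ := by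
      calc α⁻¹ * y⁻¹ = α⁻¹ * (α * y * α⁻¹) := by rw [h]
        _ = y * α⁻¹ := by group
    have h2' : α⁻¹ * y = y⁻¹ * α⁻¹ := by
      calc α⁻¹ * y = α⁻¹ * (y * α) * α⁻¹ := by group
        _ = y⁻¹ * α⁻¹ := by rw [← h1']; group
    have h3 : ∀ m, ∃ δ ∈ B.lowerCentralSeries m, δ * y = y * δ ∧ δ w = y w := by
      intro m
      induction m with
      | zero => exact ⟨γ, hγ, hc, e⟩
      | succ m ih =>
        obtain ⟨δ, hδ, hc, e⟩ := ih
        have hc' : Commute δ y := hc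
        refine ⟨⁅α, δ⁆, ?_, ?_, ?_⟩
        · rw [← commutatorElement_inv]
          exact inv_mem (commutator_mem_commutator hδ hα)
        · rw [commutatorElement_def]
          calc α * δ * α⁻¹ * δ⁻¹ * y = α * δ * α⁻¹ * (δ⁻¹ * y) := by group
            _ = α * δ * (α⁻¹ * y) * δ⁻¹ := by rw [hc'.inv_left.eq]; group
            _ = α * (δ * y⁻¹) * α⁻¹ * δ⁻¹ := by rw [h2']; group
            _ = α * y⁻¹ * δ * α⁻¹ * δ⁻¹ := by rw [hc'.inv_right.eq]; group
            _ = y * (α * δ * α⁻¹ * δ⁻¹) := by rw [h1']; group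
        · have h4 : δ⁻¹ w = y⁻¹ w := by
            have : δ (y⁻¹ w) = w := by rw [gcomm hc'.inv_right.eq, e, ginv]
            conv_lhs => rw [← this, ginv]
          have h5 : ∀ v, α (y v) = y⁻¹ (α v) := fun v => by rw [← gmul, h1, gmul]
          rw [commutatorElement_def, gmul, gmul, gmul, h4, ← gmul α⁻¹, h2, gmul, hα', gcomm hc, e,
            h5, h5, hαw]
          conv_lhs => rw [← hy.cube_apply w, ginv, ginv]
    obtain ⟨δ, hδ, -, e'⟩ := h3 n
    rw [hn, mem_bot] at hδ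
    rw [e, ← e', hδ, gone]
  have key2 : ∀ γ ∈ B, γ * x = x * γ → γ w = w := by
    intro γ hγ hc
    rcases om_three hx hw w0 (om_inv_cm hx (Or.inl (mul_inv_eq_iff_eq_mul.2 hc)) hw)
      (fun e => w0 (γ.map_eq_zero_iff.1 e)) with e | e | e
    · exact e
    · exact key x hx h γ hγ hc e
    · refine key x⁻¹ hx.inv ?_ γ hγ (Commute.inv_right hc) e
      calc α * x⁻¹ * α⁻¹ = (α * x * α⁻¹)⁻¹ := by group
        _ = x⁻¹⁻¹ := by rw [h]
  rcases h' with h' | h'
  · exact key2 β hβ (mul_inv_eq_iff_eq_mul.1 h')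
  · have := key2 (β * α) (mul_mem hβ hα) (by
      calc β * α * x = β * (α * x * α⁻¹) * β⁻¹ * (β * α) := by group
        _ = (β * x * β⁻¹)⁻¹ * (β * α) := by rw [h]; group
        _ = x * (β * α) := by rw [h', inv_inv])
    rwa [gmul, hαw] at this

end Lin

variable {X : Type u} [Group X] [Finite X] {A G : Subgroup X}

/-- Lifting of fixed points from a conjugacy statement for supplements. -/
theorem exists_cent_of_conj (hG : A ≤ normalizer (G : Set X)) (hAG : A ⊓ G = ⊥) {K : Subgroup X}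
    (hK : K ≤ G)
    (gl : ∀ W : Subgroup X, (∀ a ∈ A, ∃ k ∈ K, ∃ w ∈ W, a = k * w) →
      ∃ k ∈ K, ∀ a ∈ A, k * a * k⁻¹ ∈ W)
    {h : X} (hh : h ∈ G) (hc : ∀ a ∈ A, ⁅h, a⁆ ∈ K) :
    ∃ k ∈ K, h⁻¹ * k ∈ G ⊓ centralizer (A : Set X) := by
  obtain ⟨k, hk, h1⟩ := gl (conjS h A) fun a ha =>
    ⟨⁅h, a⁆⁻¹, K.inv_mem (hc a ha), h * a * h⁻¹, conj_mem_conjS.2 ha, by
      simp only [commutatorElement_def]; group⟩
  have h2 : h⁻¹ * k ∈ G := mul_mem (inv_mem hh) (hK hk)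
  refine ⟨k, hk, h2, mem_centralizer_iff.2 fun a ha => ?_⟩
  have h3 : h⁻¹ * k * a * (h⁻¹ * k)⁻¹ ∈ A := by
    have := h1 a ha
    rw [show k * a * k⁻¹ = h * (h⁻¹ * k * a * (h⁻¹ * k)⁻¹) * h⁻¹ by group] at this
    exact conj_mem_conjS.1 this
  have h4 : ⁅h⁻¹ * k, a⁆ ∈ A ⊓ G := by
    refine mem_inf.2 ⟨A.mul_mem h3 (A.inv_mem ha), ?_⟩
    rw [show ⁅h⁻¹ * k, a⁆ = h⁻¹ * k * (a * (h⁻¹ * k)⁻¹ * a⁻¹) by
      simp only [commutatorElement_def]; group]
    exact mul_mem h2 (conj_mem_of_mem_normalizer (hG ha) (inv_mem h2))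
  rw [hAG, mem_bot, commutatorElement_eq_one_iff_mul_comm] at h4
  exact h4.symm

theorem noFix_of_coprime (hG : A ≤ normalizer (G : Set X))
    (hc : (Nat.card A).Coprime (Nat.card G))
    (ho : Odd (Nat.card (G ⊓ centralizer (A : Set X) : Subgroup X))) : NoFix A G := by
  intro K hK hAK h hh hn h2 hcm
  have hcK : (Nat.card A).Coprime (Nat.card K) := hc.coprime_dvd_right (card_dvd_of_le hK)
  have hs : Group.IsSolvable A ∨ Group.IsSolvable K := by
    rcases Nat.even_or_odd (Nat.card A) with h1 | h1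
    · refine Or.inr (CfsgLib.FT.odd_order_solvable ?_)
      exact Nat.coprime_two_left.1 (hcK.coprime_dvd_left h1.two_dvd)
    · exact Or.inl (CfsgLib.FT.odd_order_solvable h1)
  obtain ⟨k, hk, h3⟩ := exists_cent_of_conj hG (inf_eq_bot_of_coprime hc) hK
    (fun W hW => CfsgLib.Coprime.exists_conj_mem_of_subset_mul hAK hcK hs hW) hh hcm
  have h4 : h⁻¹ * k * (h⁻¹ * k) ∈ K := by
    rw [show h⁻¹ * k * (h⁻¹ * k) = h⁻¹ * k * h * (h * h)⁻¹ * k by group]
    exact mul_mem (mul_mem (conj_inv_mem_of_mem_normalizer hn hk) (inv_mem h2)) hk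
  have h5 : h⁻¹ * k ∈ K :=
    zpowers_le.2 h4 (mem_zpowers_sq (M1.odd_orderOf_of_mem ho h3))
  rw [show h = k * (h⁻¹ * k)⁻¹ by group]
  exact mul_mem hk (inv_mem h5)

/-- `NoFix` for the vectors of a section. -/
theorem NoFix.vec (hf : NoFix A G) {H E Z : Subgroup X} {V : Type*} [AddCommGroup V]
    [Module (ZMod 2) V] (s : Sec (H ⊔ A) E Z V) (hE : E ≤ G) {u : V}
    (hu : ∀ α ∈ s.im A, α u = u) : u = 0 := by
  obtain ⟨e, he, rfl⟩ := s.surj u
  refine (s.π_eq_zero e he).2 (hf Z (s.Z_le.trans hE) (fun a ha => ?_) e (hE he) ?_ ?_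
    fun a ha => ?_)
  · rw [← s.bak_bot]
    refine s.mem_normalizer_bak (le_sup_right (a := H) ha) fun v hv => ?_
    rw [(Submodule.mem_bot _).1 hv, map_zero]
    exact Submodule.zero_mem _
  · refine mem_normalizer_of_conjS_le (conjS_le_iff_forall.2 fun z hz => ?_)
    have hz' := s.Z_le hz
    refine (s.π_eq_zero _ (mul_mem (mul_mem he hz') (inv_mem he))).1 ?_
    rw [s.π_mul _ (mul_mem he hz') _ (inv_mem he), s.π_mul _ he _ hz', s.π_inv he,
      (s.π_eq_zero z hz').2 hz, add_zero, add_self_v]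
  · refine (s.π_eq_zero _ (mul_mem he he)).1 ?_
    rw [s.π_mul _ he _ he, add_self_v]
  · have ha' : a ∈ H ⊔ A := le_sup_right (a := H) ha
    rw [← commutatorElement_inv]
    exact inv_mem ((s.ρ_π_eq_iff ha' he).1 (hu _ (s.ρ_mem_im ha ha')))

theorem noOm_of_coprime (hf : NoFix A G) (hc : (Nat.card A).Coprime (Nat.card G)) :
    NoOm A G := by
  intro H E Z V _ _ _ s F hH hE _ hF hB hodd hn x hx
  obtain ⟨w, hw, w0, -⟩ := om_exists hx
  have h2 : 2 ∣ Nat.card G := by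
    refine Dvd.dvd.trans ?_ (card_dvd_of_le hE)
    rw [s.card_E]
    have := hx.rk ▸ Submodule.finrank_le (cm ⊤ x)
    exact Dvd.dvd.mul_left (dvd_pow_self 2 (by omega)) _
  have h3 : 3 ∣ Nat.card G := by
    obtain ⟨h, hh, hh', e⟩ := s.mem_im.1 (hF hx.mem)
    rw [← hx.ord, ← e]
    exact (s.orderOf_ρ_dvd hh').trans (G.orderOf_dvd_natCard (hH hh))
  obtain ⟨u, u0, hu⟩ := om_fix hodd hn hB hx hw w0 fun α hα h => by
    obtain ⟨a, ha, ha', rfl⟩ := s.mem_im.1 hα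
    have h4 : (Nat.card G).Coprime (orderOf (s.ρ a)) :=
      hc.symm.coprime_dvd_right ((s.orderOf_ρ_dvd ha').trans (A.orderOf_dvd_natCard ha))
    exact om_fix_of_coprime hx (Nat.coprime_two_left.1 (h4.coprime_dvd_left h2))
      (h4.coprime_dvd_left h3) h hw w0
  exact u0 (hf.vec s hE hu)

/-- Fixed points of a nilpotent fixed-point-free group modulo a solvable subgroup. -/
theorem mem_of_nil (hA : Group.IsNilpotent A) (hG : A ≤ normalizer (G : Set X))
    (hfix : G ⊓ centralizer (A : Set X) = ⊥) {K : Subgroup X} (hK : K ≤ G)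
    (hAK : A ≤ normalizer (K : Set X)) (hs : Group.IsSolvable K) {h : X} (hh : h ∈ G)
    (hc : ∀ a ∈ A, ⁅h, a⁆ ∈ K) : h ∈ K := by
  obtain ⟨k, hk, h3⟩ := exists_cent_of_conj hG (sup_inf_eq_bot hA hG hfix) hK
    (fun W hW => sup_solv hA hAK hs
      (eq_bot_iff.2 ((inf_le_inf_right _ hK).trans hfix.le)) hW) hh hc
  rw [hfix, mem_bot, inv_mul_eq_one] at h3
  exact h3 ▸ hk

theorem mem_of_nil' (hA : Group.IsNilpotent A) (hG : A ≤ normalizer (G : Set X))
    (hfix : G ⊓ centralizer (A : Set X) = ⊥)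
    (hs : ∀ H ≤ G, H ≠ G → A ≤ normalizer (H : Set X) → Group.IsSolvable H)
    {K : Subgroup X} (hK : K ≤ G) (hAK : A ≤ normalizer (K : Set X)) {h : X} (hh : h ∈ G)
    (hc : ∀ a ∈ A, ⁅h, a⁆ ∈ K) : h ∈ K := by
  by_cases e : K = G
  · exact e ▸ hh
  · exact mem_of_nil hA hG hfix hK hAK (hs K hK e hAK) hh hc

theorem noFix_of_nil (hA : Group.IsNilpotent A) (hG : A ≤ normalizer (G : Set X))
    (hfix : G ⊓ centralizer (A : Set X) = ⊥)
    (hs : ∀ H ≤ G, H ≠ G → A ≤ normalizer (H : Set X) → Group.IsSolvable H) : NoFix A G :=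
  fun _ hK hAK _ hh _ _ hc => mem_of_nil' hA hG hfix hs hK hAK hh hc

theorem noOm_of_nil (hA : Group.IsNilpotent A) (hG : A ≤ normalizer (G : Set X))
    (hfix : G ⊓ centralizer (A : Set X) = ⊥)
    (hs : ∀ H ≤ G, H ≠ G → A ≤ normalizer (H : Set X) → Group.IsSolvable H) : NoOm A G := by
  intro H E Z V _ _ _ s F hH hE hAH hF hB hodd hn x hx
  by_cases h : ∃ α ∈ s.im A, α * x * α⁻¹ = x⁻¹
  · obtain ⟨α, hα, h⟩ := h
    obtain ⟨w, hw, w0, hαw⟩ := om_exists_of_inv hx h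
    have hN : Group.IsNilpotent (s.im A) := by
      have : Group.IsNilpotent (A.subgroupOf (H ⊔ A)) :=
        Group.nilpotent_of_mulEquiv (subgroupOfEquivOfLe (le_sup_right (a := H))).symm
      exact Group.nilpotent_of_surjective _ (s.hom.subgroupMap_surjective _)
    obtain ⟨u, u0, hu⟩ := om_fix hodd hn hB hx hw w0 fun β hβ h' =>
      om_fix_of_nil hN hx hα h hw w0 hαw hβ h'
    exact u0 ((noFix_of_nil hA hG hfix hs).vec s hE hu)
  · obtain ⟨p, hp, p1, hc⟩ := om_cent hodd hn hB hx fun α hα e => h ⟨α, hα, e⟩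
    obtain ⟨g, hg, hg', rfl⟩ := s.mem_im.1 (hF hp)
    have h1 : A ≤ normalizer (s.pre ⊥ : Set X) := fun a ha =>
      s.pre_le_normalizer (X := ⊤) (Y := ⊥) (le_normalizer_of_normal)
        (s.mem_pre.2 ⟨le_sup_right (a := H) ha, mem_top _⟩)
    have h2 : g ∈ H ⊓ s.pre ⊥ := by
      refine mem_of_nil' hA hG hfix hs (inf_le_left.trans hH)
        ((le_inf hAH h1).trans inf_normalizer_le_normalizer_inf) (hH hg) fun a ha => ?_
      have ha' : a ∈ H ⊔ A := le_sup_right (a := H) ha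
      have h3 : ⁅g, a⁆ ∈ H := by
        rw [show ⁅g, a⁆ = g * (a * g⁻¹ * a⁻¹) by simp only [commutatorElement_def]; group]
        exact mul_mem hg (conj_mem_of_mem_normalizer (hAH ha) (inv_mem hg))
      refine mem_inf.2 ⟨h3, s.mem_pre.2 ⟨le_sup_left (b := A) h3, ?_⟩⟩
      rw [s.ρ_commutator hg' ha', mem_bot, commutatorElement_eq_one_iff_mul_comm]
      exact (mul_inv_eq_iff_eq_mul.1 (hc _ (s.ρ_mem_im ha ha'))).symm
    exact p1 (mem_bot.1 (s.mem_pre.1 h2.2).2)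

theorem SupHy.noFix [G.Normal] (h : SupHy A G) : NoFix A G :=
  noFix_of_nil h.nil le_normalizer_of_normal h.fix h.solv

theorem SupHy.noOm [G.Normal] (h : SupHy A G) : NoOm A G :=
  noOm_of_nil h.nil le_normalizer_of_normal h.fix h.solv

end CfsgLib.Cop
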