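import Cfsg.Agent.Lib.MinS.Mod1
import Cfsg.Agent.Lib.MinS.Mod2
import Cfsg.Agent.Lib.MinS.Fac1
import Cfsg.Agent.Lib.AG.Basic

/-!
Operator groups without fixed involutions, step 1: definitions (see `plans/COP-S1.md`).
The ambient group is `X`; `A` normalizes `G`.
-/

set_option autoImplicit false

open Subgroup Cfsg CfsgLib.LAE CfsgLib.ZN CfsgLib.MinS
open scoped commutatorElement

universe u

namespace CfsgLib.Cop

variable {X : Type u} [Group X]

/-- `A` fixes no involution in an `A`-invariant section of `G`. -/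
def NoFix (A G : Subgroup X) : Prop :=
  ∀ K : Subgroup X, K ≤ G → A ≤ normalizer (K : Set X) → ∀ h ∈ G, h ∈ normalizer (K : Set X) →
    h * h ∈ K → (∀ a ∈ A, ⁅h, a⁆ ∈ K) → h ∈ K

/-- No element of order three of an invariant odd nilpotent group acts on an invariant elementary
section with a commutator space of order four. -/
def NoOm (A G : Subgroup X) : Prop :=
  ∀ (H E Z : Subgroup X) (V : Type u) [AddCommGroup V] [Module (ZMod 2) V] [Finite V]
    (s : Sec (H ⊔ A) E Z V) (F : Subgroup (GLv V)), H ≤ G → E ≤ G →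
    A ≤ normalizer (H : Set X) → F ≤ s.im H → s.im A ≤ normalizer (F : Set (GLv V)) →
    Odd (Nat.card F) → Group.IsNilpotent F → ∀ x, ¬ Om F x

/-- The centralizer of the section `E / Z`. -/
def cz (E Z : Subgroup X) : Subgroup X where
  carrier := {g | g ∈ normalizer (E : Set X) ∧ g ∈ normalizer (Z : Set X) ∧ ∀ e ∈ E, ⁅g, e⁆ ∈ Z}
  one_mem' := ⟨one_mem _, one_mem _, fun e _ => by simp⟩
  mul_mem' := fun {g h} hg hh => ⟨mul_mem hg.1 hh.1, mul_mem hg.2.1 hh.2.1, fun e he => by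
    have : ⁅g * h, e⁆ = g * ⁅h, e⁆ * g⁻¹ * ⁅g, e⁆ := by
      simp only [commutatorElement_def]; group
    rw [this]
    exact Z.mul_mem (conj_mem_of_mem_normalizer hg.2.1 (hh.2.2 e he)) (hg.2.2 e he)⟩
  inv_mem' := fun {g} hg => ⟨inv_mem hg.1, inv_mem hg.2.1, fun e he => by
    have : ⁅g⁻¹, e⁆ = g⁻¹ * ⁅g, e⁆⁻¹ * g := by
      simp only [commutatorElement_def]; group
    rw [this]
    exact conj_inv_mem_of_mem_normalizer hg.2.1 (Z.inv_mem (hg.2.2 e he))⟩

theorem mem_cz {E Z : Subgroup X} {g : X} : g ∈ cz E Z ↔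
    g ∈ normalizer (E : Set X) ∧ g ∈ normalizer (Z : Set X) ∧ ∀ e ∈ E, ⁅g, e⁆ ∈ Z := Iff.rfl

theorem le_cz_iff {D E Z : Subgroup X} : D ≤ cz E Z ↔
    D ≤ normalizer (E : Set X) ∧ D ≤ normalizer (Z : Set X) ∧ ⁅D, E⁆ ≤ Z :=
  ⟨fun h => ⟨fun _ hx => (h hx).1, fun _ hx => (h hx).2.1,
    commutator_le.2 fun _ hx e he => (h hx).2.2 e he⟩,
   fun h _ hx => ⟨h.1 hx, h.2.1 hx, fun e he => commutator_le.1 h.2.2 _ hx e he⟩⟩

theorem le_normalizer_cz [Finite X] {L E Z : Subgroup X} (hE : L ≤ normalizer (E : Set X))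
    (hZ : L ≤ normalizer (Z : Set X)) : L ≤ normalizer (cz E Z : Set X) := by
  intro l hl
  refine mem_normalizer_of_conjS_le (conjS_le_iff_forall.2 fun g hg => ⟨?_, ?_, fun e he => ?_⟩)
  · exact mul_mem (mul_mem (hE hl) hg.1) (inv_mem (hE hl))
  · exact mul_mem (mul_mem (hZ hl) hg.2.1) (inv_mem (hZ hl))
  · have : ⁅l * g * l⁻¹, e⁆ = l * ⁅g, l⁻¹ * e * l⁆ * l⁻¹ := by
      simp only [commutatorElement_def]; group
    rw [this]
    exact conj_mem_of_mem_normalizer (hZ hl)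
      (hg.2.2 _ (conj_inv_mem_of_mem_normalizer (hE hl) he))

/-- `E / Z` is an elementary abelian `H A`-section and `O₂(H / C_H(E / Z)) = 1`. -/
structure Sx (A H E Z : Subgroup X) : Prop where
  le : Z ≤ E
  nZ : E ≤ normalizer (Z : Set X)
  sq : ∀ e ∈ E, e * e ∈ Z
  HE : H ≤ normalizer (E : Set X)
  HZ : H ≤ normalizer (Z : Set X)
  AH : A ≤ normalizer (H : Set X)
  AE : A ≤ normalizer (E : Set X)
  AZ : A ≤ normalizer (Z : Set X)
  red : ∀ (V : Type u) [AddCommGroup V] [Module (ZMod 2) V] [Finite V] (s : Sec (H ⊔ A) E Z V),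
    pCoreOf 2 (s.im H) = ⊥

/-- Restriction of the acting group. -/
def secRes {H H' E Z : Subgroup X} {V : Type*} [AddCommGroup V] [Module (ZMod 2) V]
    (s : Sec H E Z V) (h : H' ≤ H) : Sec H' E Z V where
  ρ := s.ρ
  π := s.π
  ρ_mul a ha b hb := s.ρ_mul a (h ha) b (h hb)
  Z_le := s.Z_le
  normE := h.trans s.normE
  π_mul := s.π_mul
  π_eq_zero := s.π_eq_zero
  surj := s.surj
  conj g hg := s.conj g (h hg)

theorem im_secRes {H H' E Z K : Subgroup X} {V : Type*} [AddCommGroup V] [Module (ZMod 2) V]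
    (s : Sec H E Z V) (h : H' ≤ H) (hK : K ≤ H') : (secRes s h).im K = s.im K := by
  ext x
  simp only [Sec.mem_im]
  exact ⟨fun ⟨g, h1, h2, e⟩ => ⟨g, h1, h h2, e⟩, fun ⟨g, h1, _, e⟩ => ⟨g, h1, hK h1, e⟩⟩

/-- `H` is minimal among the `A`-invariant overgroups of `S` that are not contained in `N`. -/
structure MP (A S N H : Subgroup X) : Prop where
  syl : IsSylowIn 2 S H
  AS : A ≤ normalizer (S : Set X)
  AH : A ≤ normalizer (H : Set X)
  SN : S ≤ N
  not_le : ¬ H ≤ N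
  min : ∀ K : Subgroup X, S ≤ K → K ≤ H → A ≤ normalizer (K : Set X) → ¬ K ≤ N → K = H

/-- The properties of the module `V`, seen from the Sylow subgroup `S`. -/
structure VV (A S V : Subgroup X) : Prop where
  le : V ≤ S
  SV : S ≤ normalizer (V : Set X)
  AV : A ≤ normalizer (V : Set X)
  sq : ∀ v ∈ V, v * v = 1
  q2 : ∀ B : Subgroup X, B ≤ S → (∀ b ∈ B, b * b = 1) →
    (centralizer (V : Set X)).relIndex B ^ 2 ≤ (centralizer (B : Set X)).relIndex V
  q3 : ∀ B B' : Subgroup X, B ≤ B' → B' ≤ S → A ≤ normalizer (B' : Set X) →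
    ⁅B', V⁆ ≤ centralizer (B' : Set X) → (∀ b ∈ B, b * b = 1) → ¬ B ≤ centralizer (V : Set X) →
    (centralizer (V : Set X)).relIndex B ^ 2 < (centralizer (B : Set X)).relIndex V

/-- The standing hypothesis of the core argument. -/
structure Co (A G S V N H : Subgroup X) : Prop where
  fix : NoFix A G
  om : NoOm A G
  mp : MP A S N H
  vv : VV A S V
  HG : H ≤ G
  solv : Group.IsSolvable H
  NV : H ⊓ normalizer (V : Set X) ≤ N
  NJ : H ⊓ normalizer (thompsonSubgroupOf 2 S : Set X) ≤ N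
  act : ¬ pResOf 2 H ≤ centralizer (pCoreOf 2 H : Set X)

/-- `V = ⟨Ω₁ Z(S) ^ {N_G(J(S))}⟩`. -/
def vv (G S : Subgroup X) : Subgroup X :=
  nclIn (omegaZ 2 S) (G ⊓ normalizer (thompsonSubgroupOf 2 S : Set X))

end CfsgLib.Cop
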