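import Cfsg.Agent.Lib.Cop.S1Defs

/-! COP step 1, package FIT: Fitting subgroup, irreducible sections (plans/COP-S1.md). -/

set_option autoImplicit false

open Subgroup Cfsg CfsgLib.LAE CfsgLib.ZN CfsgLib.MinS Module
open scoped commutatorElement

universe u

namespace CfsgLib.Cop

variable {X : Type u} [Group X] [Finite X] {A G H E Z : Subgroup X}

theorem Sx.fit_sec (h : Sx A H E Z) : ∃ (V : Type u) (_ : AddCommGroup V) (_ : Module (ZMod 2) V),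
    Finite V ∧ Nonempty (Sec (H ⊔ A) E Z V) :=
  exists_sec (sup_le h.HE h.AE) (sup_le h.HZ h.AZ) h.le h.nZ h.sq

omit [Finite X] in
theorem Sx.fit_cz (h : Sx A H E Z) {V : Type u} [AddCommGroup V] [Module (ZMod 2) V]
    (s : Sec (H ⊔ A) E Z V) {g : X} (hg : g ∈ H) : s.ρ g = 1 ↔ g ∈ cz E Z :=
  (s.ρ_eq_one_iff (mem_sup_left hg)).trans ⟨fun e => ⟨h.HE hg, h.HZ hg, e⟩, fun e => e.2.2⟩

theorem Sx.pCore_le (h : Sx A H E Z) : pCoreOf 2 H ≤ cz E Z := by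
  obtain ⟨V, _, _, _, ⟨s⟩⟩ := h.fit_sec
  have h1 : s.im (pCoreOf 2 H) ≤ pCoreOf 2 (s.im H) :=
    le_pCoreOf (s.isPGroup_im (isPGroup_pCoreOf H)) (s.im_mono (pCoreOf_le H))
      (s.im_le_normalizer (le_normalizer_pCoreOf H))
  rw [h.red V s] at h1
  exact fun q hq => (h.fit_cz s (pCoreOf_le H hq)).1
    (mem_bot.1 (h1 (s.ρ_mem_im hq (mem_sup_left (pCoreOf_le H hq)))))

/-- The preimage `F` of the Fitting subgroup of `H / C_H(E / Z)`; it contains no reflections. -/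
theorem Sx.fit (h : Sx A H E Z) (ho : NoOm A G) (hH : H ≤ G) (hE : E ≤ G)
    (hs : Group.IsSolvable H) :
    ∃ F : Subgroup X, F ≤ H ∧ H ≤ normalizer (F : Set X) ∧ H ⊓ cz E Z ≤ F ∧
      (∀ f ∈ F, ∃ n, Odd n ∧ f ^ n ∈ cz E Z) ∧
      (∀ t ∈ H, t * t = 1 → (∀ f ∈ F, ⁅f, t⁆ ∈ cz E Z) → t ∈ cz E Z) ∧
      ∀ d ∈ F, ∀ v ∈ H, v * v = 1 → v * d * v⁻¹ = d⁻¹ → ∀ T T₀ : Subgroup X,
        T₀.relIndex T ≤ 2 → (∀ e ∈ E, ⁅v, e⁆ ∈ T) → (∀ x ∈ T₀, x ∈ T → d * x = x * d) →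
        d ∈ cz E Z := by
  obtain ⟨V, _, _, _, ⟨s⟩⟩ := h.fit_sec
  have hl : H ≤ H ⊔ A := le_sup_left
  have hs1 : Group.IsSolvable (H.subgroupOf (H ⊔ A)) :=
    Group.isSolvable_of_isSolvable_injective (f := (subgroupOfEquivOfLe hl).toMonoidHom)
      (subgroupOfEquivOfLe hl).injective
  have hs2 : Group.IsSolvable (s.im H) := Core.isSolvable_map _ _
  obtain ⟨F₀, f1, f2, f3, f4, f5⟩ := M1.exists_fit' hs2 (h.red V s)
  refine ⟨H ⊓ s.pre F₀, inf_le_left, le_normalizer_inf le_normalizer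
    (((s.im_le_iff hl).1 le_rfl).trans (s.pre_le_normalizer (le_normalizer.trans f2))),
    fun g hg => ⟨hg.1, s.mem_pre.2 ⟨hl hg.1, ?_⟩⟩, fun f hf => ⟨_, f3, ?_⟩, fun t ht t2 hc => ?_,
    fun d hd v hv v2 hi T T₀ hT h1 h2 => ?_⟩
  · rw [(h.fit_cz s hg.1).2 hg.2]; exact one_mem _
  · rw [← h.fit_cz s (pow_mem hf.1 _), s.ρ_pow (hl hf.1)]
    exact congrArg Subtype.val (pow_card_eq_one' (x := (⟨_, (s.mem_pre.1 hf.2).2⟩ : F₀)))
  · refine (h.fit_cz s ht).1 (M1.eq_one_of_odd_of_inv (M1.odd_orderOf_of_mem f3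
      (f5 ⟨s.ρ_mem_im ht (hl ht), fun x hx => ?_⟩)) ?_)
    · obtain ⟨f, hf, hf', rfl⟩ := s.mem_im.1 (f1 hx)
      rw [← commutatorElement_eq_one_iff_mul_comm, ← s.ρ_commutator hf' (hl ht),
        h.fit_cz s (commutator_le_right_of_le_normalizer le_normalizer
          (commutator_mem_commutator hf ht))]
      exact hc f ⟨hf, s.mem_pre.2 ⟨hf', hx⟩⟩
    · rw [eq_inv_iff_mul_eq_one, ← s.ρ_mul _ (hl ht) _ (hl ht), t2, s.ρ_one]
  have hδ := (s.mem_pre.1 hd.2).2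
  have od := M1.odd_orderOf_of_mem f3 hδ
  obtain ⟨r1, r2, -⟩ := free_top (a := s.ρ v) (d := s.ρ d)
    (by rw [← s.ρ_mul _ (hl hv) _ (hl hv), v2, s.ρ_one]) od
    (by rw [← s.ρ_conj (hl hv) (hl hd.1), hi, s.ρ_inv (hl hd.1)]) (Inv.top _) (Inv.top _)
  have k1 : ∀ x ∈ E, x ∈ T → s.π x ∈ cm ⊤ (s.ρ d) → x ∈ T₀ → s.π x = 0 := fun x x1 x2 x3 x4 =>
    (Submodule.mem_bot _).1 ((cm_inf_fx od ⊤).le ⟨x3, mem_fx.2 (by
      rw [← s.conj d (hl hd.1) x x1, h2 x x4 x2, mul_inv_cancel_right])⟩)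
  have k2 : ∀ u ∈ cm (cm ⊤ (s.ρ d)) (s.ρ v), ∃ x ∈ E, x ∈ T ∧ s.π x = u := by
    rintro _ ⟨w, -, rfl⟩
    obtain ⟨e, he, rfl⟩ := s.surj w
    exact ⟨_, s.commutator_mem (hl hv) he, h1 e he, (s.dl_π (hl hv) he).symm⟩
  have k3 : ∀ u ∈ cm (cm ⊤ (s.ρ d)) (s.ρ v), ∀ u' ∈ cm (cm ⊤ (s.ρ d)) (s.ρ v), u ≠ 0 → u' ≠ 0 →
      u = u' := fun u hu u' hu' n n' => by
    obtain ⟨x, x1, x2, rfl⟩ := k2 u hu
    obtain ⟨y, y1, y2, rfl⟩ := k2 u' hu'
    have x3 := (r2.ge hu).1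
    have y3 := (r2.ge hu').1
    have x4 : x ∉ T₀ := fun e => n (k1 x x1 x2 x3 e)
    have i1 : T₀.relIndex T ≠ 0 := index_ne_zero_of_finite
    have i2 : T₀.relIndex T ≠ 1 := fun e => x4 (relIndex_eq_one.1 e x2)
    have e : s.π (x * y⁻¹) = s.π x + s.π y := by rw [s.π_mul _ x1 _ (inv_mem y1), s.π_inv y1]
    exact add_eq_zero_v.1 (e.symm.trans (k1 _ (mul_mem x1 (inv_mem y1)) (mul_mem x2 (inv_mem y2))
      (e ▸ add_mem x3 y3) (mul_inv_mem_of_two (by omega) x2 y2 x4 fun e => n' (k1 y y1 y2 y3 e))))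
  have k4 : finrank (ZMod 2) (cm (cm ⊤ (s.ρ d)) (s.ρ v)) ≤ 1 := by
    by_cases h0 : ∃ u ∈ cm (cm ⊤ (s.ρ d)) (s.ρ v), u ≠ 0
    · obtain ⟨u, hu, n⟩ := h0
      refine finrank_le_one ⟨u, hu⟩ fun w => ?_
      by_cases hw : (w : V) = 0
      · exact ⟨0, Subtype.ext (by rw [zero_smul, hw]; rfl)⟩
      · exact ⟨1, Subtype.ext (by rw [one_smul]; exact k3 u hu w w.2 n hw)⟩
    · push Not at h0
      rw [(Submodule.eq_bot_iff _).2 h0, finrank_bot]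
      exact zero_le_one
  have k5 : finrank (ZMod 2) (cm ⊤ (s.ρ d)) ≠ 2 := fun e =>
    ho H E Z V s F₀ hH hE h.AH f1 ((s.im_le_normalizer h.AH).trans f2) f3 f4 _ (om_of_two hδ od e)
  have k6 : cm ⊤ (s.ρ d) = ⊥ := Submodule.finrank_eq_zero.1 (by omega)
  exact (h.fit_cz s hd.1).1 (fx_eq_top.1 (top_le_iff.1 (cm_eq_bot.1 k6)))

/-- An irreducible section is reduced. -/
theorem sx_of_irr (le : Z ≤ E) (nZ : E ≤ normalizer (Z : Set X)) (sq : ∀ e ∈ E, e * e ∈ Z)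
    (HE : H ≤ normalizer (E : Set X)) (HZ : H ≤ normalizer (Z : Set X))
    (AH : A ≤ normalizer (H : Set X)) (AE : A ≤ normalizer (E : Set X))
    (AZ : A ≤ normalizer (Z : Set X))
    (irr : ∀ W : Subgroup X, Z ≤ W → W ≤ E → H ≤ normalizer (W : Set X) →
      A ≤ normalizer (W : Set X) → W = Z ∨ W = E) : Sx A H E Z := by
  refine ⟨le, nZ, sq, HE, HZ, AH, AE, AZ, fun V _ _ _ s => ?_⟩
  have key : ∀ L : Subgroup X, L ≤ H ⊔ A → L ≤ normalizer (H : Set X) →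
      L ≤ normalizer (s.bak (fxS (pCoreOf 2 (s.im H))) : Set X) := fun L l1 l2 g hg => by
    refine s.mem_normalizer_bak (l1 hg) fun v hv => mem_fxS.2 fun o ho => ?_
    have := mem_fxS.1 hv _ (conj_inv_mem_of_mem_normalizer (le_normalizer_pCoreOf_of_le
      (s.im_le_normalizer l2) (s.ρ_mem_im hg (l1 hg))) ho)
    rw [gmul, gmul] at this
    rw [← ginv' (s.ρ g) (o _), this]
  rw [eq_bot_iff]
  intro o ho
  rcases irr _ (s.Z_le_bak _) (s.bak_le _) (key H le_sup_left le_normalizer)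
    (key A le_sup_right AH) with h | h
  · have h1 := s.bak_injective (h.trans s.bak_bot.symm)
    by_contra h2
    have h3 : finrank (ZMod 2) V ≠ 0 := fun e => by
      have := finrank_zero_iff.1 e
      exact h2 (mem_bot.2 (LinearEquiv.ext fun v => Subsingleton.elim _ _))
    have : Fact (Nat.Prime 2) := ⟨Nat.prime_two⟩
    obtain ⟨b, hb, n⟩ := (isPGroup_pCoreOf (p := 2) (s.im H)).exists_fixed_point_of_prime_dvd_card_of_fixed_point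
      V (by
        rw [Module.natCard_eq_pow_finrank (K := ZMod 2) (V := V), Nat.card_zmod]
        exact dvd_pow_self _ h3) (a := 0) fun g => map_zero (g : GLv V)
    exact n ((Submodule.mem_bot _).1 (h1.le (mem_fxS.2 fun g hg => hb ⟨g, hg⟩))).symm
  · have h1 := s.bak_injective (h.trans s.bak_top.symm)
    exact mem_bot.2 (fx_eq_top.1 (top_le_iff.1 (h1.ge.trans (fxS_le ho))))

end CfsgLib.Cop
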