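import Cfsg.Agent.Lib.Cop.S1Defs

/-! COP step 1, package LQ: linear lemmas (plans/COP-S1.md). -/

set_option autoImplicit false

open Subgroup Cfsg CfsgLib.LAE CfsgLib.ZN CfsgLib.MinS Module
open scoped commutatorElement

universe u

namespace CfsgLib.Cop

variable {V : Type*} [AddCommGroup V] [Module (ZMod 2) V] [Finite V]
variable {F B : Subgroup (GLv V)} {k : ℕ} {a d : Fin k → GLv V}

theorem lq_inv_iInf {t : Finset (Fin k)} {g : GLv V} (hc : ∀ j ∈ t, g * a j = a j * g) :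
    Inv (⨅ j ∈ t, fx (a j) : Submodule (ZMod 2) V) g := by
  intro v hv
  simp only [Submodule.mem_iInf] at hv ⊢
  intro j hj
  exact Inv.fx_comm (hc j hj) v (hv j hj)

theorem lq_insert (i : Fin k) (t : Finset (Fin k)) (W : Submodule (ZMod 2) V) :
    (W ⊓ ⨅ j ∈ insert i t, fx (a j) : Submodule (ZMod 2) V) =
      (W ⊓ fx (a i)) ⊓ ⨅ j ∈ t, fx (a j) := by
  rw [Finset.iInf_insert, inf_assoc]

theorem lq_erase {s : Finset (Fin k)} {i : Fin k} (hi : i ∈ s) (W : Submodule (ZMod 2) V) :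
    (W ⊓ ⨅ j ∈ s, fx (a j) : Submodule (ZMod 2) V) =
      (W ⊓ ⨅ j ∈ s.erase i, fx (a j)) ⊓ fx (a i) := by
  conv_lhs => rw [← Finset.insert_erase hi]
  rw [lq_insert, inf_right_comm]

theorem lq_half (h : TD F B a d) (t : Finset (Fin k)) : ∀ {W : Submodule (ZMod 2) V},
    (∀ j ∈ t, Inv W (a j) ∧ Inv W (d j) ∧ W ⊓ fx (d j) = ⊥) →
    finrank (ZMod 2) W =
      2 ^ t.card * finrank (ZMod 2) (W ⊓ ⨅ j ∈ t, fx (a j) : Submodule (ZMod 2) V) := by
  induction t using Finset.induction_on with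
  | empty =>
    intro W _
    have e : (W ⊓ ⨅ j ∈ (∅ : Finset (Fin k)), fx (a j) : Submodule (ZMod 2) V) = W := by simp
    rw [e]; simp
  | insert i t hi ih =>
    intro W hW
    obtain ⟨h1, h2, h3⟩ := hW i (Finset.mem_insert_self _ _)
    obtain ⟨e1, e2, -⟩ := free (h.a2 i) (h.odd i) (h.inv i) h1 h2 h3
    rw [lq_insert, Finset.card_insert_of_notMem hi, e1, ← e2, pow_succ,
      ih (W := W ⊓ fx (a i))]
    · ring
    · intro j hj
      obtain ⟨g1, g2, g3⟩ := hW j (Finset.mem_insert_of_mem hj)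
      have hji : j ≠ i := fun e => hi (e ▸ hj)
      refine ⟨g1.inf (Inv.fx_comm (h.aa j i)), g2.inf (Inv.fx_comm (h.cent j i hji).symm), ?_⟩
      rw [inf_right_comm, g3, bot_inf_eq]

theorem lq_ne_bot (h : TD F B a d) (t : Finset (Fin k)) : ∀ {W : Submodule (ZMod 2) V},
    W ≠ ⊥ → (∀ j ∈ t, Inv W (a j)) →
    (W ⊓ ⨅ j ∈ t, fx (a j) : Submodule (ZMod 2) V) ≠ ⊥ := by
  induction t using Finset.induction_on with
  | empty => intro W hW _; simpa using hW
  | insert i t hi ih =>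
    intro W hW hI
    rw [lq_insert]
    have h1 := hI i (Finset.mem_insert_self _ _)
    refine ih ?_ fun j hj => (hI j (Finset.mem_insert_of_mem hj)).inf (Inv.fx_comm (h.aa j i))
    intro e
    have hc : cm W (a i) = ⊥ := by
      rw [eq_bot_iff, ← e]
      exact le_inf h1.cm_le (cm_le_fx (h.a2 i) W)
    rw [cm_eq_bot] at hc
    exact hW (by rw [← e, inf_eq_left.2 hc])

theorem lq_invV (h : TD F B a d) (i j : Fin k) :
    Inv (cm ⊤ (d i)) (a j) ∧ Inv (cm ⊤ (d i)) (d j) :=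
  ⟨h.inv_cm (Inv.top _) (Inv.top _), Inv.cm_comm (h.comm j i) (Inv.top _)⟩

theorem lq_V_ne (h : TD F B a d) (i : Fin k) : cm ⊤ (d i) ≠ ⊥ := fun e =>
  h.not_top i (cm_eq_bot.1 e)

theorem lq_invP (h : TD F B a d) (s : Finset (Fin k)) (i : Fin k) :
    Inv (⨅ j ∈ s.erase i, fx (a j) : Submodule (ZMod 2) V) (a i) ∧
      Inv (⨅ j ∈ s.erase i, fx (a j) : Submodule (ZMod 2) V) (d i) :=
  ⟨lq_inv_iInf fun j _ => h.aa i j,
    lq_inv_iInf fun j hj => (h.cent i j (Finset.ne_of_mem_erase hj).symm).symm⟩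

/-- A nonzero invariant subspace of `[V, d i]` meets the fixed space of the other `a j` in an even
nonzero dimension. -/
theorem lq_small (h : TD F B a d) (s : Finset (Fin k)) (i : Fin k) {W : Submodule (ZMod 2) V}
    (hle : W ≤ cm ⊤ (d i)) (hne : W ≠ ⊥) (ha : ∀ j, Inv W (a j)) (hd : Inv W (d i)) :
    ∃ c, 0 < c ∧
      finrank (ZMod 2) (W ⊓ ⨅ j ∈ s.erase i, fx (a j) : Submodule (ZMod 2) V) = 2 * c ∧
      finrank (ZMod 2) ((W ⊓ ⨅ j ∈ s.erase i, fx (a j)) ⊓ fx (a i) : Submodule (ZMod 2) V) = c := by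
  obtain ⟨e1, e2, -⟩ := free (h.a2 i) (h.odd i) (h.inv i) ((ha i).inf (lq_invP h s i).1)
    (hd.inf (lq_invP h s i).2) (fpf_of_le (h.odd i) (inf_le_left.trans hle))
  refine ⟨_, ?_, e1, by rw [e2]⟩
  have h0 := lq_ne_bot h (s.erase i) hne fun j _ => ha j
  have : finrank (ZMod 2) (W ⊓ ⨅ j ∈ s.erase i, fx (a j) : Submodule (ZMod 2) V) ≠ 0 := by
    rw [Ne, Submodule.finrank_eq_zero]; exact h0
  omega

theorem lq_dich (h : TD F B a d) (s : Finset (Fin k)) (i j : Fin k)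
    (h3 : finrank (ZMod 2) (cm ⊤ (d i) ⊓ ⨅ l ∈ s.erase i, fx (a l) : Submodule (ZMod 2) V) ≤ 3) :
    cm ⊤ (d i) ≤ fx (d j) ∨ cm ⊤ (d i) ⊓ fx (d j) = ⊥ := by
  by_contra hc
  rw [not_or] at hc
  obtain ⟨c1, c2⟩ := hc
  have hle : cm (cm ⊤ (d i)) (d j) ≤ cm ⊤ (d i) := (lq_invV h i j).2.cm_le
  obtain ⟨x, x0, ex, -⟩ := lq_small h s i hle (fun e => c1 (cm_eq_bot.1 e))
    (fun l => h.inv_cm (lq_invV h i l).1 (lq_invV h i j).2)
    (Inv.cm_comm (h.comm i j) (lq_invV h i i).2)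
  obtain ⟨y, y0, ey, -⟩ := lq_small h s i (W := cm ⊤ (d i) ⊓ fx (d j)) inf_le_left c2
    (fun l => (lq_invV h i l).1.inf (h.inv_fx j l))
    ((lq_invV h i i).2.inf (Inv.fx_comm (h.comm i j)))
  have hdis : (cm (cm ⊤ (d i)) (d j) ⊓ ⨅ l ∈ s.erase i, fx (a l)) ⊓
      (cm ⊤ (d i) ⊓ fx (d j) ⊓ ⨅ l ∈ s.erase i, fx (a l)) = (⊥ : Submodule (ZMod 2) V) := by
    rw [eq_bot_iff, ← cm_inf_fx (h.odd j) (cm ⊤ (d i))]
    exact inf_le_inf inf_le_left (inf_le_left.trans inf_le_right)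
  have hs := finrank_sup_of_disj hdis
  have hm : finrank (ZMod 2) ((cm (cm ⊤ (d i)) (d j) ⊓ ⨅ l ∈ s.erase i, fx (a l)) ⊔
      (cm ⊤ (d i) ⊓ fx (d j) ⊓ ⨅ l ∈ s.erase i, fx (a l)) : Submodule (ZMod 2) V) ≤
      finrank (ZMod 2) (cm ⊤ (d i) ⊓ ⨅ l ∈ s.erase i, fx (a l) : Submodule (ZMod 2) V) :=
    Submodule.finrank_mono (sup_le (inf_le_inf_right _ hle) (inf_le_inf_right _ inf_le_left))
  omega

theorem lq_three (h : TD F B a d) (s : Finset (Fin k)) (i : Fin k)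
    (h3 : finrank (ZMod 2) (cm ⊤ (d i) ⊓ ⨅ l ∈ s.erase i, fx (a l) : Submodule (ZMod 2) V) ≤ 3) :
    orderOf (d i) = 3 := by
  obtain ⟨c, c0, ec, -⟩ := lq_small h s i le_rfl (lq_V_ne h i) (fun l => (lq_invV h i l).1)
    (lq_invV h i i).2
  have h2 : finrank (ZMod 2) (cm ⊤ (d i) ⊓ ⨅ l ∈ s.erase i, fx (a l) : Submodule (ZMod 2) V) = 2 := by
    omega
  have hf := fpf_of_le (h.odd i)
    (inf_le_left : (cm ⊤ (d i) ⊓ ⨅ l ∈ s.erase i, fx (a l) : Submodule (ZMod 2) V) ≤ _)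
  have hne : (cm ⊤ (d i) ⊓ ⨅ l ∈ s.erase i, fx (a l) : Submodule (ZMod 2) V) ≠ ⊥ := by
    intro e; rw [e] at h2; simp at h2
  obtain ⟨v, hv, v0⟩ := Submodule.exists_mem_ne_zero_of_ne_bot hne
  have hc := cube_of_sq (sq_of_two_dim h2 ((lq_invV h i i).2.inf (lq_invP h s i).2) hf hv)
  by_contra h3'
  have hz : d i ∈ zpowers (d i ^ 3) := by
    rw [mem_zpowers_pow_iff]
    exact (Nat.coprime_primes Nat.prime_three (h.prime i)).2 (Ne.symm h3')
  have hv3 : v ∈ fx (d i ^ 3) := by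
    rw [mem_fx, pow_succ, pow_succ, pow_one, gmul, gmul]; exact hc
  have : v ∈ (⊥ : Submodule (ZMod 2) V) := hf ▸ ⟨hv, fx_le_zpowers hz hv3⟩
  exact v0 this

theorem lq_two_pow {n : ℕ} (hn : 3 ≤ n) : 2 * n + 1 ≤ 2 ^ n := by
  induction n, hn using Nat.le_induction with
  | base => norm_num
  | succ n _ ih => rw [pow_succ]; omega

theorem lq_big (h : TD F B a d) (ho : ∀ x, ¬ Om F x) (s : Finset (Fin k))
    (hB : ∀ i ∈ s,
      finrank (ZMod 2) (cm ⊤ (d i) ⊓ ⨅ l ∈ s.erase i, fx (a l) : Submodule (ZMod 2) V) ≤ 3)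
    {i : Fin k} (hi : i ∈ s) {I : Finset (Fin k)} (hiI : i ∈ I) (hIs : I ⊆ s)
    (hI : ∀ j ∈ I, cm ⊤ (d i) ⊓ fx (d j) = ⊥) :
    2 * I.card + 1 ≤ finrank (ZMod 2) (cm ⊤ (d i)) := by
  have e := lq_half h I (W := cm ⊤ (d i)) fun j hj => ⟨(lq_invV h i j).1, (lq_invV h i j).2, hI j hj⟩
  have h0 : finrank (ZMod 2) (cm ⊤ (d i)) ≠ 0 := by
    rw [Ne, Submodule.finrank_eq_zero]; exact lq_V_ne h i
  generalize finrank (ZMod 2) (cm ⊤ (d i) ⊓ ⨅ j ∈ I, fx (a j) : Submodule (ZMod 2) V) = c at e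
  have c0 : 0 < c := by
    rcases Nat.eq_zero_or_pos c with rfl | hc
    · exact absurd (by simpa using e) h0
    · exact hc
  have hpos : 0 < I.card := Finset.card_pos.2 ⟨i, hiI⟩
  rcases Nat.lt_or_ge I.card 3 with hlt | hge
  · have h2 : finrank (ZMod 2) (cm ⊤ (d i)) ≠ 2 := fun e2 =>
      ho _ (om_of_two (h.d_mem i) (h.odd i) e2)
    rcases (by omega : I.card = 1 ∨ I.card = 2) with e1 | e1
    · rw [e1] at e ⊢; omega
    · have h4 : finrank (ZMod 2) (cm ⊤ (d i)) ≠ 4 := by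
        intro e4
        obtain ⟨j, hj, hji⟩ : ∃ j ∈ I, j ≠ i := by
          by_contra hc
          push Not at hc
          have : I ⊆ {i} := fun j hj => Finset.mem_singleton.2 (hc j hj)
          have := Finset.card_le_card this
          simp at this; omega
        have l1 : cm ⊤ (d i) ≤ cm ⊤ (d j) := by
          rw [← cm_eq_of_fpf (lq_invV h i j).2 (hI j hj)]
          exact cm_mono le_top _
        have l2 : cm ⊤ (d j) ≤ cm ⊤ (d i) := by
          rcases lq_dich h s j i (hB j (hIs hj)) with g | g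
          · exact absurd (eq_one_of_cm_le (h.odd i) (l1.trans g)) (h.d_ne i)
          · rw [← cm_eq_of_fpf (lq_invV h j i).2 g]
            exact cm_mono le_top _
        refine ho _ (pair4 (b := a j) (h.d_mem i) (h.d_mem j) (h.comm i j) (lq_three h s i (hB i hi))
          (lq_three h s j (hB j (hIs hj))) (le_antisymm l2 l1) e4 ?_).1
        rw [← h.inv j, ← mul_assoc, h.cent i j hji.symm]
        simp only [mul_assoc]
      rw [e1] at e ⊢; omega
  · have := lq_two_pow hge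
    have : 2 ^ I.card ≤ 2 ^ I.card * c := Nat.le_mul_of_pos_right _ c0
    omega

/-- The inductive form of `lin_q2`. -/
theorem lin_aux (h : TD F B a d) (ho : ∀ x, ¬ Om F x) (s : Finset (Fin k))
    {W : Submodule (ZMod 2) V} (hW : ∀ j ∈ s, Inv W (a j) ∧ cm ⊤ (d j) ≤ W) :
    finrank (ZMod 2) (W ⊓ ⨅ j ∈ s, fx (a j) : Submodule (ZMod 2) V) + 2 * s.card ≤
      finrank (ZMod 2) W := by
  classical
  induction s using Finset.strongInduction generalizing W with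
  | H s ih =>
  rcases s.eq_empty_or_nonempty with rfl | ⟨i, hi⟩
  · simpa using Submodule.finrank_mono (inf_le_left : W ⊓ _ ≤ W)
  by_cases hB : ∀ i ∈ s,
      finrank (ZMod 2) (cm ⊤ (d i) ⊓ ⨅ l ∈ s.erase i, fx (a l) : Submodule (ZMod 2) V) ≤ 3
  · set I := s.filter fun j => cm ⊤ (d i) ⊓ fx (d j) = ⊥ with hI
    set I' := s.filter fun j => ¬ cm ⊤ (d i) ⊓ fx (d j) = ⊥ with hI'
    have hcard : I.card + I'.card = s.card := Finset.card_filter_add_card_filter_not _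
    have hiI : i ∈ I := Finset.mem_filter.2 ⟨hi, cm_inf_fx (h.odd i) ⊤⟩
    have hbig := lq_big h ho s hB hi hiI (Finset.filter_subset _ _)
      fun j hj => (Finset.mem_filter.1 hj).2
    have hss : I' ⊂ s := by
      refine Finset.ssubset_iff_subset_ne.2 ⟨Finset.filter_subset _ _, fun e => ?_⟩
      have : i ∈ I' := e ▸ hi
      exact (Finset.mem_filter.1 this).2 (cm_inf_fx (h.odd i) ⊤)
    have hIH := ih I' hss (W := W ⊓ fx (d i)) (by
      intro j hj
      obtain ⟨hjs, hj'⟩ := Finset.mem_filter.1 hj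
      refine ⟨(hW j hjs).1.inf (h.inv_fx i j), le_inf (hW j hjs).2 ?_⟩
      have l1 : cm ⊤ (d i) ≤ fx (d j) := (lq_dich h s i j (hB i hi)).resolve_right hj'
      rcases lq_dich h s j i (hB j hjs) with g | g
      · exact g
      · refine absurd (eq_one_of_cm_le (h.odd j) ?_) (h.d_ne j)
        rw [← cm_eq_of_fpf (lq_invV h j i).2 g]
        exact (cm_mono le_top _).trans l1)
    have hWd : Inv W (d i) := Inv.of_cm_le (hW i hi).2
    have hcm : cm W (d i) = cm ⊤ (d i) := by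
      refine le_antisymm (cm_mono le_top _) ?_
      rw [← (compl_odd (h.odd i) (Inv.top (d i))).2.2]
      exact cm_mono (hW i hi).2 _
    have hadd := finrank_cm_add W (d i)
    rw [hcm] at hadd
    obtain ⟨c, -, ec, ec'⟩ := lq_small h s i le_rfl (lq_V_ne h i) (fun l => (lq_invV h i l).1)
      (lq_invV h i i).2
    rw [← lq_erase hi] at ec'
    have hc3 := hB i hi
    have hle : (W ⊓ ⨅ j ∈ s, fx (a j) : Submodule (ZMod 2) V) ≤
        (cm ⊤ (d i) ⊓ ⨅ j ∈ s, fx (a j)) ⊔ (W ⊓ fx (d i) ⊓ ⨅ j ∈ I', fx (a j)) := by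
      rintro x ⟨hxW, hx⟩
      have hx2 : x ∈ cm W (d i) ⊔ (W ⊓ fx (d i)) := by
        rw [(compl_odd (h.odd i) hWd).2.1]; exact hxW
      rw [hcm] at hx2
      obtain ⟨y, hy, z, hz, rfl⟩ := Submodule.mem_sup.1 hx2
      have key : ∀ j ∈ s, a j y = y ∧ a j z = z := by
        intro j hj
        have e0 : a j (y + z) = y + z := by
          have hx' : y + z ∈ (⨅ j ∈ s, fx (a j) : Submodule (ZMod 2) V) := hx
          simp only [Submodule.mem_iInf] at hx'
          exact mem_fx.1 (hx' j hj)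
        rw [map_add] at e0
        have e1 : a j y - y = z - a j z := by
          rw [sub_eq_sub_iff_add_eq_add, e0, add_comm]
        have m1 : a j y - y ∈ cm ⊤ (d i) := sub_mem ((lq_invV h i j).1 y hy) hy
        have m2 : a j y - y ∈ fx (d i) := e1 ▸ sub_mem hz.2 (h.inv_fx i j z hz.2)
        have m0 : a j y - y ∈ (⊥ : Submodule (ZMod 2) V) := cm_inf_fx (h.odd i) ⊤ ▸ ⟨m1, m2⟩
        have m0' : a j y - y = 0 := m0
        exact ⟨sub_eq_zero.1 m0', (sub_eq_zero.1 (e1 ▸ m0')).symm⟩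
      refine Submodule.add_mem_sup ⟨hy, ?_⟩ ⟨hz, ?_⟩
      · change y ∈ (⨅ j ∈ s, fx (a j) : Submodule (ZMod 2) V)
        simp only [Submodule.mem_iInf]
        exact fun j hj => mem_fx.2 (key j hj).1
      · change z ∈ (⨅ j ∈ I', fx (a j) : Submodule (ZMod 2) V)
        simp only [Submodule.mem_iInf]
        exact fun j hj => mem_fx.2 (key j (Finset.mem_filter.1 hj).1).2
    have hm := Submodule.finrank_mono hle
    have hs := Submodule.finrank_add_le_finrank_add_finrank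
      (cm ⊤ (d i) ⊓ ⨅ j ∈ s, fx (a j) : Submodule (ZMod 2) V)
      (W ⊓ fx (d i) ⊓ ⨅ j ∈ I', fx (a j))
    omega
  · push Not at hB
    obtain ⟨i, hi, h4⟩ := hB
    have hIH := ih (s.erase i) (Finset.erase_ssubset hi) (W := W)
      fun j hj => hW j (Finset.mem_of_mem_erase hj)
    have hCa := (hW i hi).1.inf (lq_invP h s i).1
    have hCd := (Inv.of_cm_le (hW i hi).2).inf (lq_invP h s i).2
    obtain ⟨W', -, e1, e2, -⟩ := h.drop i hCa hCd
    have hm := Submodule.finrank_mono e2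
    rw [← lq_erase hi] at hm
    have hle : (cm ⊤ (d i) ⊓ ⨅ l ∈ s.erase i, fx (a l) : Submodule (ZMod 2) V) ≤
        cm (W ⊓ ⨅ l ∈ s.erase i, fx (a l)) (d i) := by
      rw [← cm_eq_of_fpf ((lq_invV h i i).2.inf (lq_invP h s i).2)
        (fpf_of_le (h.odd i) inf_le_left)]
      exact cm_mono (inf_le_inf_right _ (hW i hi).2) _
    have hm2 := Submodule.finrank_mono hle
    have hc := Finset.card_erase_add_one hi
    omega

/-- Without reflections of order three, `m(V / C_V(B)) ≥ 2 m(B)`. -/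
theorem lin_q2 (h : TD F B a d) (ho : ∀ x, ¬ Om F x) :
    finrank (ZMod 2) (fxS B) + 2 * k ≤ finrank (ZMod 2) V := by
  have := lin_aux h ho Finset.univ (W := ⊤) fun j _ => ⟨Inv.top _, le_top⟩
  rw [top_inf_eq, ← h.fxS_eq, Finset.card_univ, Fintype.card_fin, finrank_top] at this
  exact this

/-- The strict inequality for quadratic groups without small involutions. -/
theorem lin_q3 (h : TD F B a d) (ho : ∀ x, ¬ Om F x) (hq : cmS ⊤ B ≤ fxS B) (hk : 0 < k)
    (h3 : ∀ t ∈ B, t ≠ 1 → 3 ≤ finrank (ZMod 2) (cm ⊤ t)) :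
    finrank (ZMod 2) (fxS B) + 2 * k < finrank (ZMod 2) V := by
  let i : Fin k := ⟨0, hk⟩
  have h1 := lin_aux h ho (Finset.univ.erase i) (W := fx (a i)) fun j hj =>
    ⟨Inv.fx_comm (h.aa j i),
      ((h.quad hq).1 j i (Finset.ne_of_mem_erase hj)).1.trans inf_le_left⟩
  have h2 := finrank_cm_top (a i)
  have h3' := h3 (a i) (h.am i) (h.a_ne_one i).1
  have hle : fxS B ≤ fx (a i) ⊓ ⨅ j ∈ Finset.univ.erase i, fx (a j) :=
    le_inf (fxS_le (h.am i)) (le_iInf₂ fun j _ => fxS_le (h.am j))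
  have hm := Submodule.finrank_mono hle
  have hc := Finset.card_erase_add_one (Finset.mem_univ i)
  rw [Finset.card_univ, Fintype.card_fin] at hc
  omega

end CfsgLib.Cop
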